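/-
Arithmetic for the three self-centralising subgroups.

* `l_eq_zero`  : the common character vanishes on involutions
* `exists_i`   : the order of the centraliser of an involution
* `bounds`     : `n₂ + n₃` against `2 n₁`
* `i_one`      : the centraliser has the order of the common degree
* `s_eq_zero`  : there is no further irreducible character
-/
import Cfsg.Agent.EqLemmas
import Mathlib.Algebra.Order.Ring.Abs
import Mathlib.Data.Fintype.BigOperators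
import Mathlib.RingTheory.Coprime.Lemmas
import Mathlib.Tactic.Linarith
import Mathlib.Tactic.LinearCombination
import Mathlib.Tactic.Positivity
import Mathlib.Tactic.IntervalCases

set_option autoImplicit false

namespace Cfsg.Agent.SelfCent.Numeric

theorem l_eq_zero {n₁ n₂ n₃ L l j T : ℤ} (h₁ : 5 ≤ n₁) (h₂ : 9 ≤ n₂) (h₃ : 13 ≤ n₃)
    (h23 : n₂ ≤ n₃) (hP : n₂ * n₃ ≤ |L| + 1) (hpos : n₃ * |l| ≤ |L| + n₃ - 1) (hdvd : L ∣ j * l)
    (hj : 0 < j) (hM : (j * (L - l)) ^ 2 ≤ 3 * n₁ * (L * (L + 1)))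
    (hU : n₁ * (L * (L + 1)) ≤ (L - l) ^ 2 * (T + 5)) (hT : 4 * T + 4 = 2 * n₁ + n₂ + n₃) : l = 0 := by
  by_contra hl
  set A := |L| with hA
  have hLA : L ≤ A ∧ -L ≤ A := ⟨le_abs_self L, neg_le_abs L⟩
  have hA116 : 116 ≤ A := by nlinarith
  have h9 : 9 * n₃ ≤ A + 1 := by nlinarith
  have hl1 : 1 ≤ |l| := Int.one_le_abs hl
  have hl117 : 117 * |l| ≤ 10 * A := by nlinarith
  have hlA : |l| ≤ A := by omega
  -- `A ≤ j |l|`
  have hjl : A ≤ j * |l| := by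
    have h := Int.le_of_dvd (abs_pos.2 (mul_ne_zero hj.ne' hl)) ((abs_dvd _ _).2 ((dvd_abs _ _).2 hdvd))
    rwa [abs_mul, abs_of_pos hj] at h
  have hd : A - |l| ≤ |L - l| := abs_sub_abs_le_abs_sub L l
  have hLL : L * (L + 1) ≤ A * (A + 1) := by
    rcases abs_choice L with h | h <;> rw [← hA] at h <;> nlinarith
  have hLL' : A * (A - 1) ≤ L * (L + 1) := by
    rcases abs_choice L with h | h <;> rw [← hA] at h <;> nlinarith
  have hstep : A * (A - |l|) ≤ |l| * |j * (L - l)| := by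
    rw [abs_mul, abs_of_pos hj]
    calc A * (A - |l|) ≤ j * |l| * |L - l| := by
          apply mul_le_mul hjl hd (by omega) (by positivity)
      _ = _ := by ring
  have hsq : (A * (A - |l|)) ^ 2 ≤ l ^ 2 * (3 * n₁ * (A * (A + 1))) := by
    have h := pow_le_pow_left₀ (mul_nonneg (by omega) (by omega)) hstep 2
    rw [mul_pow |l|, sq_abs, sq_abs] at h
    refine h.trans (mul_le_mul_of_nonneg_left (hM.trans ?_) (sq_nonneg _))
    exact mul_le_mul_of_nonneg_left hLL (by omega)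
  -- multiply by `n₃²`
  have hm : (n₃ - 1) * (A - 1) ≤ n₃ * (A - |l|) := by nlinarith
  have hmain : (A * ((n₃ - 1) * (A - 1))) ^ 2 ≤ (A + n₃ - 1) ^ 2 * (3 * n₁ * (A * (A + 1))) := by
    have e1 : (A * ((n₃ - 1) * (A - 1))) ^ 2 ≤ (A * (n₃ * (A - |l|))) ^ 2 :=
      pow_le_pow_left₀ (mul_nonneg (by omega) (mul_nonneg (by omega) (by omega)))
        (mul_le_mul_of_nonneg_left hm (by omega)) 2
    have e2 : (A * (n₃ * (A - |l|))) ^ 2 ≤ (n₃ * |l|) ^ 2 * (3 * n₁ * (A * (A + 1))) := by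
      rw [mul_pow n₃ |l|, sq_abs, show (A * (n₃ * (A - |l|))) ^ 2 = n₃ ^ 2 * (A * (A - |l|)) ^ 2 by ring,
        mul_assoc]
      exact mul_le_mul_of_nonneg_left hsq (sq_nonneg _)
    refine e1.trans (e2.trans (mul_le_mul_of_nonneg_right (pow_le_pow_left₀ (by positivity) hpos 2) ?_))
    have : 0 ≤ A * (A + 1) := mul_nonneg (by omega) (by omega)
    positivity
  -- cancel powers of `A`
  have c1 : 9 * (A + n₃ - 1) ≤ 10 * A := by omega
  have c2 : 81 * (A + n₃ - 1) ^ 2 ≤ 100 * A ^ 2 := by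
    have := pow_le_pow_left₀ (by omega) c1 2
    linarith
  have c3 : 115 ^ 2 * A ^ 2 ≤ 116 ^ 2 * (A - 1) ^ 2 := by
    have := pow_le_pow_left₀ (by omega) (show 115 * A ≤ 116 * (A - 1) by omega) 2
    linarith
  have hA2 : 0 < A ^ 2 := by positivity
  have k1 : 81 * 115 ^ 2 * A ^ 2 * (n₃ - 1) ^ 2 * A ^ 2 ≤ 300 * 116 * 117 * n₁ * A ^ 2 * A ^ 2 := by
    calc 81 * 115 ^ 2 * A ^ 2 * (n₃ - 1) ^ 2 * A ^ 2
        = 81 * (n₃ - 1) ^ 2 * A ^ 2 * (115 ^ 2 * A ^ 2) := by ring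
      _ ≤ 81 * (n₃ - 1) ^ 2 * A ^ 2 * (116 ^ 2 * (A - 1) ^ 2) :=
          mul_le_mul_of_nonneg_left c3 (by positivity)
      _ = 116 ^ 2 * 81 * (A * ((n₃ - 1) * (A - 1))) ^ 2 := by ring
      _ ≤ 116 ^ 2 * 81 * ((A + n₃ - 1) ^ 2 * (3 * n₁ * (A * (A + 1)))) :=
          mul_le_mul_of_nonneg_left hmain (by norm_num)
      _ = 116 * 3 * n₁ * A * (81 * (A + n₃ - 1) ^ 2) * (116 * (A + 1)) := by ring
      _ ≤ 116 * 3 * n₁ * A * (100 * A ^ 2) * (116 * (A + 1)) := by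
          refine mul_le_mul_of_nonneg_right (mul_le_mul_of_nonneg_left c2 ?_) (by omega)
          positivity
      _ ≤ 116 * 3 * n₁ * A * (100 * A ^ 2) * (117 * A) := by
          refine mul_le_mul_of_nonneg_left (by omega) ?_
          positivity
      _ = _ := by ring
  have k2 : (n₃ - 1) ^ 2 ≤ 4 * n₁ := by
    have := le_of_mul_le_mul_right k1 hA2
    have : 81 * 115 ^ 2 * (n₃ - 1) ^ 2 ≤ 300 * 116 * 117 * n₁ :=
      le_of_mul_le_mul_right (by linarith) hA2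
    nlinarith
  -- against the count
  by_cases hn : n₁ ≤ 35
  · nlinarith
  have u1 : 117 * |L - l| ≤ 127 * A := by
    have := abs_sub L l
    omega
  have u2 : 13689 * (L - l) ^ 2 ≤ 16129 * A ^ 2 := by
    have := pow_le_pow_left₀ (by positivity) u1 2
    rw [mul_pow, sq_abs] at this
    linarith
  have u3 : 115 * A ^ 2 ≤ 116 * (L * (L + 1)) := by nlinarith
  have u4 : 1574235 * n₁ ≤ 1870964 * (T + 5) := by
    refine le_of_mul_le_mul_right ?_ hA2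
    calc 1574235 * n₁ * A ^ 2 = 13689 * n₁ * (115 * A ^ 2) := by ring
      _ ≤ 13689 * n₁ * (116 * (L * (L + 1))) := mul_le_mul_of_nonneg_left u3 (by omega)
      _ = 13689 * 116 * (n₁ * (L * (L + 1))) := by ring
      _ ≤ 13689 * 116 * ((L - l) ^ 2 * (T + 5)) := mul_le_mul_of_nonneg_left hU (by norm_num)
      _ = 116 * (T + 5) * (13689 * (L - l) ^ 2) := by ring
      _ ≤ 116 * (T + 5) * (16129 * A ^ 2) := mul_le_mul_of_nonneg_left u2 (by omega)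
      _ = _ := by ring
  have u5 : 2555012 * n₁ ≤ 3741928 * (n₃ + 8) := by omega
  nlinarith

theorem exists_i {P L κ h j : ℤ} (hL : L ≠ 0) (hL1 : L + 1 ≠ 0) (hκ : L + 1 = P * κ) (hh : 0 < h) (hj : 0 < j)
    (he : h * (L * (L + 1)) = P * j * L ^ 2) : ∃ i, 0 < i ∧ h = i * |L| ∧ j = i * |κ| := by
  have hP : P ≠ 0 := fun e => hL1 (by rw [hκ, e, zero_mul])
  have h1 : h * κ = j * L := by
    refine mul_left_cancel₀ (mul_ne_zero hP hL) ?_
    linear_combination he - h * L * hκ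
  have hcop : IsCoprime L κ := ⟨-1, P, by rw [← hκ]; ring⟩
  obtain ⟨q, hq⟩ := hcop.dvd_of_dvd_mul_right (Dvd.intro_left j h1.symm)
  have hj' : q * κ = j := by
    refine mul_left_cancel₀ hL ?_
    linear_combination h1 - κ * hq
  refine ⟨|q|, abs_pos.2 fun e => ?_, ?_, ?_⟩
  · rw [e, mul_zero] at hq; omega
  · rw [← abs_mul, mul_comm, ← hq, abs_of_pos hh]
  · rw [← abs_mul, hj', abs_of_pos hj]

theorem bounds {n₁ n₂ n₃ A e i s T B : ℤ} (h₁ : 5 ≤ n₁) (h₁o : ∃ m, n₁ = 2 * m + 1) (h₂ : 9 ≤ n₂)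
    (h₃ : 13 ≤ n₃) (h23 : n₂ < n₃) (he : e = 1 ∨ e = -1) (hB : 1 ≤ B) (hP : A + e = n₂ * n₃ * B)
    (h1L : n₁ ∣ e * A - 1) (hnine : ¬ (n₁ = 9 ∧ n₂ = 9)) (hi : 0 < i) (hs : s ≤ 2)
    (hT : 4 * T + 4 = 2 * n₁ + n₂ + n₃)
    (hlow : n₁ * i * (A + e) + n₁ * i ^ 2 * (A * (A + e)) * T ≤ (n₁ * i * (A + e)) ^ 2)
    (hup : (n₁ * i * (A + e)) ^ 2 + n₁ * i ^ 2 * (A * (A + e)) ≤ n₁ * i ^ 2 * (A * (A + e)) * (T + 4 + s)) :
    11 ≤ n₁ ∧ n₁ < A ∧ n₂ + n₃ ≤ 2 * n₁ + 4 ∧ 2 * n₁ + 4 ≤ n₂ + n₃ + 4 * (3 + s) ∧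
      A * T < n₁ * (A + e) ∧ n₁ * (A + e) ≤ A * (T + 3 + s) := by
  have hPB : 117 ≤ n₂ * n₃ := by nlinarith
  have hA : 116 ≤ A := by rcases he with rfl | rfl <;> nlinarith
  have hAe : 0 < A + e := by omega
  have hc : 0 < n₁ * i ^ 2 * (A + e) := mul_pos (mul_pos (by omega) (pow_pos hi 2)) hAe
  have l1 : A * T < n₁ * (A + e) := by
    refine lt_of_mul_lt_mul_left ?_ hc.le
    have : 0 < n₁ * i * (A + e) := mul_pos (mul_pos (by omega) hi) hAe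
    linarith
  have l2 : n₁ * (A + e) ≤ A * (T + 3 + s) := by
    refine le_of_mul_le_mul_left ?_ hc
    linarith
  have hA1 : n₁ < A := by
    by_contra hle
    obtain ⟨k, hk⟩ := h1L
    have hk0 : k = 0 ∨ k = -1 := by
      rcases he with rfl | rfl
      · refine Or.inl ?_
        have : -1 < k := by nlinarith
        have : k < 1 := by nlinarith
        omega
      · refine Or.inr ?_
        have : -2 < k := by nlinarith
        have : k < 0 := by nlinarith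
        omega
    rcases hk0 with rfl | rfl
    · rcases he with rfl | rfl <;> omega
    · rcases he with rfl | rfl
      · omega
      · have hAn : A = n₁ - 1 := by omega
        subst hAn
        have hbig : 9 * n₃ ≤ n₁ - 2 := by nlinarith
        -- the count is impossible
        have : (n₁ - 1) * (T + 5) ≥ n₁ * (n₁ - 2) := by nlinarith
        nlinarith
  have hT1 : T ≤ n₁ := by
    by_contra hlt
    have : A * (n₁ + 1) ≤ A * T := mul_le_mul_of_nonneg_left (by omega) (by omega)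
    rcases he with rfl | rfl <;> nlinarith
  have hT2 : n₁ ≤ T + 3 + s := by
    by_contra hlt
    have : A * (T + 3 + s) ≤ A * (n₁ - 1) := mul_le_mul_of_nonneg_left (by omega) (by omega)
    rcases he with rfl | rfl <;> nlinarith
  refine ⟨?_, hA1, by omega, by omega, l1, l2⟩
  obtain ⟨m, rfl⟩ := h₁o
  omega

theorem sq_three {c h : ℤ} (hh : 3 ≤ 2 * h) (hc : 2 * h - 3 ≤ 3 * |c|) : (2 * h - 3) ^ 2 ≤ 9 * c ^ 2 := by
  have := pow_le_pow_left₀ (by omega) hc 2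
  rw [mul_pow, sq_abs] at this
  linarith

theorem i_one {n₁ n₂ n₃ t₁ t₂ t₃ A e i τ s B a b : ℤ} (h₁ : 11 ≤ n₁) (e₁ : n₁ = 2 * t₁ + 1)
    (e₂ : n₂ = 4 * t₂ + 1) (e₃ : n₃ = 4 * t₃ + 1) (h₂ : 2 ≤ t₂) (h23 : t₂ < t₃) (hnn : n₂ + n₃ ≤ 2 * n₁ + 4)
    (he : e = 1 ∨ e = -1) (hτ : τ = 1 ∨ τ = -1) (hi : 0 < i) (hiodd : Odd i) (hs : s ≤ 2) (hB : 1 ≤ B)
    (hP : A + e = n₂ * n₃ * B) (h1L : n₁ ∣ e * A - 1)
    (hlow : A * (t₁ + t₂ + t₃) < n₁ * (A + e))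
    (hab : a + b = 2 * (e * A - 1 - τ * (i * A)))
    (hsum : A * ((e * A - τ * (i * A)) ^ 2 + t₁ * (e * A + 1 - τ * (i * A)) ^ 2 + (t₂ * a ^ 2 + t₃ * b ^ 2))
        + A ≤ (i * A) ^ 2 * ((t₁ + t₂ + t₃ + 3 + s) * A - n₁ * (A + e))) :
    i = 1 ∧ τ = e := by
  by_contra hcon
  have hPB : 117 ≤ n₂ * n₃ := by subst e₂; subst e₃; nlinarith
  have hA : 116 ≤ A := by rcases he with rfl | rfl <;> nlinarith
  set h := i * A with hh
  have hhA : A ≤ h := by nlinarith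
  set c := e * A - τ * h with hc
  have hu : 2 * h ≤ 3 * |c| := by
    have habs : 2 * h ≤ 3 * |c| ↔ 2 * h ≤ 3 * |c| := Iff.rfl
    rcases eq_or_ne i 1 with rfl | hne
    · have : τ = -e := by rcases he with rfl | rfl <;> rcases hτ with rfl | rfl <;> simp_all
      subst this
      rw [one_mul] at hh
      have e' : |c| = 2 * A := by
        rcases he with rfl | rfl <;> simp [hc, hh] <;> rw [abs_eq (by omega)] <;> omega
      omega
    · obtain ⟨m, rfl⟩ := hiodd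
      have hm : 1 ≤ m := by omega
      have : h - A ≤ |c| := by
        refine le_trans ?_ (abs_sub_abs_le_abs_sub (τ * h) (e * A) |>.trans (abs_sub_comm _ _).le)
        rcases he with rfl | rfl <;> rcases hτ with rfl | rfl <;> simp [abs_of_nonneg (show 0 ≤ h by omega),
          abs_of_nonneg (show 0 ≤ A by omega)]
      nlinarith
  have q1 : (2 * h - 3) ^ 2 ≤ 9 * c ^ 2 := sq_three (by omega) (by omega)
  have q2 : (2 * h - 3) ^ 2 ≤ 9 * (c + 1) ^ 2 := sq_three (by omega) (by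
    have := abs_add_le (c + 1) (-1 : ℤ); simp at this; omega)
  have q3 : (2 * h - 3) ^ 2 ≤ 9 * (c - 1) ^ 2 := sq_three (by omega) (by
    have := abs_add_le (c - 1) (1 : ℤ); simp at this; omega)
  have q4 : 4 * t₂ * t₃ * (c - 1) ^ 2 ≤ (t₂ + t₃) * (t₂ * a ^ 2 + t₃ * b ^ 2) := by
    have hb : b = 2 * (c - 1) - a := by rw [hc]; linarith
    have hid : (t₂ + t₃) * (t₂ * a ^ 2 + t₃ * b ^ 2) =
        4 * t₂ * t₃ * (c - 1) ^ 2 + (t₂ * a - t₃ * b) ^ 2 := by subst hb; ring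
    linarith [sq_nonneg (t₂ * a - t₃ * b)]
  set W := (t₂ + t₃) * (1 + t₁) + 4 * t₂ * t₃ with hW
  have ht1 : 0 ≤ t₁ := by omega
  have hmain : A * (W * (2 * h - 3) ^ 2) <
      9 * (t₂ + t₃) * (h ^ 2 * ((t₁ + t₂ + t₃ + 3 + s) * A - n₁ * (A + e))) := by
    have e5 : W * (2 * h - 3) ^ 2 ≤
        9 * ((t₂ + t₃) * (c ^ 2 + t₁ * (c + 1) ^ 2) + 4 * t₂ * t₃ * (c - 1) ^ 2) := by
      have := mul_le_mul_of_nonneg_left q1 (show 0 ≤ t₂ + t₃ by omega)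
      have := mul_le_mul_of_nonneg_left q2 (show 0 ≤ (t₂ + t₃) * t₁ from mul_nonneg (by omega) (by omega))
      have := mul_le_mul_of_nonneg_left q3 (show 0 ≤ 4 * t₂ * t₃ from mul_nonneg (by omega) (by omega))
      rw [hW]
      linarith
    have e6 : A * (c ^ 2 + t₁ * (c + 1) ^ 2 + (t₂ * a ^ 2 + t₃ * b ^ 2)) + A ≤
        h ^ 2 * ((t₁ + t₂ + t₃ + 3 + s) * A - n₁ * (A + e)) := by
      have : c + 1 = e * A + 1 - τ * h := by rw [hc]; ring
      rw [this]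
      exact hsum
    have := mul_le_mul_of_nonneg_left e6 (show 0 ≤ 9 * (t₂ + t₃) by omega)
    have := mul_le_mul_of_nonneg_left e5 (show 0 ≤ A by omega)
    have := mul_le_mul_of_nonneg_left q4 (show 0 ≤ 9 * A by omega)
    have : 0 < 9 * (t₂ + t₃) * A := mul_pos (by omega) (by omega)
    linarith
  have hR : (t₁ + t₂ + t₃ + 3 + s) * A - n₁ * (A + e) < 5 * A := by
    nlinarith
  have hh2 : 0 < h ^ 2 := pow_pos (by omega) 2
  by_cases h13 : 13 ≤ n₁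
  · have hW' : 59 * (t₂ + t₃) ≤ 5 * W := by
      rw [hW]
      nlinarith
    have k1 : 59 * (2 * h - 3) ^ 2 < 225 * h ^ 2 := by
      refine lt_of_mul_lt_mul_left ?_ (show 0 ≤ A * (t₂ + t₃) from mul_nonneg (by omega) (by omega))
      calc A * (t₂ + t₃) * (59 * (2 * h - 3) ^ 2) = A * (2 * h - 3) ^ 2 * (59 * (t₂ + t₃)) := by ring
        _ ≤ A * (2 * h - 3) ^ 2 * (5 * W) := mul_le_mul_of_nonneg_left hW' (by positivity)
        _ = 5 * (A * (W * (2 * h - 3) ^ 2)) := by ring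
        _ < 5 * (9 * (t₂ + t₃) * (h ^ 2 * ((t₁ + t₂ + t₃ + 3 + s) * A - n₁ * (A + e)))) :=
            mul_lt_mul_of_pos_left hmain (by norm_num)
        _ ≤ 5 * (9 * (t₂ + t₃) * (h ^ 2 * (5 * A))) := by
            refine mul_le_mul_of_nonneg_left (mul_le_mul_of_nonneg_left ?_ (by omega)) (by norm_num)
            exact mul_le_mul_of_nonneg_left hR.le hh2.le
        _ = _ := by ring
    nlinarith
  obtain ⟨rfl, h2, h3⟩ : t₁ = 5 ∧ t₂ = 2 ∧ (t₃ = 3 ∨ t₃ = 4) := by omega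
  subst h2
  subst e₁
  rcases h3 with rfl | rfl
  · have hR' : 116 * ((5 + 2 + 3 + 3 + s) * A - (2 * 5 + 1) * (A + e)) ≤ 475 * A := by
      rcases he with rfl | rfl <;> nlinarith
    have k1 : 6264 * (2 * h - 3) ^ 2 < 21375 * h ^ 2 := by
      refine lt_of_mul_lt_mul_left ?_ (show 0 ≤ A by omega)
      calc A * (6264 * (2 * h - 3) ^ 2) = 116 * (A * (W * (2 * h - 3) ^ 2)) := by rw [hW]; ring
        _ < 116 * (9 * (2 + 3) * (h ^ 2 * ((5 + 2 + 3 + 3 + s) * A - (2 * 5 + 1) * (A + e)))) :=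
            mul_lt_mul_of_pos_left hmain (by norm_num)
        _ = 9 * (2 + 3) * h ^ 2 * (116 * ((5 + 2 + 3 + 3 + s) * A - (2 * 5 + 1) * (A + e))) := by ring
        _ ≤ 9 * (2 + 3) * h ^ 2 * (475 * A) := mul_le_mul_of_nonneg_left hR' (by positivity)
        _ = _ := by ring
    nlinarith
  · have he1 : e = 1 := by rcases he with rfl | rfl <;> omega
    subst he1
    subst e₂ e₃
    have hA408 : 408 ≤ A := by omega
    have k1 : 68 * (2 * h - 3) ^ 2 < 270 * h ^ 2 := by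
      refine lt_of_mul_lt_mul_left ?_ (show 0 ≤ A by omega)
      calc A * (68 * (2 * h - 3) ^ 2) = A * (W * (2 * h - 3) ^ 2) := by rw [hW]; ring
        _ < 9 * (2 + 4) * (h ^ 2 * ((5 + 2 + 4 + 3 + s) * A - (2 * 5 + 1) * (A + 1))) := hmain
        _ ≤ 9 * (2 + 4) * (h ^ 2 * (5 * A)) :=
            mul_le_mul_of_nonneg_left (mul_le_mul_of_nonneg_left hR.le hh2.le) (by norm_num)
        _ = _ := by ring
    nlinarith

/-- The small cases of `s_eq_zero`. -/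
def bad (n₁ n₂ n₃ : ℕ) (κ : ℤ) : Bool :=
  let L : ℤ := κ * (n₂ * n₃ : ℕ) - 1
  let t₁ : ℤ := ((n₁ - 1) / 2 : ℕ)
  let t₂ : ℤ := ((n₂ - 1) / 4 : ℕ)
  let t₃ : ℤ := ((n₃ - 1) / 4 : ℕ)
  decide ((L - 1) % (n₁ : ℤ) = 0) &&
    decide ((t₂ + t₃) * (1 + L * L + t₁ * ((L + 1) * (L + 1))) + 4 * t₂ * t₃ * ((L - 1) * (L - 1)) +
      (t₂ + t₃) * (((n₁ * (n₂ * n₃) : ℕ) : ℤ) * ((n₁ * (n₂ * n₃) : ℕ) : ℤ)) ≤
        (t₂ + t₃) * ((n₁ : ℤ) * (L * (L + 1))))

set_option maxRecDepth 100000 in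
set_option synthInstance.maxSize 4000 in
theorem no_bad : ∀ a < 9, ∀ b < 6, ∀ c < 11, b ≤ c → 22 + 4 * (b + c) ≤ 26 + 4 * a →
    ∀ k < 10, bad (11 + 2 * a) (9 + 4 * b) (13 + 4 * c) (2 * (k : ℕ) - 9) = false := by
  decide +kernel

theorem s_eq_zero {n₁ n₂ n₃ t₁ t₂ t₃ A e s B κ a b : ℤ} (h₁ : 11 ≤ n₁) (e₁ : n₁ = 2 * t₁ + 1)
    (e₂ : n₂ = 4 * t₂ + 1) (e₃ : n₃ = 4 * t₃ + 1) (h₂ : 2 ≤ t₂) (h23 : t₂ < t₃) (hnn : n₂ + n₃ ≤ 2 * n₁ + 4)
    (he : e = 1 ∨ e = -1) (hs0 : 0 ≤ s) (hs : s ≤ 2) (hB : 1 ≤ B) (hBodd : Odd B) (hκ : κ = e * B)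
    (hP : A + e = n₂ * n₃ * B) (h1L : n₁ ∣ e * A - 1) (hM : A * B ≤ 3 * (n₁ * (n₂ * n₃)))
    (hlow : A * (t₁ + t₂ + t₃) < n₁ * (A + e))
    (hfs : A ≤ n₁ * (n₂ * n₃) → A * (s * (n₁ * (n₂ * n₃) - A) ^ 2) ≤
      A ^ 2 * ((t₁ + t₂ + t₃ + 3 + s) * A - n₁ * (A + e)))
    (hab : a + b = 2 * (e * A - 1))
    (hdeg : 1 + (e * A) ^ 2 + t₁ * (e * A + 1) ^ 2 + (t₂ * a ^ 2 + t₃ * b ^ 2) +
      s * (n₁ * (n₂ * n₃)) ^ 2 ≤ n₁ * ((e * A) * (e * A + 1))) : s = 0 := by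
  by_contra hne
  have hs1 : 1 ≤ s := by omega
  obtain ⟨P, hPdef⟩ : ∃ P, P = n₂ * n₃ := ⟨_, rfl⟩
  rw [← hPdef] at hP hM hfs hdeg
  have hP117 : 117 ≤ P := by subst hPdef e₂ e₃; nlinarith
  have hA : 116 ≤ A := by rcases he with rfl | rfl <;> nlinarith
  have hN : n₁ * P ≤ 3 * A := by
    by_contra hlt
    have hle := hfs (by omega)
    have h2 : (2 * A) ^ 2 ≤ (n₁ * P - A) ^ 2 := pow_le_pow_left₀ (by omega) (by omega) 2
    have h3 : A * (s * (2 * A) ^ 2) < A ^ 2 * ((3 + s) * A) := by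
      refine lt_of_le_of_lt ((mul_le_mul_of_nonneg_left (mul_le_mul_of_nonneg_left h2 hs0) (by omega)).trans
        hle) (mul_lt_mul_of_pos_left ?_ (pow_pos (by omega) 2))
      linarith
    have h4 : 4 * s < 3 + s := by
      refine lt_of_mul_lt_mul_left ?_ (show 0 ≤ A ^ 3 by positivity)
      linarith
    omega
  have hn1B : n₁ ≤ 3 * B := by
    by_contra hlt
    have : (3 * B + 1) * P ≤ n₁ * P := mul_le_mul_of_nonneg_right (by omega) (by omega)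
    rcases he with rfl | rfl <;> nlinarith
  have hB9 : B ≤ 9 := by
    by_contra hlt
    have h1 : n₁ * P ≤ 3 * B * P := mul_le_mul_of_nonneg_right hn1B (by omega)
    have h2 : A ≤ 9 * P := le_of_mul_le_mul_right (by linarith) (show 0 < B by omega)
    have : 10 * P ≤ B * P := mul_le_mul_of_nonneg_right (by omega) (by omega)
    rcases he with rfl | rfl <;> nlinarith
  -- to natural numbers
  obtain ⟨a', ha'⟩ : ∃ a' : ℕ, t₁ = 5 + a' := ⟨(t₁ - 5).toNat, by omega⟩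
  obtain ⟨b', hb'⟩ : ∃ b' : ℕ, t₂ = 2 + b' := ⟨(t₂ - 2).toNat, by omega⟩
  obtain ⟨c', hc'⟩ : ∃ c' : ℕ, t₃ = 3 + c' := ⟨(t₃ - 3).toNat, by omega⟩
  obtain ⟨k, hk, hkκ⟩ : ∃ k : ℕ, k < 10 ∧ κ = 2 * (k : ℤ) - 9 := by
    obtain ⟨m, rfl⟩ := hBodd
    rcases he with rfl | rfl
    · exact ⟨(m + 5).toNat, by omega, by omega⟩
    · exact ⟨(4 - m).toNat, by omega, by omega⟩
  have h := no_bad a' (by omega) b' (by omega) c' (by omega) (by omega) (by omega) k hk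
  have f1 : ((11 + 2 * a' : ℕ) : ℤ) = n₁ := by push_cast; omega
  have f2 : ((9 + 4 * b' : ℕ) : ℤ) = n₂ := by push_cast; omega
  have f3 : ((13 + 4 * c' : ℕ) : ℤ) = n₃ := by push_cast; omega
  have g1 : (((11 + 2 * a' - 1) / 2 : ℕ) : ℤ) = t₁ := by omega
  have g2 : (((9 + 4 * b' - 1) / 4 : ℕ) : ℤ) = t₂ := by omega
  have g3 : (((13 + 4 * c' - 1) / 4 : ℕ) : ℤ) = t₃ := by omega
  simp only [bad, Nat.cast_mul, f1, f2, f3, g1, g2, g3, ← hkκ, ← hPdef, Bool.and_eq_false_iff,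
    decide_eq_false_iff_not] at h
  have hL : κ * P - 1 = e * A := by
    rw [hκ]
    rcases he with rfl | rfl <;> linarith
  rw [hL] at h
  rcases h with h | h
  · exact h (Int.emod_eq_zero_of_dvd h1L)
  · refine h ?_
    have hq : 4 * t₂ * t₃ * (e * A - 1) ^ 2 ≤ (t₂ + t₃) * (t₂ * a ^ 2 + t₃ * b ^ 2) := by
      have hb : b = 2 * (e * A - 1) - a := by linarith
      have hid : (t₂ + t₃) * (t₂ * a ^ 2 + t₃ * b ^ 2) =
          4 * t₂ * t₃ * (e * A - 1) ^ 2 + (t₂ * a - t₃ * b) ^ 2 := by subst hb; ring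
      linarith [sq_nonneg (t₂ * a - t₃ * b)]
    have hT : 0 ≤ t₂ + t₃ := by omega
    have := mul_le_mul_of_nonneg_left hdeg hT
    have : (t₂ + t₃) * (n₁ * P) ^ 2 ≤ (t₂ + t₃) * (s * (n₁ * P) ^ 2) :=
      mul_le_mul_of_nonneg_left (le_mul_of_one_le_left (sq_nonneg _) hs1) hT
    linarith

end Cfsg.Agent.SelfCent.Numeric
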