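/-
A strongly self-centralising subgroup whose index in its normaliser is 2 or 4.

* `SSC`            : the hypothesis
* `ti`, `odd`, `fpf`, `exists_inv` : the normaliser
* `inverters`      : the involutions inverting a nontrivial element
* `coprime_index`, `coprime_of_not_conj` : the order of the subgroup
* `card_orbit`, `card_classes` : the classes meeting it
-/
import Cfsg.Agent.Lib.Char.Orth

set_option autoImplicit false
set_option linter.unusedSectionVars false
set_option linter.style.haveILetI false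

namespace Cfsg.Agent.SelfCent

variable {G : Type*} [Group G] [Finite G]

/-- Strongly self-centralising with index `w` in its normaliser. -/
structure SSC (A : Subgroup G) (w : ℕ) : Prop where
  cent : ∀ a ∈ A, a ≠ 1 → Subgroup.centralizer ({a} : Set G) = A
  rel : A.relIndex (Subgroup.normalizer (A : Set G)) = w
  five : 5 ≤ Nat.card A
  two_four : w = 2 ∨ w = 4

namespace SSC

variable {A : Subgroup G} {w : ℕ}

theorem mem_of_commute (hA : SSC A w) {a g : G} (ha : a ∈ A) (ha1 : a ≠ 1) (h : g * a = a * g) : g ∈ A := by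
  rw [← hA.cent a ha ha1]
  exact Subgroup.mem_centralizer_singleton_iff.2 h

theorem comm (hA : SSC A w) {a b : G} (ha : a ∈ A) (hb : b ∈ A) : a * b = b * a := by
  by_cases ha1 : a = 1
  · rw [ha1, one_mul, mul_one]
  have : b ∈ Subgroup.centralizer ({a} : Set G) := (hA.cent a ha ha1).symm ▸ hb
  exact (Subgroup.mem_centralizer_singleton_iff.1 this).symm

theorem ti (hA : SSC A w) {a g : G} (ha : a ∈ A) (ha1 : a ≠ 1) (hg : g * a * g⁻¹ ∈ A) :
    g ∈ Subgroup.normalizer (A : Set G) := by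
  refine Subgroup.mem_normalizer_iff.2 fun x => ⟨fun hx => ?_, fun hx => ?_⟩
  · refine hA.mem_of_commute hg (fun e => ha1 (conj_eq_one_iff.1 e)) ?_
    rw [show g * x * g⁻¹ * (g * a * g⁻¹) = g * (x * a) * g⁻¹ by group, hA.comm hx ha]
    group
  · refine hA.mem_of_commute ha ha1 ?_
    have h := hA.comm hx hg
    rw [show g * x * g⁻¹ * (g * a * g⁻¹) = g * (x * a) * g⁻¹ by group,
      show g * a * g⁻¹ * (g * x * g⁻¹) = g * (a * x) * g⁻¹ by group] at h
    exact mul_left_cancel (mul_right_cancel h)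

theorem conj_mem (hA : SSC A w) {a x : G} (hx : x ∈ Subgroup.normalizer (A : Set G)) (ha : a ∈ A) :
    x * a * x⁻¹ ∈ A := (Subgroup.mem_normalizer_iff.1 hx a).1 ha

theorem card_normalizer (hA : SSC A w) :
    Nat.card (Subgroup.normalizer (A : Set G)) = w * Nat.card A := by
  rw [← hA.rel, ← Subgroup.relIndex_bot_left A, ← Subgroup.relIndex_bot_left
    (Subgroup.normalizer (A : Set G)), mul_comm]
  exact (Subgroup.relIndex_mul_relIndex _ _ _ bot_le Subgroup.le_normalizer).symm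

theorem ne_bot (hA : SSC A w) : ∃ a ∈ A, a ≠ 1 := by
  obtain ⟨a, ha, h1⟩ := (Subgroup.nontrivial_iff_exists_ne_one _).1
    (Finite.one_lt_card_iff_nontrivial.1 (show 1 < Nat.card A by have := hA.five; omega))
  exact ⟨a, ha, h1⟩

theorem w_pos (hA : SSC A w) : 0 < w ∧ 2 ∣ w := by
  rcases hA.two_four with rfl | rfl <;> norm_num

/-- The conjugates under the normaliser of a nontrivial element. -/
theorem card_orbit (hA : SSC A w) {a : G} (ha : a ∈ A) (ha1 : a ≠ 1) :
    Nat.card {b : G // b ∈ A ∧ IsConj a b} = w := by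
  classical
  set N := Subgroup.normalizer (A : Set G) with hN
  let f : N ⧸ A.subgroupOf N → {b : G // b ∈ A ∧ IsConj a b} := fun q =>
    Quotient.liftOn' q (fun x => ⟨(x : G) * a * (x : G)⁻¹, hA.conj_mem x.2 ha, isConj_iff.2 ⟨x, rfl⟩⟩)
      fun x y h => by
        rw [QuotientGroup.leftRel_apply, Subgroup.mem_subgroupOf] at h
        refine Subtype.ext ?_
        have hc := hA.comm h ha
        simp only [Subgroup.coe_mul, Subgroup.coe_inv] at hc ⊢
        calc (x : G) * a * (x : G)⁻¹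
            = (x : G) * (((x : G)⁻¹ * y) * a * ((x : G)⁻¹ * y)⁻¹) * (x : G)⁻¹ := by
              rw [hc, mul_inv_cancel_right]
          _ = (y : G) * a * (y : G)⁻¹ := by group
  have hbij : Function.Bijective f := by
    constructor
    · intro q r h
      induction q using Quotient.inductionOn' with
      | h x =>
      induction r using Quotient.inductionOn' with
      | h y =>
      refine QuotientGroup.eq.2 (Subgroup.mem_subgroupOf.2 (hA.mem_of_commute ha ha1 ?_))
      have h' : (x : G) * a * (x : G)⁻¹ = (y : G) * a * (y : G)⁻¹ := congrArg Subtype.val h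
      simp only [Subgroup.coe_mul, Subgroup.coe_inv]
      calc (x : G)⁻¹ * y * a = (x : G)⁻¹ * ((y : G) * a * (y : G)⁻¹) * y := by group
        _ = a * ((x : G)⁻¹ * y) := by rw [← h']; group
    · rintro ⟨b, hb, hab⟩
      obtain ⟨g, rfl⟩ := isConj_iff.1 hab
      exact ⟨QuotientGroup.mk ⟨g, hA.ti ha ha1 hb⟩, rfl⟩
  rw [← Nat.card_congr (Equiv.ofBijective f hbij), ← hA.rel]
  rfl

theorem dvd_pred (hA : SSC A w) : w ∣ Nat.card A - 1 := by
  classical
  haveI := Fintype.ofFinite G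
  set S : Finset G := Finset.univ.filter fun a => a ∈ A ∧ a ≠ 1 with hS
  have hcard : S.card = Nat.card A - 1 := by
    have : S = (Finset.univ.filter fun a => a ∈ A).erase 1 := by ext a; simp [hS, and_comm]
    rw [this, Finset.card_erase_of_mem (by simp), Nat.card_eq_fintype_card, Fintype.card_subtype]
  rw [← hcard, Finset.card_eq_sum_card_fiberwise (f := ConjClasses.mk) (t := S.image ConjClasses.mk)
    (fun x hx => Finset.mem_image_of_mem _ hx)]
  refine Finset.dvd_sum fun c hc => ?_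
  obtain ⟨a, ha, rfl⟩ := Finset.mem_image.1 hc
  simp only [hS, Finset.mem_filter, Finset.mem_univ, true_and] at ha
  refine dvd_of_eq ?_
  rw [← hA.card_orbit ha.1 ha.2, Nat.card_eq_fintype_card, Fintype.card_subtype]
  congr 1
  ext b
  simp only [hS, Finset.mem_filter, Finset.mem_univ, true_and, ConjClasses.mk_eq_mk_iff_isConj]
  refine ⟨fun h => ⟨⟨h.1, fun e => ?_⟩, h.2.symm⟩, fun h => ⟨h.1.1, h.2.symm⟩⟩
  subst e
  exact ha.2 (by simpa using h.2)

theorem odd (hA : SSC A w) : Odd (Nat.card A) := by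
  obtain ⟨k, hk⟩ := hA.w_pos.2.trans hA.dvd_pred
  exact ⟨k, by have := hA.five; omega⟩

theorem orderOf_odd (hA : SSC A w) {a : G} (ha : a ∈ A) : Odd (orderOf a) :=
  hA.odd.of_dvd_nat (Subgroup.orderOf_dvd_natCard A ha)

theorem one_of_sq (hA : SSC A w) {a : G} (ha : a ∈ A) (h : a * a = 1) : a = 1 := by
  refine orderOf_eq_one_iff.1 (Nat.eq_one_of_dvd_coprimes ?_ (orderOf_dvd_of_pow_eq_one (n := 2)
    (by rw [pow_two, h])) dvd_rfl)
  exact Nat.coprime_two_left.2 (hA.orderOf_odd ha)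

/-- An involution of the normaliser inverts the subgroup. -/
theorem inverts (hA : SSC A w) {v : G} (hv : v * v = 1) (hv1 : v ≠ 1)
    (hN : v ∈ Subgroup.normalizer (A : Set G)) {a : G} (ha : a ∈ A) : v * a * v = a⁻¹ := by
  have hvi : v⁻¹ = v := inv_eq_of_mul_eq_one_right hv
  have hb : v * a * v ∈ A := by have := hA.conj_mem hN ha; rwa [hvi] at this
  have hc : v * (a * (v * a * v)) = a * (v * a * v) * v := by
    calc v * (a * (v * a * v)) = (v * a * v) * (a * v) := by simp only [mul_assoc]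
      _ = ((v * a * v) * a) * v := by simp only [mul_assoc]
      _ = _ := by rw [hA.comm hb ha]
  by_contra hne
  have hne' : a * (v * a * v) ≠ 1 := fun e => hne (eq_inv_of_mul_eq_one_right e)
  exact hv1 (hA.one_of_sq (hA.mem_of_commute (A.mul_mem ha hb) hne' hc) hv)

theorem exists_inv (hA : SSC A w) :
    ∃ v : G, v * v = 1 ∧ v ≠ 1 ∧ v ∈ Subgroup.normalizer (A : Set G) := by
  haveI : Fact (Nat.Prime 2) := ⟨Nat.prime_two⟩
  obtain ⟨v, hv⟩ := exists_prime_orderOf_dvd_card' (G := Subgroup.normalizer (A : Set G)) 2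
    (by rw [hA.card_normalizer]; exact Dvd.dvd.mul_right hA.w_pos.2 _)
  rw [← Subgroup.orderOf_coe] at hv
  refine ⟨v, by rw [← pow_two, ← hv, pow_orderOf_eq_one], fun e => ?_, v.2⟩
  rw [e, orderOf_one] at hv
  omega

/-- The involutions inverting a nontrivial element. -/
theorem inverters (hA : SSC A w) {v₀ : G} (hv : v₀ * v₀ = 1) (hv1 : v₀ ≠ 1)
    (hN : v₀ ∈ Subgroup.normalizer (A : Set G)) {a : G} (ha : a ∈ A) (ha1 : a ≠ 1) (x : G) :
    (x * x = 1 ∧ x ≠ 1 ∧ x * a * x = a⁻¹) ↔ v₀ * x ∈ A := by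
  have hv0i : v₀⁻¹ = v₀ := inv_eq_of_mul_eq_one_right hv
  have h0 := hA.inverts hv hv1 hN ha
  constructor
  · rintro ⟨hx, -, hxa⟩
    refine hA.mem_of_commute ha ha1 ?_
    calc v₀ * x * a = v₀ * (x * a * x) * x := by rw [mul_assoc (v₀), mul_assoc v₀, mul_assoc (x * a), hx, mul_one]
      _ = v₀ * (v₀ * a * v₀) * x := by rw [hxa, h0]
      _ = a * (v₀ * x) := by rw [← mul_assoc v₀, ← mul_assoc v₀, hv, one_mul, mul_assoc]
  · intro hb
    have hx : x = v₀ * (v₀ * x) := by rw [← mul_assoc, hv, one_mul]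
    set b := v₀ * x with hbdef
    have hbb := hA.inverts hv hv1 hN hb
    rw [hx]
    refine ⟨by rw [← mul_assoc, hbb, inv_mul_cancel], fun e => ?_, ?_⟩
    · have : v₀ = b⁻¹ := eq_inv_of_mul_eq_one_left e
      exact hv1 (hA.one_of_sq (this ▸ A.inv_mem hb) hv)
    · calc v₀ * b * a * (v₀ * b) = v₀ * (b * a) * v₀ * b := by group
        _ = (b * a)⁻¹ * b := by rw [hA.inverts hv hv1 hN (A.mul_mem hb ha)]
        _ = a⁻¹ := by group

theorem card_inverters (hA : SSC A w) {a : G} (ha : a ∈ A) (ha1 : a ≠ 1) :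
    Nat.card {x : G // x * x = 1 ∧ x ≠ 1 ∧ x * a * x = a⁻¹} = Nat.card A := by
  obtain ⟨v₀, hv, hv1, hN⟩ := hA.exists_inv
  exact Nat.card_congr ((Equiv.mulLeft v₀).subtypeEquiv fun x => hA.inverters hv hv1 hN ha ha1 x)

/-- Inverting involutions are conjugate to the fixed one. -/
theorem isConj_inverter (hA : SSC A w) {v₀ : G} (hv : v₀ * v₀ = 1) (hv1 : v₀ ≠ 1)
    (hN : v₀ ∈ Subgroup.normalizer (A : Set G)) {a : G} (ha : a ∈ A) (ha1 : a ≠ 1) {x : G}
    (hx : x * x = 1) (hx1 : x ≠ 1) (hxa : x * a * x = a⁻¹) : IsConj v₀ x := by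
  have hb := (hA.inverters hv hv1 hN ha ha1 x).1 ⟨hx, hx1, hxa⟩
  have hxe : x = v₀ * (v₀ * x) := by rw [← mul_assoc, hv, one_mul]
  set b := v₀ * x
  obtain ⟨j, hj⟩ := hA.orderOf_odd hb
  have hc : b ^ (j + 1) ∈ A := pow_mem hb _
  refine isConj_iff.2 ⟨(b ^ (j + 1))⁻¹, ?_⟩
  rw [inv_inv, hxe]
  have h1 := hA.inverts hv hv1 hN hc
  calc (b ^ (j + 1))⁻¹ * v₀ * b ^ (j + 1) = v₀ * b ^ (j + 1) * v₀ * v₀ * b ^ (j + 1) := by rw [h1]
    _ = v₀ * (b ^ (j + 1) * b ^ (j + 1)) := by rw [mul_assoc (v₀ * _), hv, mul_one, mul_assoc]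
    _ = v₀ * b := by
      rw [← pow_add, show j + 1 + (j + 1) = orderOf b + 1 by omega, pow_succ, pow_orderOf_eq_one, one_mul]

theorem card_classes (hA : SSC A w) :
    Nat.card {c : ConjClasses G // ∃ a ∈ A, a ≠ 1 ∧ ConjClasses.mk a = c} * w = Nat.card A - 1 := by
  classical
  haveI := Fintype.ofFinite G
  set S : Finset G := Finset.univ.filter fun a => a ∈ A ∧ a ≠ 1 with hS
  have hcard : S.card = Nat.card A - 1 := by
    have : S = (Finset.univ.filter fun a => a ∈ A).erase 1 := by ext a; simp [hS, and_comm]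
    rw [this, Finset.card_erase_of_mem (by simp), Nat.card_eq_fintype_card, Fintype.card_subtype]
  have hc : Nat.card {c : ConjClasses G // ∃ a ∈ A, a ≠ 1 ∧ ConjClasses.mk a = c} =
      (S.image ConjClasses.mk).card := by
    rw [Nat.card_eq_fintype_card, Fintype.card_subtype]
    congr 1
    ext c
    simp only [Finset.mem_filter, Finset.mem_univ, true_and, Finset.mem_image, hS]
    exact ⟨fun ⟨a, h, h', e⟩ => ⟨a, ⟨h, h'⟩, e⟩, fun ⟨a, ⟨h, h'⟩, e⟩ => ⟨a, h, h', e⟩⟩
  rw [hc, ← hcard, Finset.card_eq_sum_card_fiberwise (f := ConjClasses.mk) (t := S.image ConjClasses.mk)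
    (fun x hx => Finset.mem_image_of_mem _ hx), Finset.sum_const_nat (m := w)]
  intro c hc'
  obtain ⟨a, ha, rfl⟩ := Finset.mem_image.1 hc'
  simp only [hS, Finset.mem_filter, Finset.mem_univ, true_and] at ha
  rw [← hA.card_orbit ha.1 ha.2, Nat.card_eq_fintype_card, Fintype.card_subtype]
  congr 1
  ext b
  simp only [hS, Finset.mem_filter, Finset.mem_univ, true_and, ConjClasses.mk_eq_mk_iff_isConj]
  refine ⟨fun h => ⟨h.1.1, h.2.symm⟩, fun h => ⟨⟨h.1, fun e => ?_⟩, h.2.symm⟩⟩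
  subst e
  exact ha.2 (by simpa using h.2)

/-- The subgroup contains a Sylow subgroup for each prime dividing its order. -/
theorem coprime_index (hA : SSC A w) : (Nat.card A).Coprime A.index := by
  refine Nat.coprime_of_dvd fun p hp hpA hpi => ?_
  haveI := Fact.mk hp
  obtain ⟨Q⟩ := (inferInstance : Nonempty (Sylow p A))
  obtain ⟨P, hP⟩ := ((Q.2.map A.subtype)).exists_le_sylow
  obtain ⟨a, ha, ha1⟩ : ∃ a ∈ (Q : Subgroup A).map A.subtype, a ≠ (1 : G) := by
    obtain ⟨⟨x, hxQ⟩, hx⟩ := Subgroup.ne_bot_iff_exists_ne_one.1 (Q.ne_bot_of_dvd_card hpA)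
    exact ⟨(x : G), ⟨x, hxQ, rfl⟩, fun e => hx (Subtype.ext (Subtype.ext e))⟩
  have haA : a ∈ A := Subgroup.map_subtype_le _ ha
  haveI : Nontrivial (P : Subgroup G) := ⟨⟨a, hP ha⟩, 1, fun e => ha1 (congrArg Subtype.val e)⟩
  haveI := P.2.center_nontrivial
  obtain ⟨z, hz⟩ := exists_ne (1 : Subgroup.center (P : Subgroup G))
  have hz1 : ((z : (P : Subgroup G)) : G) ≠ 1 := fun e => hz (Subtype.ext (Subtype.ext e))
  have hza : ((z : (P : Subgroup G)) : G) * a = a * ((z : (P : Subgroup G)) : G) :=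
    (congrArg Subtype.val (Subgroup.mem_center_iff.1 z.2 ⟨a, hP ha⟩)).symm
  have hzA := hA.mem_of_commute haA ha1 hza
  have hPA : (P : Subgroup G) ≤ A := fun x hx => hA.mem_of_commute hzA hz1
    (congrArg Subtype.val (Subgroup.mem_center_iff.1 z.2 ⟨x, hx⟩))
  exact P.not_dvd_index (hpi.trans (Subgroup.index_dvd_of_le hPA))

/-- Non-conjugate ones have coprime orders. -/
theorem coprime_of_not_conj (hA : SSC A w) {B : Subgroup G} {w' : ℕ} (hB : SSC B w')
    (h : ∀ a ∈ A, a ≠ 1 → ∀ b ∈ B, ¬ IsConj a b) : (Nat.card A).Coprime (Nat.card B) := by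
  refine Nat.coprime_of_dvd fun p hp hpA hpB => ?_
  haveI := Fact.mk hp
  obtain ⟨a, ha⟩ := exists_prime_orderOf_dvd_card' (G := A) p hpA
  obtain ⟨Q⟩ := (inferInstance : Nonempty (Sylow p B))
  obtain ⟨P, hP⟩ := ((Q.2.map B.subtype)).exists_le_sylow
  have hPB : (P : Subgroup G) ≤ B := by
    have hcard : Nat.card P ≤ Nat.card ((Q : Subgroup B).map B.subtype) := by
      rw [Subgroup.card_map_of_injective B.subtype_injective, P.card_eq_multiplicity, Q.card_eq_multiplicity,
        ← B.card_mul_index, Nat.factorization_mul Nat.card_pos.ne' Subgroup.index_ne_zero_of_finite,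
        Finsupp.add_apply, Nat.factorization_eq_zero_of_not_dvd (fun hd =>
          hp.ne_one (Nat.eq_one_of_dvd_coprimes hB.coprime_index hpB hd)), add_zero]
    exact (Subgroup.eq_of_le_of_card_ge hP hcard).ge.trans (Subgroup.map_subtype_le _)
  have ha' : orderOf (a : G) = p := by rw [Subgroup.orderOf_coe, ha]
  obtain ⟨P', hP'⟩ := (IsPGroup.of_card (p := p) (G := Subgroup.zpowers (a : G)) (n := 1)
    (by rw [Nat.card_zpowers, ha', pow_one])).exists_le_sylow
  obtain ⟨g, hg⟩ := MulAction.exists_smul_eq G P' P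
  have hmem : g * a * g⁻¹ ∈ (P : Subgroup G) := by
    rw [← hg, Sylow.coe_subgroup_smul]
    exact ⟨a, hP' (Subgroup.mem_zpowers _), rfl⟩
  exact h a a.2 (fun e => by rw [e, orderOf_one] at ha'; exact hp.ne_one ha'.symm) _ (hPB hmem)
    (isConj_iff.2 ⟨g, rfl⟩)

end SSC

end Cfsg.Agent.SelfCent
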