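/-
The characters induced from a strongly self-centralising subgroup.

* `X₀`, `theta`, `coef`    : `Ind (1 - ν)` and its coefficients
* `sum_coef_mul`           : the Gram matrix
* `apply_mem`, `apply_one` : the values of the irreducible characters on the subgroup
* `const_of_sum`           : a Fourier lemma
* `coef_conj`              : the induced characters are real
-/
import Cfsg.Agent.Lib.Char.Virtual
import Cfsg.Agent.Lib.Char.Linear
import Cfsg.Agent.Lib.SelfCentSuzuki.Group

set_option autoImplicit false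
set_option linter.unusedSectionVars false
set_option linter.style.haveILetI false

open Cfsg
open scoped ComplexConjugate

namespace Cfsg.Agent.SelfCent

open Cfsg.Agent.Char

variable {G : Type*} [Group G] [Fintype G]

/-- The nontrivial irreducible characters of a subgroup. -/
abbrev X₀ (A : Subgroup G) : Type _ := {ν : IrrCharacter A // (ν : A → ℂ) ≠ 1}

/-- `Ind (1 - ν)`. -/
noncomputable def theta (A : Subgroup G) (ν : X₀ A) : G → ℂ := indFun A (1 - (ν.1 : A → ℂ))

theorem isGC_theta (A : Subgroup G) (ν : X₀ A) : IsGeneralizedCharacter G (theta A ν) :=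
  IsGeneralizedCharacter.indFun (IsGeneralizedCharacter.sub
    (isGeneralizedCharacter_of_isCharacter isCharacter_one)
    (isGeneralizedCharacter_of_isCharacter (IsIrrCharacter.isCharacter ν.1.2)))

theorem exists_coef (A : Subgroup G) (ν : X₀ A) (χ : IrrCharacter G) :
    ∃ m : ℤ, classInner (theta A ν) (χ : G → ℂ) = m :=
  (isGeneralizedCharacter_iff_classInner.1 (isGC_theta A ν)).2 χ

/-- The coefficient of `χ` in `Ind (1 - ν)`. -/
noncomputable def coef (A : Subgroup G) (ν : X₀ A) (χ : IrrCharacter G) : ℤ := (exists_coef A ν χ).choose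

theorem coef_spec (A : Subgroup G) (ν : X₀ A) (χ : IrrCharacter G) :
    classInner (theta A ν) (χ : G → ℂ) = coef A ν χ := (exists_coef A ν χ).choose_spec

variable [Fintype (IrrCharacter G)]

theorem theta_eq_sum (A : Subgroup G) (ν : X₀ A) (g : G) :
    theta A ν g = ∑ χ : IrrCharacter G, (coef A ν χ : ℂ) * (χ : G → ℂ) g := by
  conv_lhs => rw [classFunction_eq_sum (IsGeneralizedCharacter.isClassFunction (isGC_theta A ν))]
  simp [coef_spec, Finset.sum_apply]

theorem irr_comm {A : Subgroup G} {w : ℕ} (hA : SSC A w) (a b : A) : a * b = b * a :=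
  Subtype.ext (hA.comm a.2 b.2)

theorem irr_one {A : Subgroup G} {w : ℕ} (hA : SSC A w) (ν : IrrCharacter A) : (ν : A → ℂ) 1 = 1 :=
  apply_one_eq_one_of_comm (irr_comm hA) ν

theorem theta_eq_zero (A : Subgroup G) (ν : X₀ A) {g : G} (h : ∀ x : G, x * g * x⁻¹ ∉ A) :
    theta A ν g = 0 := by
  unfold theta Cfsg.indFun
  rw [Finset.sum_eq_zero, mul_zero]
  exact fun x _ => extendByZero_not_mem _ _ (by simpa using h x⁻¹)

theorem theta_one {A : Subgroup G} {w : ℕ} (hA : SSC A w) (ν : X₀ A) : theta A ν 1 = 0 := by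
  rw [theta, indFun_one_apply, Pi.sub_apply, irr_one hA, Pi.one_apply, sub_self, mul_zero]

/-- Conjugation on the characters of the subgroup. -/
noncomputable def twist {A : Subgroup G} {x : G} (hx : x ∈ Subgroup.normalizer (A : Set G))
    (ν : IrrCharacter A) : IrrCharacter A :=
  ⟨fun a => (ν : A → ℂ) ⟨x⁻¹ * a * x, by
      simpa using (Subgroup.mem_normalizer_iff.1 (Subgroup.inv_mem _ hx) (a : G)).1 a.2⟩,
    IsIrrCharacter.comp_equiv ν.2
      { toFun := fun a : A => (⟨x⁻¹ * a * x, by
          simpa using (Subgroup.mem_normalizer_iff.1 (Subgroup.inv_mem _ hx) (a : G)).1 a.2⟩ : A)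
        invFun := fun a => ⟨x * a * x⁻¹, (Subgroup.mem_normalizer_iff.1 hx (a : G)).1 a.2⟩
        left_inv := fun a => Subtype.ext (by simp [mul_assoc])
        right_inv := fun a => Subtype.ext (by simp [mul_assoc])
        map_mul' := fun a b => Subtype.ext (by simp [mul_assoc]) }⟩

/-- Two characters of the subgroup are conjugate under the normaliser. -/
def Rel {A : Subgroup G} (μ ν : X₀ A) : Prop :=
  ∃ (x : G) (hx : x ∈ Subgroup.normalizer (A : Set G)), twist hx ν.1 = μ.1

variable {A : Subgroup G} {w : ℕ}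

theorem twist_ne_one {x : G} (hx : x ∈ Subgroup.normalizer (A : Set G)) (ν : X₀ A) :
    ((twist hx ν.1 : IrrCharacter A) : A → ℂ) ≠ 1 := fun h => ν.2 (funext fun a => by
  have := congrFun h ⟨x * a * x⁻¹, (Subgroup.mem_normalizer_iff.1 hx (a : G)).1 a.2⟩
  simpa [twist, mul_assoc] using this)

/-- The stabiliser of a nontrivial character is the subgroup. -/
theorem mem_of_twist_eq (hA : SSC A w) {ν : X₀ A} {x : G} (hx : x ∈ Subgroup.normalizer (A : Set G))
    (h : twist hx ν.1 = ν.1) : x ∈ A := by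
  by_contra hxA
  let f : A → A := fun a => ⟨x⁻¹ * a * x * (a : G)⁻¹, A.mul_mem
    (by simpa using (Subgroup.mem_normalizer_iff.1 (Subgroup.inv_mem _ hx) (a : G)).1 a.2) (A.inv_mem a.2)⟩
  have hinj : Function.Injective f := by
    intro a b hab
    have h' : x⁻¹ * (a : G) * x * (a : G)⁻¹ = x⁻¹ * (b : G) * x * (b : G)⁻¹ := congrArg Subtype.val hab
    by_contra hne
    have hab1 : (b : G)⁻¹ * a ≠ 1 := fun e => hne (Subtype.ext (inv_mul_eq_one.1 e).symm)
    refine hxA (hA.mem_of_commute (A.mul_mem (A.inv_mem b.2) a.2) hab1 ?_)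
    have hc : x⁻¹ * (b : G) * x ∈ A := by
      simpa using (Subgroup.mem_normalizer_iff.1 (Subgroup.inv_mem _ hx) (b : G)).1 b.2
    have h2 : (x⁻¹ * (b : G) * x)⁻¹ * (x⁻¹ * (a : G) * x) = (b : G)⁻¹ * a := by
      calc (x⁻¹ * (b : G) * x)⁻¹ * (x⁻¹ * (a : G) * x)
          = (x⁻¹ * (b : G) * x)⁻¹ * ((x⁻¹ * (a : G) * x * (a : G)⁻¹) * a) := by group
        _ = (b : G)⁻¹ * a := by rw [h']; group
    calc x * ((b : G)⁻¹ * a) = x * ((x⁻¹ * (b : G) * x)⁻¹ * (x⁻¹ * (a : G) * x)) := by rw [h2]
      _ = _ := by group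
  refine ν.2 (funext fun c => ?_)
  obtain ⟨a, rfl⟩ := (Finite.injective_iff_surjective.1 hinj) c
  have ha := congrFun (congrArg Subtype.val h) a
  simp only [twist] at ha
  obtain ⟨l, hl⟩ := exists_hom_of_degree_one (IsIrrCharacter.isCharacter ν.1.2) (irr_one hA ν.1)
  simp only [← hl, Pi.one_apply] at ha ⊢
  rw [show f a = ⟨x⁻¹ * (a : G) * x, by
    simpa using (Subgroup.mem_normalizer_iff.1 (Subgroup.inv_mem _ hx) (a : G)).1 a.2⟩ * a⁻¹ from rfl,
    map_mul, ha, ← map_mul, mul_inv_cancel, map_one]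

theorem card_irr (hA : SSC A w) : Nat.card (IrrCharacter A) = Nat.card A := by
  rw [card_irr_eq_card_conjClasses, card_conjClasses_of_comm (irr_comm hA)]

theorem card_X₀ (hA : SSC A w) : Nat.card (X₀ A) = Nat.card A - 1 := by
  classical
  haveI := Fintype.ofFinite (IrrCharacter A)
  rw [← card_irr hA, Nat.card_eq_fintype_card, Nat.card_eq_fintype_card,
    Fintype.card_subtype_compl (fun ν : IrrCharacter A => (ν : A → ℂ) = 1)]
  congr 1
  exact Fintype.card_eq_one_iff.2
    ⟨⟨⟨1, isIrrCharacter_one⟩, rfl⟩, fun y => Subtype.ext (Subtype.ext y.2)⟩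

/-- `Ind (1 - ν)` on the subgroup. -/
theorem theta_apply [Fintype (Subgroup.normalizer (A : Set G))] (hA : SSC A w) (ν : X₀ A) (a : A) :
    theta A ν a = (Nat.card A : ℂ)⁻¹ *
      ∑ x : Subgroup.normalizer (A : Set G), (1 - ((twist x.2 ν.1 : IrrCharacter A) : A → ℂ) a) := by
  classical
  by_cases ha : (a : G) = 1
  · obtain rfl : a = 1 := Subtype.ext ha
    rw [OneMemClass.coe_one, theta_one hA, Finset.sum_eq_zero, mul_zero]
    intro x _
    rw [irr_one hA, sub_self]
  unfold theta Cfsg.indFun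
  congr 1
  rw [← Finset.sum_subset (Finset.subset_univ
    (Finset.univ.map ⟨_, Subtype.val_injective (p := (· ∈ Subgroup.normalizer (A : Set G)))⟩))]
  · rw [Finset.sum_map]
    refine Finset.sum_congr rfl fun x _ => ?_
    have hmem : (x : G)⁻¹ * a * x ∈ A := by
      simpa using (Subgroup.mem_normalizer_iff.1 (Subgroup.inv_mem _ x.2) (a : G)).1 a.2
    show extendByZero A _ ((x : G)⁻¹ * a * x) = _
    rw [extendByZero_mem A _ hmem]
    rfl
  · intro x _ hx
    refine extendByZero_not_mem _ _ fun hmem => hx ?_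
    have := hA.ti a.2 ha (g := x⁻¹) (by simpa using hmem)
    simpa using (Subgroup.inv_mem _ this)

theorem card_twist_eq [Fintype (Subgroup.normalizer (A : Set G))] [DecidableEq (IrrCharacter A)]
    (hA : SSC A w) (μ ν : X₀ A) [Decidable (Rel μ ν)] :
    (Finset.univ.filter fun x : Subgroup.normalizer (A : Set G) => twist x.2 ν.1 = μ.1).card =
      if Rel μ ν then Nat.card A else 0 := by
  classical
  split_ifs with h
  · obtain ⟨x₀, hx₀, h₀⟩ := h
    rw [← Fintype.card_subtype, ← Nat.card_eq_fintype_card]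
    have htw : ∀ {x y : G} (hx : x ∈ Subgroup.normalizer (A : Set G)) (hy : y ∈ Subgroup.normalizer (A : Set G))
        (χ : IrrCharacter A), twist (Subgroup.mul_mem _ hx hy) χ = twist hx (twist hy χ) := by
      intro x y hx hy χ
      refine Subtype.ext (funext fun a => ?_)
      simp [twist, mul_assoc]
    have hone : ∀ {x : G} (hx : x ∈ Subgroup.normalizer (A : Set G)) (hxA : x ∈ A) (χ : IrrCharacter A),
        twist hx χ = χ := by
      intro x hx hxA χ
      refine Subtype.ext (funext fun a => ?_)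
      simp only [twist]
      exact congrArg (χ : A → ℂ) (Subtype.ext (by
        show x⁻¹ * (a : G) * x = a
        rw [mul_assoc, hA.comm a.2 hxA, inv_mul_cancel_left]))
    refine Nat.card_congr (Equiv.ofBijective
      (fun p : {x : Subgroup.normalizer (A : Set G) // twist x.2 ν.1 = μ.1} =>
        (⟨x₀⁻¹ * p.1, mem_of_twist_eq hA (Subgroup.mul_mem _ (Subgroup.inv_mem _ hx₀) p.1.2) (ν := ν) (by
          rw [htw (Subgroup.inv_mem _ hx₀) p.1.2, p.2, ← h₀, ← htw (Subgroup.inv_mem _ hx₀) hx₀]
          exact hone _ (by rw [inv_mul_cancel]; exact A.one_mem) _)⟩ : A))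
      ⟨fun p q e => Subtype.ext (Subtype.ext (mul_left_cancel (congrArg Subtype.val e))), fun a =>
        ⟨⟨⟨x₀ * a, Subgroup.mul_mem _ hx₀ (Subgroup.le_normalizer a.2)⟩, by
          rw [htw hx₀ (Subgroup.le_normalizer a.2), hone _ a.2, h₀]⟩,
          Subtype.ext (inv_mul_cancel_left _ _)⟩⟩)
  · rw [Finset.card_eq_zero, Finset.filter_eq_empty_iff]
    exact fun x _ e => h ⟨x, x.2, e⟩

/-- The Gram matrix. -/
theorem sum_coef_mul (hA : SSC A w) (μ ν : X₀ A) [Decidable (Rel μ ν)] :
    ∑ χ : IrrCharacter G, coef A μ χ * coef A ν χ = (w : ℤ) + if Rel μ ν then 1 else 0 := by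
  classical
  haveI : Fintype A := Fintype.ofFinite _
  haveI : Fintype (Subgroup.normalizer (A : Set G)) := Fintype.ofFinite _
  have key : classInner (theta A μ) (theta A ν) = (w : ℂ) + (if Rel μ ν then 1 else 0 : ℂ) := by
    have hfun : (fun a : A => theta A ν a) = (Nat.card A : ℂ)⁻¹ •
        (fun a => ∑ x : Subgroup.normalizer (A : Set G),
          (1 - ((twist x.2 ν.1 : IrrCharacter A) : A → ℂ)) a) := funext fun a => by
      rw [theta_apply hA]; rfl
    rw [theta, frobenius_reciprocity A _ (IsGeneralizedCharacter.isClassFunction (isGC_theta A ν)), hfun,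
      classInner_smul_right, map_inv₀, Complex.conj_natCast]
    have hsum : classInner (1 - (μ.1 : A → ℂ)) (fun a => ∑ x : Subgroup.normalizer (A : Set G),
        (1 - ((twist x.2 ν.1 : IrrCharacter A) : A → ℂ)) a) =
        ∑ x : Subgroup.normalizer (A : Set G), ((1 : ℂ) + if twist x.2 ν.1 = μ.1 then 1 else 0) := by
      rw [show (fun a => ∑ x : Subgroup.normalizer (A : Set G),
        (1 - ((twist x.2 ν.1 : IrrCharacter A) : A → ℂ)) a) = ∑ x : Subgroup.normalizer (A : Set G),
        (1 - ((twist x.2 ν.1 : IrrCharacter A) : A → ℂ)) from funext fun a => (Finset.sum_apply _ _ _).symm,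
        classInner_sum_right]
      refine Finset.sum_congr rfl fun x _ => ?_
      have ht : IsIrrCharacter A ((twist x.2 ν.1 : IrrCharacter A) : A → ℂ) := (twist x.2 ν.1).2
      rw [classInner_sub_left, classInner_sub_right, classInner_sub_right,
        classInner_irr_self isIrrCharacter_one,
        classInner_irr_of_ne isIrrCharacter_one ht (fun e => twist_ne_one x.2 ν e.symm),
        classInner_irr_of_ne μ.1.2 isIrrCharacter_one μ.2]
      by_cases e : twist x.2 ν.1 = μ.1
      · rw [if_pos e, e, classInner_irr_self μ.1.2]; ring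
      · rw [if_neg e, classInner_irr_of_ne μ.1.2 ht (fun h => e (Subtype.ext h.symm))]; ring
    rw [hsum, Finset.sum_add_distrib, Finset.sum_const, Finset.card_univ, Finset.sum_boole,
      card_twist_eq hA, ← Nat.card_eq_fintype_card, hA.card_normalizer, nsmul_eq_mul, mul_one,
      Nat.cast_mul]
    have hn : (Nat.card A : ℂ) ≠ 0 := Nat.cast_ne_zero.2 Nat.card_pos.ne'
    split_ifs <;> push_cast <;> field_simp <;> ring
  rw [classInner_eq_sum (IsGeneralizedCharacter.isClassFunction (isGC_theta A μ))] at key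
  simp only [coef_spec, map_intCast] at key
  apply Int.cast_injective (α := ℂ)
  push_cast
  exact key

/-- Subgroups without conjugate elements give orthogonal characters. -/
theorem sum_coef_mul_cross {B : Subgroup G} {w' : ℕ} (hB : SSC B w') (μ : X₀ A) (ν : X₀ B)
    (h : ∀ a ∈ A, a ≠ 1 → ∀ b ∈ B, ¬ IsConj a b) :
    ∑ χ : IrrCharacter G, coef A μ χ * coef B ν χ = 0 := by
  classical
  haveI : Fintype A := Fintype.ofFinite _
  have key : classInner (theta A μ) (theta B ν) = 0 := by
    rw [theta, frobenius_reciprocity A _ (IsGeneralizedCharacter.isClassFunction (isGC_theta B ν))]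
    have : (fun a : A => theta B ν a) = 0 := funext fun a => by
      by_cases ha : (a : G) = 1
      · rw [ha, theta_one hB, Pi.zero_apply]
      · exact theta_eq_zero B ν fun x hx => h a a.2 ha _ hx (isConj_iff.2 ⟨x, rfl⟩)
    rw [this]
    simp [classInner]
  rw [classInner_eq_sum (IsGeneralizedCharacter.isClassFunction (isGC_theta A μ))] at key
  simp only [coef_spec, map_intCast] at key
  apply Int.cast_injective (α := ℂ)
  push_cast
  exact key

theorem coef_one (μ : X₀ A) : coef A μ ⟨1, isIrrCharacter_one⟩ = 1 := by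
  haveI : Fintype A := Fintype.ofFinite _
  have h := coef_spec A μ ⟨1, isIrrCharacter_one⟩
  rw [theta, frobenius_reciprocity A _ (IsIrrCharacter.isClassFunction isIrrCharacter_one)] at h
  have h' : classInner (1 - (μ.1 : A → ℂ)) (1 : A → ℂ) = 1 := by
    rw [classInner_sub_left, classInner_irr_self isIrrCharacter_one,
      classInner_irr_of_ne μ.1.2 isIrrCharacter_one μ.2, sub_zero]
  exact_mod_cast (h.symm.trans h' : (coef A μ ⟨1, isIrrCharacter_one⟩ : ℂ) = 1)

theorem sum_irr_apply (hA : SSC A w) [Fintype (X₀ A)] {a : A} (ha : a ≠ 1) :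
    ∑ ν : X₀ A, (ν.1 : A → ℂ) a = -1 := by
  classical
  haveI : Fintype A := Fintype.ofFinite _
  haveI := Fintype.ofFinite (IrrCharacter A)
  have h := sum_degree_mul_apply (G := A) a
  simp only [irr_one hA, one_mul, if_neg ha] at h
  rw [← Finset.sum_filter_add_sum_filter_not Finset.univ (fun ν : IrrCharacter A => (ν : A → ℂ) ≠ 1),
    show (Finset.univ.filter fun ν : IrrCharacter A => ¬ (ν : A → ℂ) ≠ 1) = {⟨1, isIrrCharacter_one⟩} by
      ext ν; simp [Subtype.ext_iff], Finset.sum_singleton,
    Finset.sum_subtype (p := fun ν : IrrCharacter A => (ν : A → ℂ) ≠ 1) _ (fun ν => by simp)] at h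
  exact eq_neg_of_add_eq_zero_left h

/-- The values of an irreducible character on the subgroup, and its degree. -/
theorem apply_mem (hA : SSC A w) [Fintype (X₀ A)] (χ : IrrCharacter G) :
    (∀ a : A, a ≠ 1 → (χ : G → ℂ) a = -∑ ν : X₀ A, (coef A ν χ : ℂ) * (ν.1 : A → ℂ) a) ∧
      ∃ m : ℕ, (χ : G → ℂ) 1 = (Nat.card A : ℂ) * m - ∑ ν : X₀ A, (coef A ν χ : ℂ) := by
  classical
  haveI : Fintype A := Fintype.ofFinite _
  haveI := Fintype.ofFinite (IrrCharacter A)
  have hcls : ∀ f : A → ℂ, IsClassFunction A f := fun f g x => by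
    rw [irr_comm hA x g, mul_inv_cancel_right]
  obtain ⟨m, hm⟩ := IsCharacter.classInner_nat (IsCharacter.restrict (IsIrrCharacter.isCharacter χ.2) A)
    (isCharacter_one (G := A))
  have hc : ∀ ν : X₀ A, classInner (fun a : A => (χ : G → ℂ) a) (ν.1 : A → ℂ) = m - coef A ν χ := by
    intro ν
    have h := coef_spec A ν χ
    rw [theta, frobenius_reciprocity A _ (IsIrrCharacter.isClassFunction χ.2)] at h
    have h2 := congrArg conj h
    rw [classInner_conj_symm, map_intCast, classInner_sub_right, hm] at h2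
    linear_combination -h2
  have hexp : ∀ a : A, (χ : G → ℂ) a =
      (∑ ν : IrrCharacter A, (ν : A → ℂ) a) * (m : ℂ) - ∑ ν : X₀ A, (coef A ν χ : ℂ) * (ν.1 : A → ℂ) a := by
    intro a
    have h := congrFun (classFunction_eq_sum (hcls fun a : A => (χ : G → ℂ) a)) a
    rw [Finset.sum_apply] at h
    have hf : ∀ g : IrrCharacter A → ℂ, ∑ ν, g ν = g ⟨1, isIrrCharacter_one⟩ + ∑ ν : X₀ A, g ν.1 := by
      intro g
      rw [← Finset.sum_filter_add_sum_filter_not Finset.univ (fun ν : IrrCharacter A => (ν : A → ℂ) ≠ 1),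
        show (Finset.univ.filter fun ν : IrrCharacter A => ¬ (ν : A → ℂ) ≠ 1) =
          {⟨1, isIrrCharacter_one⟩} by ext ν; simp [Subtype.ext_iff], Finset.sum_singleton,
        Finset.sum_subtype (p := fun ν : IrrCharacter A => (ν : A → ℂ) ≠ 1) _ (fun ν => by simp), add_comm]
    rw [h, hf, hf]
    simp only [Pi.smul_apply, smul_eq_mul, hc, hm, sub_mul, Finset.sum_sub_distrib, ← Finset.mul_sum]
    ring
  refine ⟨fun a ha => ?_, m, ?_⟩
  · have h0 := sum_degree_mul_apply (G := A) a
    simp only [irr_one hA, one_mul, if_neg ha] at h0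
    rw [hexp a, h0, zero_mul, zero_sub]
  · have := hexp 1
    simp only [OneMemClass.coe_one, irr_one hA, mul_one, Finset.sum_const, Finset.card_univ,
      nsmul_eq_mul] at this
    rw [this, ← card_irr hA, Nat.card_eq_fintype_card]

/-- A combination of nontrivial characters which is constant off the identity. -/
theorem const_of_sum (hA : SSC A w) [Fintype (X₀ A)] (f : X₀ A → ℂ) (k : ℂ)
    (h : ∀ a : A, a ≠ 1 → ∑ ν : X₀ A, f ν * (ν.1 : A → ℂ) a = k) (ν : X₀ A) : f ν = -k := by
  classical
  haveI : Fintype A := Fintype.ofFinite _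
  let F : A → ℂ := fun a => ∑ ν : X₀ A, (f ν + k) * (ν.1 : A → ℂ) a
  have hF : ∀ a : A, a ≠ 1 → F a = 0 := fun a ha => by
    simp only [F, add_mul, Finset.sum_add_distrib, h a ha, ← Finset.mul_sum, sum_irr_apply hA ha]
    ring
  have hinner : ∀ χ : A → ℂ, IsIrrCharacter A χ →
      classInner F χ = ∑ ν : X₀ A, (f ν + k) * classInner (ν.1 : A → ℂ) χ := fun χ hχ => by
    rw [show F = ∑ ν : X₀ A, (f ν + k) • (ν.1 : A → ℂ) from funext fun a => by
      simp [F, Finset.sum_apply], classInner_sum_left]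
    simp [classInner_smul_left]
  have h1 : F 1 = 0 := by
    have e := hinner 1 isIrrCharacter_one
    rw [Finset.sum_eq_zero (fun μ _ => by
      rw [classInner_irr_of_ne μ.1.2 isIrrCharacter_one μ.2, mul_zero]), classInner,
      Finset.sum_eq_single (1 : A) (fun a _ ha => by rw [hF a ha, zero_mul])
        (fun h => absurd (Finset.mem_univ _) h)] at e
    simpa [Nat.card_pos.ne'] using e
  have hF0 : F = 0 := funext fun a => by
    by_cases ha : a = 1
    · subst ha; exact h1
    · exact hF a ha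
  have e := hinner _ ν.1.2
  rw [hF0, Finset.sum_eq_single ν (fun μ _ hne => by
    rw [classInner_irr_of_ne μ.1.2 ν.1.2 (fun e => hne (Subtype.ext (Subtype.ext e))), mul_zero])
    (fun h => absurd (Finset.mem_univ _) h), classInner_irr_self ν.1.2, mul_one] at e
  exact eq_neg_of_add_eq_zero_left (by simpa [classInner] using e.symm)

/-- The induced characters are real. -/
theorem coef_conj (hA : SSC A w) (ν : X₀ A) (χ χ' : IrrCharacter G)
    (h : ∀ g, (χ' : G → ℂ) g = conj ((χ : G → ℂ) g)) : coef A ν χ' = coef A ν χ := by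
  classical
  have hreal : ∀ g, conj (theta A ν g) = theta A ν g := by
    intro g
    rw [← IsGeneralizedCharacter.apply_inv (isGC_theta A ν)]
    by_cases hg : ∃ x : G, x * g * x⁻¹ ∈ A
    · obtain ⟨x, hx⟩ := hg
      have hcl := IsGeneralizedCharacter.isClassFunction (isGC_theta A ν)
      obtain ⟨v, hv, hv1, hvN⟩ := hA.exists_inv
      rw [← hcl g x, ← hcl g⁻¹ x, ← hcl (x * g * x⁻¹) v]
      congr 1
      rw [show v⁻¹ = v from inv_eq_of_mul_eq_one_right hv, hA.inverts hv hv1 hvN hx]
      group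
    · push Not at hg
      rw [theta_eq_zero A ν hg, theta_eq_zero A ν fun x hx => hg x ?_]
      simpa [mul_assoc] using A.inv_mem hx
  have e : (coef A ν χ' : ℂ) = conj (coef A ν χ : ℂ) := by
    rw [← coef_spec, ← coef_spec, classInner, classInner, map_mul, map_inv₀, Complex.conj_natCast, map_sum]
    congr 1
    refine Finset.sum_congr rfl fun g _ => ?_
    rw [map_mul, hreal, Complex.conj_conj, h, Complex.conj_conj]
  rw [map_intCast] at e
  exact_mod_cast e

end Cfsg.Agent.SelfCent
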