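/-
The coefficient vectors of the induced characters and the first family.

* `vec`, `fam`, `card_fam` : the family of a subgroup, `t · w = n - 1`
* `sum_deg`, `sum_apply`, `sum_fs` : degrees, values off the subgroup, indicators
* `Base`, `exists_base` : the family of index 2
* `cases_four`          : the two possibilities for a family of index 4
* `sum_sqrt`            : the indicators at a nontrivial element
-/
import Cfsg.Agent.Lib.FSInd.Basic
import Cfsg.Agent.Lib.SelfCentSuzuki.Combin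
import Cfsg.Agent.Lib.SelfCentSuzuki.Exceptional

set_option autoImplicit false
set_option linter.unusedSectionVars false
set_option linter.style.haveILetI false

open Cfsg
open scoped ComplexConjugate

namespace Cfsg.Agent.SelfCent

open Cfsg.Agent.Char Cfsg.Agent.FSInd

variable {G : Type*} [Group G] [Fintype G]

/-- The nontrivial irreducible characters. -/
abbrev Irr₀ (G : Type*) [Group G] : Type _ := {χ : IrrCharacter G // (χ : G → ℂ) ≠ 1}

/-- The trivial character. -/
def triv (G : Type*) [Group G] [Finite G] : IrrCharacter G := ⟨1, isIrrCharacter_one⟩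

/-- The degree. -/
noncomputable def deg (χ : IrrCharacter G) : ℤ :=
  ((IsIrrCharacter.exists_degree χ.2).choose : ℕ)

theorem deg_spec (χ : IrrCharacter G) : (χ : G → ℂ) 1 = deg χ := by
  rw [deg, Int.cast_natCast]
  have h := (IsIrrCharacter.exists_degree χ.2).choose_spec
  first | exact h | exact h.2

theorem deg_pos (χ : IrrCharacter G) : 0 < deg χ := by
  have h0 : 0 ≤ deg χ := by simp [deg]
  refine lt_of_le_of_ne h0 fun h => IsIrrCharacter.apply_one_ne_zero χ.2 ?_
  rw [deg_spec, ← h, Int.cast_zero]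

/-- The Frobenius-Schur indicator as an integer. -/
noncomputable def fs (χ : IrrCharacter G) : ℤ :=
  if fsInd (χ : G → ℂ) = 1 then 1 else if fsInd (χ : G → ℂ) = -1 then -1 else 0

theorem fs_spec (χ : IrrCharacter G) : fsInd (χ : G → ℂ) = fs χ := by
  unfold fs
  split_ifs with h h'
  · simpa using h
  · simpa using h'
  · rw [Int.cast_zero]
    refine fsInd_eq_zero_of_not_real χ.2 fun hr => ?_
    exact (fsInd_eq_one_or_neg_one χ.2 hr).elim h h'

theorem fs_cases (χ : IrrCharacter G) : fs χ = 1 ∨ fs χ = -1 ∨ fs χ = 0 := by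
  unfold fs; split_ifs <;> simp

theorem fs_triv : fs (triv G) = 1 := by
  apply Int.cast_injective (α := ℂ)
  rw [← fs_spec, triv, fsInd]
  simp [card_ne]

variable [Fintype (IrrCharacter G)]

theorem sum_irr {M : Type*} [AddCommMonoid M] [Fintype (Irr₀ G)] (f : IrrCharacter G → M) :
    ∑ χ, f χ = f (triv G) + ∑ χ : Irr₀ G, f χ.1 := by
  classical
  rw [← Finset.sum_erase_add _ _ (Finset.mem_univ (triv G)), add_comm]
  congr 1
  exact Finset.sum_subtype _ (fun χ => by simp [triv, Subtype.ext_iff]) f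

variable [Fintype (Irr₀ G)] [DecidableEq (Irr₀ G)]

/-- The vector of a character of the subgroup. -/
noncomputable def vec (A : Subgroup G) (ν : X₀ A) : Irr₀ G → ℤ := fun χ => coef A ν χ.1

theorem coef_triv (A : Subgroup G) (ν : X₀ A) : coef A ν (triv G) = 1 := coef_one ν

variable {A : Subgroup G} {w : ℕ}

theorem gram (hA : SSC A w) (μ ν : X₀ A) [Decidable (Rel μ ν)] :
    ∑ χ, vec A μ χ * vec A ν χ = (w : ℤ) - 1 + if Rel μ ν then 1 else 0 := by
  have h := sum_coef_mul hA μ ν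
  rw [sum_irr, coef_triv, coef_triv] at h
  simp only [vec]
  linarith

theorem cross {B : Subgroup G} {w' : ℕ} (hB : SSC B w') (μ : X₀ A) (ν : X₀ B)
    (h : ∀ a ∈ A, a ≠ 1 → ∀ b ∈ B, ¬ IsConj a b) : ∑ χ, vec A μ χ * vec B ν χ = -1 := by
  have h' := sum_coef_mul_cross hB μ ν h
  rw [sum_irr, coef_triv, coef_triv] at h'
  simp only [vec]
  linarith

theorem rel_refl (μ : X₀ A) : Rel μ μ :=
  ⟨1, Subgroup.one_mem _, Subtype.ext (funext fun a => by simp [twist])⟩

theorem vec_eq_iff (hA : SSC A w) (μ ν : X₀ A) : vec A μ = vec A ν ↔ Rel μ ν := by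
  classical
  constructor
  · intro h
    by_contra hne
    have h1 := gram hA μ ν
    rw [h, gram hA ν ν, if_pos (rel_refl ν), if_neg hne] at h1
    omega
  · intro hR
    have h1 := gram hA μ μ
    have h2 := gram hA ν ν
    have h3 := gram hA μ ν
    rw [if_pos (rel_refl μ)] at h1
    rw [if_pos (rel_refl ν)] at h2
    rw [if_pos hR] at h3
    have h0 : ∑ χ, (vec A μ χ - vec A ν χ) * (vec A μ χ - vec A ν χ) = 0 := by
      simp only [sub_mul, mul_sub, Finset.sum_sub_distrib]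
      rw [Finset.sum_congr rfl (g := fun χ => vec A μ χ * vec A ν χ) fun χ _ => mul_comm (vec A ν χ) _]
      linarith
    exact funext fun χ => sub_eq_zero.1 (mul_self_eq_zero.1
      ((Finset.sum_eq_zero_iff_of_nonneg fun i _ => mul_self_nonneg _).1 h0 χ (Finset.mem_univ χ)))

theorem card_same (hA : SSC A w) [Fintype (X₀ A)] [DecidableEq (X₀ A)] (μ : X₀ A) :
    (Finset.univ.filter fun ν => vec A ν = vec A μ).card = w := by
  classical
  haveI : Fintype (Subgroup.normalizer (A : Set G)) := Fintype.ofFinite _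
  let f : Subgroup.normalizer (A : Set G) → X₀ A := fun x => ⟨twist x.2 μ.1, twist_ne_one x.2 μ⟩
  have h := Finset.card_eq_sum_card_fiberwise (f := f) (s := Finset.univ)
    (t := Finset.univ.filter fun ν => vec A ν = vec A μ)
    (fun x _ => Finset.mem_filter.2 ⟨Finset.mem_univ _, (vec_eq_iff hA _ _).2 ⟨x, x.2, rfl⟩⟩)
  rw [Finset.sum_const_nat (m := Nat.card A), Finset.card_univ, ← Nat.card_eq_fintype_card,
    hA.card_normalizer] at h
  · exact (Nat.eq_of_mul_eq_mul_right Nat.card_pos h).symm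
  · intro ν hν
    have hR := (vec_eq_iff hA _ _).1 (Finset.mem_filter.1 hν).2
    rw [show (Finset.univ.filter fun x => f x = ν) =
        Finset.univ.filter fun x : Subgroup.normalizer (A : Set G) => twist x.2 μ.1 = ν.1 from
      Finset.filter_congr fun x _ => Subtype.ext_iff, card_twist_eq hA ν μ, if_pos hR]

theorem card_fam (hA : SSC A w) [Fintype (X₀ A)] :
    (Finset.univ.image (vec A)).card * w = Nat.card A - 1 := by
  classical
  rw [Fam.card_image (vec A) w (card_same hA), ← Nat.card_eq_fintype_card, card_X₀ hA]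

theorem fam (hA : SSC A w) (h : w < Nat.card A - 1) : Fam (vec A) w := by
  classical
  haveI : Fintype (X₀ A) := Fintype.ofFinite _
  refine ⟨hA.two_four, fun μ => ?_, fun μ ν => ?_, fun μ => ?_⟩
  · rw [gram hA, if_pos (rel_refl μ)]; ring
  · by_cases hR : Rel μ ν
    · exact Or.inl ((vec_eq_iff hA μ ν).2 hR)
    · right; rw [gram hA, if_neg hR, add_zero]
  · by_contra hall
    push Not at hall
    have := card_same hA μ
    rw [Finset.filter_true_of_mem fun ν _ => hall ν, Finset.card_univ, ← Nat.card_eq_fintype_card,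
      card_X₀ hA] at this
    omega

/-- Off the conjugates of the subgroup, and at the identity. -/
theorem sum_apply (hA : SSC A w) (ν : X₀ A) {g : G} (h : g = 1 ∨ ∀ x : G, x * g * x⁻¹ ∉ A) :
    ∑ χ, (vec A ν χ : ℂ) * (χ.1 : G → ℂ) g = -1 := by
  have h0 : theta A ν g = 0 := by
    rcases h with rfl | h
    exacts [theta_one hA ν, theta_eq_zero A ν h]
  rw [theta_eq_sum, sum_irr, coef_triv] at h0
  simp only [triv, Int.cast_one, Pi.one_apply, one_mul] at h0
  simp only [vec]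
  linear_combination h0

theorem sum_deg (hA : SSC A w) (ν : X₀ A) : ∑ χ, vec A ν χ * deg χ.1 = -1 := by
  apply Int.cast_injective (α := ℂ)
  push_cast
  simp only [← deg_spec]
  exact sum_apply hA ν (Or.inl rfl)

/-- The indicators at a nontrivial element of the subgroup. -/
theorem sum_sqrt (hA : SSC A w) {a : G} (ha : a ∈ A) (ha1 : a ≠ 1) :
    Nat.card {s : G // s * s = a} = 1 := by
  obtain ⟨j, hj⟩ := hA.orderOf_odd ha
  have hs : a ^ (j + 1) * a ^ (j + 1) = a := by
    rw [← pow_add, show j + 1 + (j + 1) = orderOf a + 1 by omega, pow_succ, pow_orderOf_eq_one, one_mul]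
  refine Nat.card_eq_one_iff_unique.2 ⟨⟨fun ⟨s, hs'⟩ ⟨t, ht⟩ => Subtype.ext ?_⟩, ⟨⟨_, hs⟩⟩⟩
  have hmem : ∀ r : G, r * r = a → r ∈ A := fun r hr => hA.mem_of_commute ha ha1 (by rw [← hr, mul_assoc])
  have h1 := hmem s hs'
  have h2 := hmem t ht
  refine mul_inv_eq_one.1 (hA.one_of_sq (A.mul_mem h1 (A.inv_mem h2)) ?_)
  rw [show s * t⁻¹ * (s * t⁻¹) = s * (t⁻¹ * s) * t⁻¹ by group, ← hA.comm h1 (A.inv_mem h2),
    show s * (s * t⁻¹) * t⁻¹ = s * s * (t * t)⁻¹ by group, hs', ht, mul_inv_cancel]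

theorem sum_fs (hA : SSC A w) (ν : X₀ A) : ∑ χ, vec A ν χ * fs χ.1 = 0 := by
  classical
  haveI : Fintype (X₀ A) := Fintype.ofFinite _
  have key : ∀ μ : X₀ A, ∑ χ : IrrCharacter G, (fs χ : ℂ) * (coef A μ χ : ℂ) = 1 := by
    intro μ
    have h := const_of_sum hA (fun μ => ∑ χ : IrrCharacter G, (fs χ : ℂ) * (coef A μ χ : ℂ)) (-1) ?_ μ
    · simpa using h
    intro a ha
    have hcount := card_sqrt_eq_sum (G := G) (a : G)
    rw [sum_sqrt hA a.2 (fun e => ha (Subtype.ext e)), Nat.cast_one] at hcount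
    rw [hcount, ← Finset.sum_neg_distrib]
    simp only [Finset.sum_mul]
    rw [Finset.sum_comm]
    refine Finset.sum_congr rfl fun χ _ => ?_
    rw [fs_spec, (apply_mem hA χ).1 a ha, mul_neg, neg_neg, Finset.mul_sum]
    exact Finset.sum_congr rfl fun μ _ => by ring
  have h := key ν
  rw [sum_irr, coef_triv, fs_triv] at h
  apply Int.cast_injective (α := ℂ)
  push_cast
  simp only [vec]
  rw [Finset.sum_congr rfl fun χ _ => mul_comm ((coef A ν χ.1 : ℂ)) _]
  push_cast at h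
  linear_combination h

/-- A constant coefficient. -/
theorem of_const (hA : SSC A w) {χ : IrrCharacter G} {c : ℤ} (hc : ∀ ν, coef A ν χ = c) :
    (Nat.card A : ℤ) ∣ deg χ - c ∧ ∀ a : A, a ≠ 1 → (χ : G → ℂ) a = c := by
  classical
  haveI : Fintype (X₀ A) := Fintype.ofFinite _
  obtain ⟨h1, m, hm⟩ := apply_mem hA χ
  refine ⟨⟨(m : ℤ) - c, ?_⟩, fun a ha => ?_⟩
  · apply Int.cast_injective (α := ℂ)
    have hn := hA.five
    simp only [hc, Finset.sum_const, Finset.card_univ, ← Nat.card_eq_fintype_card, card_X₀ hA,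
      nsmul_eq_mul, Nat.cast_sub (show 1 ≤ Nat.card A by omega)] at hm
    push_cast
    rw [← deg_spec, hm]
    push_cast
    ring
  · rw [h1 a ha]
    simp only [hc, ← Finset.mul_sum, sum_irr_apply hA ha]
    ring

/-- The family of a subgroup of index 2. -/
structure Base (A : Subgroup G) where
  Λ : Irr₀ G
  δ : ℤ
  e : X₀ A → Irr₀ G
  ε : ℤ
  hδ : δ = 1 ∨ δ = -1
  hε : ε = 1 ∨ ε = -1
  ne : ∀ ν, e ν ≠ Λ
  eq : ∀ ν χ, vec A ν χ = (if χ = Λ then δ else 0) + (if χ = e ν then ε else 0)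
  inj : ∀ μ ν, e μ = e ν → vec A μ = vec A ν

theorem nonempty_X₀ (hA : SSC A w) : Nonempty (X₀ A) := by
  refine (Nat.card_pos_iff.1 ?_).1
  rw [card_X₀ hA]
  have := hA.five
  omega

theorem exists_base (hA : SSC A 2) : Nonempty (Base A) := by
  classical
  haveI : Nonempty (X₀ A) := nonempty_X₀ hA
  have hF := fam hA (by have := hA.five; omega)
  obtain ⟨Λ, a, e, ε, ha, hε, hne, hform, hinj⟩ := hF.star (fun χ => deg χ.1) (sum_deg hA)
  have hdeg : ∀ ν, a * deg Λ.1 + ε ν * deg (e ν).1 = -1 := by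
    intro ν
    have h := sum_deg hA ν
    simpa [hform, add_mul, Finset.sum_add_distrib] using h
  obtain ⟨ν₀⟩ := nonempty_X₀ hA
  refine ⟨⟨Λ, a, e, ε ν₀, ha, hε ν₀, hne, fun ν χ => ?_, hinj⟩⟩
  have h1 := hdeg ν
  have h2 := hdeg ν₀
  have p1 := deg_pos (e ν).1
  have p2 := deg_pos (e ν₀).1
  have : ε ν = ε ν₀ := by
    rcases hε ν with h | h <;> rcases hε ν₀ with h' | h' <;> rw [h] at h1 ⊢ <;> rw [h'] at h2 ⊢ <;> omega
  rw [hform, this]

namespace Base

variable (b : Base A)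

/-- The signed degree of the common character. -/
noncomputable def L : ℤ := b.δ * deg b.Λ.1

theorem natAbs_L : (b.L.natAbs : ℤ) = deg b.Λ.1 := by
  have := deg_pos b.Λ.1
  unfold L
  rcases b.hδ with h | h <;> rw [h] <;> omega

theorem sum_eq {M : Type*} [CommRing M] (ν : X₀ A) (f : Irr₀ G → M) :
    ∑ χ, (vec A ν χ : M) * f χ = (b.δ : M) * f b.Λ + (b.ε : M) * f (b.e ν) := by
  simp [b.eq, apply_ite (Int.cast : ℤ → M), add_mul, Finset.sum_add_distrib]

theorem deg_e (hA : SSC A 2) (ν : X₀ A) : b.ε * deg (b.e ν).1 = -1 - b.L := by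
  have h := b.sum_eq (M := ℤ) ν fun χ => deg χ.1
  simp only [Int.cast_id] at h
  rw [sum_deg hA ν] at h
  unfold L
  linarith

theorem L_ne (hA : SSC A 2) : b.L ≠ 0 ∧ b.L ≠ -1 := by
  obtain ⟨ν⟩ := nonempty_X₀ hA
  have h := b.deg_e hA ν
  have h1 := deg_pos (b.e ν).1
  have h2 := deg_pos b.Λ.1
  refine ⟨fun h0 => ?_, fun h0 => ?_⟩
  · unfold L at h0
    rcases b.hδ with e | e <;> rw [e] at h0 <;> omega
  · rw [h0] at h
    rcases b.hε with e | e <;> rw [e] at h <;> omega

theorem coef_Λ (ν : X₀ A) : coef A ν b.Λ.1 = b.δ := by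
  have := b.eq ν b.Λ
  simpa [vec, (b.ne ν).symm] using this

theorem exists_ne (hA : SSC A 2) (μ : X₀ A) : ∃ ν, b.e ν ≠ b.e μ := by
  obtain ⟨ν, hν⟩ := (fam hA (by have := hA.five; omega)).two μ
  exact ⟨ν, fun h => hν (b.inj ν μ h)⟩

theorem L_dvd (hA : SSC A 2) : (Nat.card A : ℤ) ∣ b.L - 1 := by
  obtain ⟨k, hk⟩ := (of_const hA b.coef_Λ).1
  refine ⟨b.δ * k, ?_⟩
  unfold L
  rcases b.hδ with h | h <;> rw [h] at hk ⊢ <;> linarith

theorem real_Λ (hA : SSC A 2) : fs b.Λ.1 = 1 ∨ fs b.Λ.1 = -1 := by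
  classical
  let χ' : IrrCharacter G := ⟨_, IsIrrCharacter.conj b.Λ.1.2⟩
  have hne : (χ' : G → ℂ) ≠ 1 := fun h => b.Λ.2 (funext fun g => by
    have := congrArg conj (congrFun h g)
    simpa [χ'] using this)
  obtain ⟨ν⟩ := nonempty_X₀ hA
  obtain ⟨ν', hν'⟩ := b.exists_ne hA ν
  have hc : ∀ μ, vec A μ ⟨χ', hne⟩ = b.δ := fun μ =>
    (coef_conj hA μ b.Λ.1 χ' fun g => rfl).trans (b.coef_Λ μ)
  have heq : (⟨χ', hne⟩ : Irr₀ G) = b.Λ := by
    by_contra hd
    have h0 : b.δ ≠ 0 := by rcases b.hδ with h | h <;> simp [h]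
    have e1 : (⟨χ', hne⟩ : Irr₀ G) = b.e ν := by
      by_contra h'
      exact h0 (by rw [← hc ν, b.eq, if_neg hd, if_neg h', add_zero])
    have e2 : (⟨χ', hne⟩ : Irr₀ G) = b.e ν' := by
      by_contra h'
      exact h0 (by rw [← hc ν', b.eq, if_neg hd, if_neg h', add_zero])
    exact hν' (e2.symm.trans e1)
  have hr : ∀ g, ((b.Λ.1 : G → ℂ) g).im = 0 := fun g => by
    have h := congrArg (fun χ : Irr₀ G => (χ.1 : G → ℂ) g) heq
    exact Complex.conj_eq_iff_im.1 h
  rcases fsInd_eq_one_or_neg_one b.Λ.1.2 hr with h | h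
  · exact Or.inl (Int.cast_injective (α := ℂ) (by rw [← fs_spec, h, Int.cast_one]))
  · exact Or.inr (Int.cast_injective (α := ℂ) (by rw [← fs_spec, h, Int.cast_neg, Int.cast_one]))

/-- The sign of the indicator. -/
noncomputable def τ : ℤ := b.δ * fs b.Λ.1

theorem τ_cases (hA : SSC A 2) : b.τ = 1 ∨ b.τ = -1 := by
  unfold τ
  rcases b.real_Λ hA with h | h <;> rcases b.hδ with e | e <;> simp [h, e]

theorem fs_e (hA : SSC A 2) (ν : X₀ A) : b.ε * fs (b.e ν).1 = -b.τ := by
  have h := b.sum_eq (M := ℤ) ν fun χ => fs χ.1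
  simp only [Int.cast_id] at h
  rw [sum_fs hA ν] at h
  unfold τ
  linarith

end Base

/-- The two possibilities for a family of index 4 next to the first one. -/
theorem cases_four (hA : SSC A 2) (b : Base A) {B : Subgroup G} (hB : SSC B 4) (h5 : 5 < Nat.card B)
    (hd : ∀ a ∈ A, a ≠ 1 → ∀ x ∈ B, ¬ IsConj a x) :
    (∀ μ, vec B μ b.Λ = -b.δ ∧ ∀ ν, vec B μ (b.e ν) = 0) ∨
      ∀ μ, vec B μ b.Λ = 0 ∧ ∀ ν, vec B μ (b.e ν) = -b.ε := by
  classical
  have hF := fam hB (by
    obtain ⟨k, hk⟩ := hB.dvd_pred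
    omega)
  have key : ∀ μ ν, b.δ * vec B μ b.Λ + b.ε * vec B μ (b.e ν) = -1 := by
    intro μ ν
    have h := b.sum_eq (M := ℤ) ν (fun χ => vec B μ χ)
    simp only [Int.cast_id] at h
    rw [cross hB ν μ hd] at h
    linarith
  obtain ⟨ν₀⟩ := nonempty_X₀ hA
  have hcase : ∀ μ, (vec B μ b.Λ = -b.δ ∧ ∀ ν, vec B μ (b.e ν) = 0) ∨
      (vec B μ b.Λ = 0 ∧ ∀ ν, vec B μ (b.e ν) = -b.ε) := by
    intro μ
    have h0 := key μ ν₀
    rcases hF.unit μ b.Λ with h | h | h <;> rcases b.hδ with e | e <;> rcases b.hε with e' | e' <;>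
      rcases hF.unit μ (b.e ν₀) with h' | h' | h' <;> rw [h, h', e, e'] at h0 <;> norm_num at h0 <;>
      first
        | (refine Or.inl ⟨by simp [h, e], fun ν => ?_⟩
           have := key μ ν
           rw [h, e, e'] at this
           omega)
        | (refine Or.inr ⟨h, fun ν => ?_⟩
           have := key μ ν
           rw [h, e, e'] at this
           omega)
  by_cases hall : ∀ μ, vec B μ b.Λ = -b.δ ∧ ∀ ν, vec B μ (b.e ν) = 0
  · exact Or.inl hall
  refine Or.inr fun μ' => ?_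
  obtain ⟨μ, hμ⟩ := not_forall.1 hall
  have hB' := (hcase μ).resolve_left hμ
  refine (hcase μ').resolve_left fun hA' => ?_
  obtain ⟨ν₁, hν₁⟩ := b.exists_ne hA ν₀
  have hne : vec B μ ≠ vec B μ' := fun h => by
    have := congrFun h b.Λ
    rw [hB'.1, hA'.1] at this
    rcases b.hδ with e | e <;> omega
  have hm := (hF.meet hne).1
  have hsub : supp (vec B) μ ∩ supp (vec B) μ' ⊆ ((supp (vec B) μ).erase (b.e ν₀)).erase (b.e ν₁) := by
    intro x hx
    obtain ⟨h1, h2⟩ := Finset.mem_inter.1 hx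
    refine Finset.mem_erase.2 ⟨?_, Finset.mem_erase.2 ⟨?_, h1⟩⟩ <;> rintro rfl <;>
      exact mem_supp.1 h2 (hA'.2 _)
  have hin : ∀ ν, b.e ν ∈ supp (vec B) μ := fun ν => mem_supp.2 (by
    rw [hB'.2]; rcases b.hε with e | e <;> simp [e])
  have := Finset.card_le_card hsub
  rw [Finset.card_erase_of_mem (Finset.mem_erase.2 ⟨hν₁, hin ν₁⟩), Finset.card_erase_of_mem (hin ν₀),
    hF.card_supp] at this
  omega

end Cfsg.Agent.SelfCent
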