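/-
Involutions and their products.

* `Inv`, `Np`       : involutions, pairs with a given product
* `Ctx`             : the three subgroups
* `isConj_inv`      : all involutions are conjugate
* `formula`         : `g (L - l)² = n₁ h² L (L + 1)`
* `pairs_lower`, `pairs_upper` : `K + g T ≤ K² ≤ g (k - 1)`
* `abs_invol_le`    : positivity on `A⟨v⟩`
-/
import Cfsg.Agent.Lib.Char.ClassMult
import Cfsg.Agent.Lib.Char.Eigen
import Cfsg.Agent.Lib.SelfCentSuzuki.Family

set_option autoImplicit false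
set_option linter.unusedSectionVars false
set_option linter.style.haveILetI false

open Cfsg
open scoped ComplexConjugate

namespace Cfsg.Agent.SelfCent

open Cfsg.Agent.Char

variable {G : Type*} [Group G] [Fintype G]

/-- An involution. -/
def Inv' (x : G) : Prop := x * x = 1 ∧ x ≠ 1

theorem Inv'.inv_eq {x : G} (h : Inv' x) : x⁻¹ = x := inv_eq_of_mul_eq_one_right h.1

theorem Inv'.conj {x : G} (h : Inv' x) (g : G) : Inv' (g * x * g⁻¹) :=
  ⟨by rw [conj_mul, h.1, mul_one, mul_inv_cancel], fun e => h.2 (conj_eq_one_iff.1 e)⟩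

theorem Inv'.of_isConj {x y : G} (h : Inv' x) (hc : IsConj x y) : Inv' y := by
  obtain ⟨g, rfl⟩ := isConj_iff.1 hc
  exact h.conj g

/-- The number of pairs of involutions with a given product. -/
noncomputable def Np (z : G) : ℕ := Nat.card {p : G × G // Inv' p.1 ∧ Inv' p.2 ∧ p.1 * p.2 = z}

theorem inverts_of_pair {x y z : G} (hx : Inv' x) (hy : Inv' y) (h : x * y = z) : x * z * x = z⁻¹ := by
  rw [← h, ← mul_assoc, hx.1, one_mul, mul_inv_rev, hy.inv_eq, hx.inv_eq]

theorem int_of_invol {χ : G → ℂ} (hχ : IsCharacter G χ) {t : G} (ht : t * t = 1) : ∃ v : ℤ, χ t = v := by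
  obtain ⟨n, ρ, rfl⟩ := hχ
  obtain ⟨b, μ, hμ, hroot⟩ := exists_eigenbasis ρ t
  have hsign : ∀ i, μ i = 1 ∨ μ i = -1 := fun i => by
    refine mul_self_eq_one_iff.mp ?_
    obtain ⟨q, hq⟩ : orderOf t ∣ 2 := orderOf_dvd_of_pow_eq_one (by rw [pow_two, ht])
    rw [← pow_two, hq, pow_mul, hroot, one_pow]
  classical
  refine ⟨∑ i, if μ i = 1 then (1 : ℤ) else -1, ?_⟩
  rw [character_eq_sum_eigenvalues ρ t b μ hμ, Int.cast_sum]
  refine Finset.sum_congr rfl fun i _ => ?_
  rcases hsign i with h | h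
  · simp [h]
  · simp [h, show (-1 : ℂ) ≠ 1 by norm_num]

theorem ne_deg [IsSimpleGroup G] {χ : G → ℂ} (hχ : IsIrrCharacter G χ) (hne : χ ≠ 1) {t : G}
    (ht : t ≠ 1) : χ t ≠ χ 1 := by
  intro he
  have hc := hχ
  obtain ⟨n, ρ, hirr, rfl⟩ := hc
  rw [Representation.char_one] at he
  have h1 := (character_eq_finrank_iff ρ t).1 he
  rcases (MonoidHom.normal_ker ρ).eq_bot_or_eq_top with hb | htop
  · refine ht ((MonoidHom.ker_eq_bot_iff _).1 hb ?_)
    rw [h1, map_one]
    rfl
  · have hconst : ∀ g, ρ.character g = (ρ.character 1) := fun g => by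
      have : g ∈ MonoidHom.ker ρ := htop ▸ Subgroup.mem_top g
      simp [Representation.character, MonoidHom.mem_ker.1 this]
    have h := classInner_irr_of_ne hχ isIrrCharacter_one hne
    rw [classInner, Finset.sum_congr rfl fun g _ => by rw [hconst g, Pi.one_apply, map_one, mul_one],
      Finset.sum_const, Finset.card_univ, nsmul_eq_mul, ← Nat.card_eq_fintype_card,
      inv_mul_cancel_left₀ (Nat.cast_ne_zero.2 Nat.card_pos.ne')] at h
    exact IsIrrCharacter.apply_one_ne_zero hχ h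

variable {A : Subgroup G} {w : ℕ}

theorem SSC.not_inv (hA : SSC A w) {v : G} (hv : Inv' v) (x : G) : x * v * x⁻¹ ∉ A :=
  fun h => (hv.conj x).2 (hA.one_of_sq h (hv.conj x).1)

theorem Np_mem (hA : SSC A w) {a : G} (ha : a ∈ A) (ha1 : a ≠ 1) : Np a = Nat.card A := by
  rw [← hA.card_inverters ha ha1]
  refine Nat.card_congr
    { toFun := fun p => ⟨p.1.1, p.2.1.1, p.2.1.2, inverts_of_pair p.2.1 p.2.2.1 p.2.2.2⟩
      invFun := fun x => ⟨(x.1, x.1 * a), ⟨x.2.1, x.2.2.1⟩, ⟨by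
        rw [← mul_assoc, x.2.2.2, inv_mul_cancel], fun e => ?_⟩, by rw [← mul_assoc, x.2.1, one_mul]⟩
      left_inv := fun p => Subtype.ext (Prod.ext rfl (by
        show p.1.1 * a = p.1.2
        calc p.1.1 * a = p.1.1 * (p.1.1 * p.1.2) := by rw [p.2.2.2]
          _ = p.1.2 := by rw [← mul_assoc, p.2.1.1, one_mul]))
      right_inv := fun x => rfl }
  have hax : a = x.1 := by
    rw [← inv_eq_of_mul_eq_one_right x.2.1, eq_inv_iff_mul_eq_one, ← mul_eq_one_comm]
    exact e
  exact ha1 (hA.one_of_sq ha (hax ▸ x.2.1))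

theorem isConj_of_pair (hA : SSC A w) {v₀ : G} (hv : Inv' v₀) (hN : v₀ ∈ Subgroup.normalizer (A : Set G))
    {a x y : G} (ha : a ∈ A) (ha1 : a ≠ 1) (hx : Inv' x) (hy : Inv' y) (h : x * y = a) : IsConj v₀ x :=
  hA.isConj_inverter hv.1 hv.2 hN ha ha1 hx.1 hx.2 (inverts_of_pair hx hy h)

variable [Fintype (IrrCharacter G)] [Fintype (Irr₀ G)] [DecidableEq (Irr₀ G)]

namespace Base

variable (b : Base A)

/-- The signed value of the common character. -/
noncomputable def val (t : G) : ℂ := (b.δ : ℂ) * (b.Λ.1 : G → ℂ) t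

theorem val_one : b.val 1 = (b.L : ℂ) := by rw [val, deg_spec, L]; push_cast; rfl

/-- The class multiplication formula at the first subgroup. -/
theorem pair_formula (hA : SSC A 2) {u v a : G} (hu : Inv' u) (hv : Inv' v) (ha : a ∈ A) (ha1 : a ≠ 1) :
    (Nat.card {p : G × G // IsConj u p.1 ∧ IsConj v p.2 ∧ p.1 * p.2 = a} : ℂ) * (b.L * (b.L + 1)) *
        (Nat.card G : ℂ) =
      (Nat.card {x : G // IsConj u x} : ℂ) * (Nat.card {x : G // IsConj v x} : ℂ) *
        ((b.L - b.val u) * (b.L - b.val v)) := by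
  classical
  haveI : Fintype (X₀ A) := Fintype.ofFinite _
  have hL := b.L_ne hA
  have hL0 : (b.L : ℂ) ≠ 0 := Int.cast_ne_zero.2 hL.1
  have hL1 : (b.L : ℂ) + 1 ≠ 0 := by
    have : b.L + 1 ≠ 0 := by omega
    exact_mod_cast this
  have hδ : (b.δ : ℂ) * b.δ = 1 := by rcases b.hδ with h | h <;> simp [h]
  have hε : (b.ε : ℂ) * b.ε = 1 := by rcases b.hε with h | h <;> simp [h]
  have hval : ∀ ν t, t = u ∨ t = v → (b.ε : ℂ) * ((b.e ν).1 : G → ℂ) t = -1 - b.val t := by
    intro ν t ht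
    have hti : Inv' t := by rcases ht with rfl | rfl <;> assumption
    have h := b.sum_eq (M := ℂ) ν fun χ => (χ.1 : G → ℂ) t
    rw [sum_apply hA ν (Or.inr fun x => hA.not_inv hti x)] at h
    rw [val]
    linear_combination -h
  have hterm : ∀ ν : X₀ A, ∑ χ : Irr₀ G, (vec A ν χ : ℂ) *
      ((χ.1 : G → ℂ) u * (χ.1 : G → ℂ) v / (χ.1 : G → ℂ) 1) =
      b.val u * b.val v / b.L - (1 + b.val u) * (1 + b.val v) / (b.L + 1) := by
    intro ν
    rw [b.sum_eq, deg_spec, deg_spec]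
    have e1 : (b.ε : ℂ) * (deg (b.e ν).1 : ℂ) = -1 - (b.L : ℂ) := by exact_mod_cast b.deg_e hA ν
    have e2 : (b.δ : ℂ) * (deg b.Λ.1 : ℂ) = (b.L : ℂ) := by rw [L]; push_cast; rfl
    have d1 : (deg b.Λ.1 : ℂ) = b.δ * b.L := by linear_combination (deg b.Λ.1 : ℂ) * (-hδ) + (b.δ : ℂ) * e2
    have d2 : (deg (b.e ν).1 : ℂ) = b.ε * (-1 - b.L) := by
      linear_combination (deg (b.e ν).1 : ℂ) * (-hε) + (b.ε : ℂ) * e1
    have hδ0 : (b.δ : ℂ) ≠ 0 := left_ne_zero_of_mul_eq_one hδ
    have hε0 : (b.ε : ℂ) ≠ 0 := left_ne_zero_of_mul_eq_one hε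
    have t1 : (b.δ : ℂ) * ((b.Λ.1 : G → ℂ) u * (b.Λ.1 : G → ℂ) v / deg b.Λ.1) =
        b.val u * b.val v / b.L := by
      rw [val, val, d1]; field_simp
      linear_combination (-((b.Λ.1 : G → ℂ) u * (b.Λ.1 : G → ℂ) v)) * hδ
    have t2 : (b.ε : ℂ) * (((b.e ν).1 : G → ℂ) u * ((b.e ν).1 : G → ℂ) v / deg (b.e ν).1) =
        -((1 + b.val u) * (1 + b.val v) / (b.L + 1)) := by
      have eu := hval ν u (Or.inl rfl)
      have ev := hval ν v (Or.inr rfl)
      rw [d2, show (1 + b.val u) * (1 + b.val v) = ((b.ε : ℂ) * ((b.e ν).1 : G → ℂ) u) *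
        ((b.ε : ℂ) * ((b.e ν).1 : G → ℂ) v) by rw [eu, ev]; ring,
        show (-1 - (b.L : ℂ)) = -((b.L : ℂ) + 1) by ring]
      field_simp
      linear_combination (((b.e ν).1 : G → ℂ) u * ((b.e ν).1 : G → ℂ) v) * hε
    rw [t1, t2]
    ring
  have hS : ∑ χ : IrrCharacter G,
      (χ : G → ℂ) u * (χ : G → ℂ) v * conj ((χ : G → ℂ) a) / (χ : G → ℂ) 1 =
      (b.L - b.val u) * (b.L - b.val v) / (b.L * (b.L + 1)) := by
    have hR : ∀ χ : Irr₀ G,
        (χ.1 : G → ℂ) u * (χ.1 : G → ℂ) v * conj ((χ.1 : G → ℂ) a) / (χ.1 : G → ℂ) 1 =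
        ∑ ν : X₀ A, -(conj ((ν.1 : A → ℂ) ⟨a, ha⟩)) *
          ((vec A ν χ : ℂ) * ((χ.1 : G → ℂ) u * (χ.1 : G → ℂ) v / (χ.1 : G → ℂ) 1)) := by
      intro χ
      have h := (apply_mem hA χ.1).1 ⟨a, ha⟩ (fun e => ha1 (congrArg Subtype.val e))
      simp only at h
      rw [h, map_neg, map_sum, ← Finset.sum_neg_distrib, Finset.mul_sum, Finset.sum_div]
      refine Finset.sum_congr rfl fun ν _ => ?_
      rw [map_mul, map_intCast, vec]
      ring
    have hc : ∑ ν : X₀ A, -(conj ((ν.1 : A → ℂ) ⟨a, ha⟩)) = 1 := by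
      rw [Finset.sum_neg_distrib, ← map_sum, sum_irr_apply hA (fun e => ha1 (congrArg Subtype.val e))]
      simp
    rw [sum_irr, Finset.sum_congr rfl fun χ _ => hR χ, Finset.sum_comm]
    simp only [← Finset.mul_sum, hterm, ← Finset.sum_mul, hc, triv, Pi.one_apply, map_one, one_mul, mul_one,
      div_one]
    field_simp
    ring
  have hg : (Nat.card G : ℂ) ≠ 0 := Nat.cast_ne_zero.2 Nat.card_pos.ne'
  rw [class_mult_formula u v a, hS]
  field_simp

end Base

/-- The three subgroups. -/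
structure Ctx (A₁ A₂ A₃ : Subgroup G) : Prop where
  h₁ : SSC A₁ 2
  h₂ : SSC A₂ 4
  h₃ : SSC A₃ 4
  five₂ : 5 < Nat.card A₂
  five₃ : 5 < Nat.card A₃
  d₁₂ : ∀ a ∈ A₁, a ≠ 1 → ∀ x ∈ A₂, ¬ IsConj a x
  d₁₃ : ∀ a ∈ A₁, a ≠ 1 → ∀ x ∈ A₃, ¬ IsConj a x
  d₂₃ : ∀ a ∈ A₂, a ≠ 1 → ∀ x ∈ A₃, ¬ IsConj a x

namespace Ctx

variable {A₁ A₂ A₃ : Subgroup G}

theorem swap (H : Ctx A₁ A₂ A₃) : Ctx A₁ A₃ A₂ :=
  ⟨H.h₁, H.h₃, H.h₂, H.five₃, H.five₂, H.d₁₃, H.d₁₂, fun a ha ha1 x hx hc =>
    H.d₂₃ x hx (fun e => ha1 (by subst e; simpa using hc)) a ha hc.symm⟩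

variable [IsSimpleGroup G]

/-- All involutions are conjugate. -/
theorem isConj_inv (H : Ctx A₁ A₂ A₃) {x y : G} (hx : Inv' x) (hy : Inv' y) : IsConj x y := by
  classical
  obtain ⟨b⟩ := exists_base H.h₁
  obtain ⟨u, hu, hu1, huN⟩ := H.h₁.exists_inv
  obtain ⟨a, ha, ha1⟩ := H.h₁.ne_bot
  suffices key : ∀ v : G, Inv' v → IsConj u v from (key x hx).symm.trans (key y hy)
  intro v hv
  by_contra hne
  have h := b.pair_formula H.h₁ hv hv ha ha1
  have h0 : Nat.card {p : G × G // IsConj v p.1 ∧ IsConj v p.2 ∧ p.1 * p.2 = a} = 0 := by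
    rw [Nat.card_eq_zero]
    exact Or.inl ⟨fun ⟨p, h1, h2, h3⟩ => hne ((isConj_of_pair H.h₁ ⟨hu, hu1⟩ huN ha ha1
      (hv.of_isConj h1) (hv.of_isConj h2) h3).trans h1.symm)⟩
  rw [h0, Nat.cast_zero, zero_mul, zero_mul, eq_comm] at h
  haveI : Nonempty {x : G // IsConj v x} := ⟨⟨v, IsConj.refl v⟩⟩
  have hK : (Nat.card {x : G // IsConj v x} : ℂ) ≠ 0 := Nat.cast_ne_zero.2 Nat.card_pos.ne'
  have hLv : (b.L : ℂ) - b.val v = 0 := by
    rcases mul_eq_zero.1 h with h' | h'
    · exact absurd h' (mul_ne_zero hK hK)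
    · exact mul_self_eq_zero.1 h'
  rw [← b.val_one, Base.val, Base.val, ← mul_sub] at hLv
  refine ne_deg b.Λ.1.2 b.Λ.2 hv.2 (sub_eq_zero.1 ?_).symm
  exact (mul_eq_zero.1 hLv).resolve_left (by rcases b.hδ with e | e <;> simp [e])

theorem inv_iff (H : Ctx A₁ A₂ A₃) {u : G} (hu : Inv' u) (x : G) : IsConj u x ↔ Inv' x :=
  ⟨hu.of_isConj, H.isConj_inv hu⟩

theorem card_inv_mul (H : Ctx A₁ A₂ A₃) {u : G} (hu : Inv' u) :
    Nat.card {x : G // Inv' x} * Nat.card (Subgroup.centralizer ({u} : Set G)) = Nat.card G := by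
  rw [← card_conjugates_mul_card_centralizer u]
  congr 1
  exact Nat.card_congr (Equiv.subtypeEquivRight fun x => (H.inv_iff hu x).symm)

/-- The value of `δ Λ` at an involution. -/
theorem exists_l (b : Base A₁) {u : G} (hu : Inv' u) : ∃ l : ℤ, b.val u = l := by
  obtain ⟨v, hv⟩ := int_of_invol (IsIrrCharacter.isCharacter b.Λ.1.2) hu.1
  exact ⟨b.δ * v, by rw [Base.val, hv, Int.cast_mul]⟩

theorem formula (H : Ctx A₁ A₂ A₃) (b : Base A₁) {u : G} (hu : Inv' u) {l : ℤ} (hl : b.val u = l) :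
    (Nat.card A₁ : ℤ) * (Nat.card (Subgroup.centralizer ({u} : Set G)) : ℤ) ^ 2 * (b.L * (b.L + 1)) =
      (Nat.card G : ℤ) * (b.L - l) ^ 2 := by
  classical
  obtain ⟨a, ha, ha1⟩ := H.h₁.ne_bot
  have h := b.pair_formula H.h₁ hu hu ha ha1
  have h0 : Nat.card {p : G × G // IsConj u p.1 ∧ IsConj u p.2 ∧ p.1 * p.2 = a} = Nat.card A₁ := by
    rw [← Np_mem H.h₁ ha ha1]
    exact Nat.card_congr (Equiv.subtypeEquivRight fun p => by rw [H.inv_iff hu, H.inv_iff hu])
  rw [h0, hl] at h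
  have hK : (Nat.card {x : G // IsConj u x} : ℤ) * (Nat.card (Subgroup.centralizer ({u} : Set G)) : ℤ) =
      (Nat.card G : ℤ) := by
    exact_mod_cast card_conjugates_mul_card_centralizer u
  have h' : (Nat.card A₁ : ℤ) * (b.L * (b.L + 1)) * (Nat.card G : ℤ) =
      (Nat.card {x : G // IsConj u x} : ℤ) * (Nat.card {x : G // IsConj u x} : ℤ) *
        ((b.L - l) * (b.L - l)) := by
    exact_mod_cast h
  refine mul_left_cancel₀ (a := (Nat.card G : ℤ)) (by exact_mod_cast Nat.card_pos.ne') ?_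
  calc (Nat.card G : ℤ) * ((Nat.card A₁ : ℤ) * (Nat.card (Subgroup.centralizer ({u} : Set G)) : ℤ) ^ 2 *
        (b.L * (b.L + 1)))
      = (Nat.card A₁ : ℤ) * (b.L * (b.L + 1)) * (Nat.card G : ℤ) *
          (Nat.card (Subgroup.centralizer ({u} : Set G)) : ℤ) ^ 2 := by ring
    _ = _ := by rw [h', ← hK]; ring

theorem l_ne (b : Base A₁) {u : G} (hu : Inv' u) {l : ℤ} (hl : b.val u = l) : b.L ≠ l := fun e => by
  rw [← e, ← b.val_one, Base.val, Base.val] at hl
  exact ne_deg b.Λ.1.2 b.Λ.2 hu.2 (mul_left_cancel₀ (by rcases b.hδ with e | e <;> simp [e]) hl)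

end Ctx

theorem Np_conj (z g : G) : Np (g * z * g⁻¹) = Np z := by
  refine Nat.card_congr
    { toFun := fun p => ⟨(g⁻¹ * p.1.1 * g, g⁻¹ * p.1.2 * g),
        by simpa using p.2.1.conj g⁻¹, by simpa using p.2.2.1.conj g⁻¹, by
          calc g⁻¹ * p.1.1 * g * (g⁻¹ * p.1.2 * g) = g⁻¹ * (p.1.1 * p.1.2) * g := by group
            _ = z := by rw [p.2.2.2]; group⟩
      invFun := fun p => ⟨(g * p.1.1 * g⁻¹, g * p.1.2 * g⁻¹), p.2.1.conj g, p.2.2.1.conj g, by
        rw [conj_mul, p.2.2.2]⟩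
      left_inv := fun p => Subtype.ext (Prod.ext (by simp [mul_assoc]) (by simp [mul_assoc]))
      right_inv := fun p => Subtype.ext (Prod.ext (by simp [mul_assoc]) (by simp [mul_assoc])) }

theorem Np_le (z : G) : Np z ≤ Nat.card (Subgroup.centralizer ({z} : Set G)) := by
  rcases isEmpty_or_nonempty {p : G × G // Inv' p.1 ∧ Inv' p.2 ∧ p.1 * p.2 = z} with h | ⟨⟨p₀⟩⟩
  · simp [Np]
  refine Nat.card_le_card_of_injective (fun p => (⟨p₀.1.1 * p.1.1, ?_⟩ :
    Subgroup.centralizer ({z} : Set G))) fun p q e => ?_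
  · rw [Subgroup.mem_centralizer_singleton_iff]
    have h0 := inverts_of_pair p₀.2.1 p₀.2.2.1 p₀.2.2.2
    have h1 := inverts_of_pair p.2.1 p.2.2.1 p.2.2.2
    calc p₀.1.1 * p.1.1 * z = p₀.1.1 * (p.1.1 * z * p.1.1) * p.1.1 := by
          rw [mul_assoc p₀.1.1 (_ * _ * _), mul_assoc (p.1.1 * z), p.2.1.1, mul_one, mul_assoc]
      _ = p₀.1.1 * z⁻¹ * p.1.1 := by rw [h1]
      _ = z * (p₀.1.1 * p.1.1) := by
          rw [← h0, ← mul_assoc p₀.1.1, ← mul_assoc p₀.1.1, p₀.2.1.1, one_mul, mul_assoc]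
  · have e1 : p.1.1 = q.1.1 := mul_left_cancel (congrArg Subtype.val e)
    refine Subtype.ext (Prod.ext e1 ?_)
    exact mul_left_cancel (a := q.1.1) (by rw [q.2.2.2, ← e1, p.2.2.2])

theorem Np_inv_le {u : G} (hu : Inv' u) : Np u < Nat.card (Subgroup.centralizer ({u} : Set G)) := by
  classical
  haveI := Fintype.ofFinite (Subgroup.centralizer ({u} : Set G))
  have hmem : ∀ p : {p : G × G // Inv' p.1 ∧ Inv' p.2 ∧ p.1 * p.2 = u},
      p.1.1 ∈ Subgroup.centralizer ({u} : Set G) := fun p => by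
    rw [Subgroup.mem_centralizer_singleton_iff]
    have h := inverts_of_pair p.2.1 p.2.2.1 p.2.2.2
    rw [hu.inv_eq] at h
    calc p.1.1 * u = p.1.1 * u * p.1.1 * p.1.1 := by rw [mul_assoc _ p.1.1, p.2.1.1, mul_one]
      _ = u * p.1.1 := by rw [h]
  unfold Np
  rw [Nat.card_eq_fintype_card, Nat.card_eq_fintype_card]
  refine Fintype.card_lt_of_injective_of_notMem (fun p => (⟨p.1.1, hmem p⟩ :
    Subgroup.centralizer ({u} : Set G))) (b := 1) (fun p q e => ?_) ?_
  · have e1 : p.1.1 = q.1.1 := congrArg Subtype.val e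
    refine Subtype.ext (Prod.ext e1 ?_)
    exact mul_left_cancel (a := q.1.1) (by rw [q.2.2.2, ← e1, p.2.2.2])
  · rintro ⟨p, hp⟩
    exact p.2.1.2 (congrArg Subtype.val hp)

open Classical in
/-- The pairs whose product lies in a class. -/
noncomputable def classPairs (c : ConjClasses G) : ℕ :=
  (Finset.univ.filter fun p : G × G => (Inv' p.1 ∧ Inv' p.2) ∧ ConjClasses.mk (p.1 * p.2) = c).card

theorem classPairs_mul (z : G) :
    classPairs (ConjClasses.mk z) * Nat.card (Subgroup.centralizer ({z} : Set G)) =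
      Np z * Nat.card G := by
  classical
  have hf : classPairs (ConjClasses.mk z) = Nat.card {x : G // IsConj z x} * Np z := by
    unfold classPairs
    rw [Finset.card_eq_sum_card_fiberwise (f := fun p : G × G => p.1 * p.2)
      (t := Finset.univ.filter fun x => IsConj z x) (fun p hp => Finset.mem_filter.2 ⟨Finset.mem_univ _,
        (ConjClasses.mk_eq_mk_iff_isConj.1 (Finset.mem_filter.1 hp).2.2).symm⟩),
      Finset.sum_const_nat (m := Np z), Nat.card_eq_fintype_card, Fintype.card_subtype]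
    intro x hx
    obtain ⟨g, rfl⟩ := isConj_iff.1 (Finset.mem_filter.1 hx).2
    rw [← Np_conj z g, Np, Nat.card_eq_fintype_card, Fintype.card_subtype, Finset.filter_filter]
    congr 1
    refine Finset.filter_congr fun p _ => ?_
    refine ⟨fun h => ⟨h.1.1.1, h.1.1.2, h.2⟩, fun h => ⟨⟨⟨h.1, h.2.1⟩, ?_⟩, h.2.2⟩⟩
    rw [h.2.2, ConjClasses.mk_eq_mk_iff_isConj]
    exact (isConj_iff.2 ⟨g, rfl⟩ : IsConj z (g * z * g⁻¹)).symm
  rw [hf, mul_comm (Nat.card {x : G // IsConj z x}), mul_assoc,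
    show Nat.card {x : G // IsConj z x} = Nat.card {x : G | IsConj z x} from rfl,
    card_conjugates_mul_card_centralizer]

theorem classPairs_le (c : ConjClasses G) : classPairs c ≤ Nat.card G := by
  obtain ⟨z, rfl⟩ := ConjClasses.mk_surjective c
  exact Nat.le_of_mul_le_mul_right ((classPairs_mul z).le.trans
    ((Nat.mul_le_mul_right _ (Np_le z)).trans (mul_comm _ _).le)) Nat.card_pos

theorem classPairs_mem (hA : SSC A w) {a : G} (ha : a ∈ A) (ha1 : a ≠ 1) :
    classPairs (ConjClasses.mk a) = Nat.card G := by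
  have h := classPairs_mul a
  rw [Np_mem hA ha ha1, hA.cent a ha ha1, mul_comm (Nat.card A)] at h
  exact Nat.eq_of_mul_eq_mul_right Nat.card_pos h

theorem classPairs_one : classPairs (ConjClasses.mk (1 : G)) = Nat.card {x : G // Inv' x} := by
  classical
  have hN : Np (1 : G) = Nat.card {x : G // Inv' x} := Nat.card_congr
    { toFun := fun p => ⟨p.1.1, p.2.1⟩
      invFun := fun x => ⟨(x.1, x.1), x.2, x.2, x.2.1⟩
      left_inv := fun p => Subtype.ext (Prod.ext rfl (by
        show p.1.1 = p.1.2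
        rw [eq_inv_of_mul_eq_one_left p.2.2.2, p.2.2.1.inv_eq]))
      right_inv := fun x => rfl }
  have h := classPairs_mul (1 : G)
  rw [hN, show Subgroup.centralizer ({1} : Set G) = ⊤ from
    eq_top_iff.2 fun x _ => Subgroup.mem_centralizer_singleton_iff.2 (by rw [mul_one, one_mul]),
    Subgroup.card_top] at h
  exact Nat.eq_of_mul_eq_mul_right Nat.card_pos h

open Classical in
/-- The classes of the nontrivial elements of a subgroup. -/
noncomputable def classesOf (A : Subgroup G) : Finset (ConjClasses G) :=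
  (Finset.univ.filter fun a => a ∈ A ∧ a ≠ 1).image ConjClasses.mk

theorem mem_classesOf {c : ConjClasses G} :
    c ∈ classesOf A ↔ ∃ a ∈ A, a ≠ 1 ∧ ConjClasses.mk a = c := by
  classical
  simp [classesOf, and_assoc]

theorem card_classesOf (hA : SSC A w) : (classesOf A).card * w = Nat.card A - 1 := by
  classical
  rw [← hA.card_classes, Nat.card_eq_fintype_card, Fintype.card_subtype]
  congr 2
  ext c
  simp [mem_classesOf]

namespace Ctx

variable {A₁ A₂ A₃ : Subgroup G}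

/-- The total number of classes of the three subgroups. -/
noncomputable def T (_H : Ctx A₁ A₂ A₃) : ℕ :=
  (classesOf A₁).card + (classesOf A₂).card + (classesOf A₃).card

theorem four_T (H : Ctx A₁ A₂ A₃) :
    4 * H.T + 4 = 2 * Nat.card A₁ + Nat.card A₂ + Nat.card A₃ := by
  have := card_classesOf H.h₁
  have := card_classesOf H.h₂
  have := card_classesOf H.h₃
  have := H.h₁.five
  have := H.h₂.five
  have := H.h₃.five
  unfold T
  omega

open Classical in
/-- The classes of the identity, the involutions and the subgroups. -/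
noncomputable def known (_H : Ctx A₁ A₂ A₃) (u : G) : Finset (ConjClasses G) :=
  {ConjClasses.mk 1, ConjClasses.mk u} ∪ (classesOf A₁ ∪ classesOf A₂ ∪ classesOf A₃)

open Classical in
theorem known_facts (H : Ctx A₁ A₂ A₃) {u : G} (hu : Inv' u) :
    (ConjClasses.mk (1 : G)) ≠ ConjClasses.mk u ∧
    (∀ A w, SSC A w → ConjClasses.mk (1 : G) ∉ classesOf A ∧ ConjClasses.mk u ∉ classesOf A) ∧
    Disjoint (classesOf A₁) (classesOf A₂) ∧ Disjoint (classesOf A₁ ∪ classesOf A₂) (classesOf A₃) := by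
  classical
  have hd : ∀ {A B : Subgroup G}, (∀ a ∈ A, a ≠ 1 → ∀ x ∈ B, ¬ IsConj a x) →
      Disjoint (classesOf A) (classesOf B) := fun {A B} h => Finset.disjoint_left.2 fun c hc hc' => by
    obtain ⟨a, ha, ha1, rfl⟩ := mem_classesOf.1 hc
    obtain ⟨x, hx, -, e⟩ := mem_classesOf.1 hc'
    exact h a ha ha1 x hx (ConjClasses.mk_eq_mk_iff_isConj.1 e).symm
  refine ⟨fun e => hu.2 ?_, fun A w hA => ⟨fun h => ?_, fun h => ?_⟩, hd H.d₁₂,
    Finset.disjoint_union_left.2 ⟨hd H.d₁₃, hd H.d₂₃⟩⟩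
  · simpa using (ConjClasses.mk_eq_mk_iff_isConj.1 e).symm
  · obtain ⟨a, -, ha1, e⟩ := mem_classesOf.1 h
    exact ha1 (by simpa using ConjClasses.mk_eq_mk_iff_isConj.1 e)
  · obtain ⟨a, ha, -, e⟩ := mem_classesOf.1 h
    obtain ⟨g, hg⟩ := isConj_iff.1 (ConjClasses.mk_eq_mk_iff_isConj.1 e).symm
    exact hA.not_inv hu g (hg ▸ ha)

theorem card_known (H : Ctx A₁ A₂ A₃) {u : G} (hu : Inv' u) : (H.known u).card = H.T + 2 := by
  classical
  obtain ⟨h1, h2, h3, h4⟩ := H.known_facts hu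
  have e1 := h2 _ _ H.h₁
  have e2 := h2 _ _ H.h₂
  have e3 := h2 _ _ H.h₃
  rw [known, Finset.card_union_of_disjoint (by simp [e1.1, e1.2, e2.1, e2.2, e3.1, e3.2]),
    Finset.card_union_of_disjoint h4, Finset.card_union_of_disjoint h3, Finset.card_pair h1, T]
  ring

theorem pairs_sum [Fintype (ConjClasses G)] : Nat.card {x : G // Inv' x} * Nat.card {x : G // Inv' x} =
    ∑ c : ConjClasses G, classPairs c := by
  classical
  rw [← Nat.card_prod, Nat.card_congr (Equiv.subtypeProdEquivProd.symm), Nat.card_eq_fintype_card,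
    Fintype.card_subtype, Finset.card_eq_sum_card_fiberwise (f := fun p : G × G => ConjClasses.mk (p.1 * p.2))
      (t := Finset.univ) (fun p _ => Finset.mem_univ _)]
  refine Finset.sum_congr rfl fun c _ => ?_
  rw [classPairs, Finset.filter_filter]

theorem sum_classesOf (hA : SSC A w) :
    ∑ c ∈ classesOf A, classPairs c = Nat.card G * (classesOf A).card := by
  rw [mul_comm]
  refine Finset.sum_const_nat fun c hc => ?_
  obtain ⟨a, ha, ha1, rfl⟩ := mem_classesOf.1 hc
  exact classPairs_mem hA ha ha1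

theorem pairs_lower (H : Ctx A₁ A₂ A₃) {u : G} (hu : Inv' u) :
    Nat.card {x : G // Inv' x} + Nat.card G * H.T ≤
      Nat.card {x : G // Inv' x} * Nat.card {x : G // Inv' x} := by
  classical
  obtain ⟨h1, h2, h3, h4⟩ := H.known_facts hu
  have e1 := h2 _ _ H.h₁
  have e2 := h2 _ _ H.h₂
  have e3 := h2 _ _ H.h₃
  rw [pairs_sum]
  refine le_trans ?_ (Finset.sum_le_sum_of_subset (f := classPairs) (s := H.known u) (Finset.subset_univ _))
  rw [known, Finset.sum_union (by simp [e1.1, e1.2, e2.1, e2.2, e3.1, e3.2]), Finset.sum_union h4,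
    Finset.sum_union h3, Finset.sum_pair h1, sum_classesOf H.h₁, sum_classesOf H.h₂, sum_classesOf H.h₃,
    classPairs_one, T]
  nlinarith

theorem pairs_upper [IsSimpleGroup G] (H : Ctx A₁ A₂ A₃) {u : G} (hu : Inv' u) :
    Nat.card {x : G // Inv' x} * Nat.card {x : G // Inv' x} + Nat.card G ≤
      Nat.card G * Nat.card (ConjClasses G) := by
  classical
  obtain ⟨h1, -⟩ := H.known_facts hu
  have hu' : classPairs (ConjClasses.mk u) + Nat.card {x : G // Inv' x} ≤ Nat.card G := by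
    have h := classPairs_mul u
    have hK := H.card_inv_mul hu
    have hN := Np_inv_le hu
    set c := Nat.card (Subgroup.centralizer ({u} : Set G))
    have : (classPairs (ConjClasses.mk u) + Nat.card {x : G // Inv' x}) * c ≤ Nat.card G * c := by
      rw [add_mul, h, hK]
      nlinarith
    exact Nat.le_of_mul_le_mul_right this (by omega)
  rw [pairs_sum, ← Finset.sum_erase_add _ _ (Finset.mem_univ (ConjClasses.mk u)),
    ← Finset.sum_erase_add _ _ (show ConjClasses.mk (1 : G) ∈ Finset.univ.erase (ConjClasses.mk u) by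
      simp [h1]), classPairs_one]
  have hrest : ∑ c ∈ ((Finset.univ.erase (ConjClasses.mk u)).erase (ConjClasses.mk (1 : G))), classPairs c ≤
      (Nat.card (ConjClasses G) - 2) * Nat.card G := by
    refine (Finset.sum_le_card_nsmul _ _ (Nat.card G) fun c _ => classPairs_le c).trans (le_of_eq ?_)
    rw [smul_eq_mul, Finset.card_erase_of_mem (by simp [h1]), Finset.card_erase_of_mem (Finset.mem_univ _),
      Finset.card_univ, Nat.card_eq_fintype_card, Nat.card_eq_fintype_card (α := ConjClasses G), Nat.sub_sub]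
  have h2 : 2 ≤ Nat.card (ConjClasses G) := by
    rw [Nat.card_eq_fintype_card, ← Finset.card_pair h1]
    exact Finset.card_le_univ _
  obtain ⟨m, hm⟩ := Nat.exists_eq_add_of_le h2
  rw [hm, show 2 + m - 2 = m by omega] at hrest
  rw [hm]
  nlinarith

end Ctx

/-- Positivity of the two linear characters of `A⟨v⟩`. -/
theorem abs_invol_le (hA : SSC A w) {χ : IrrCharacter G} {c : ℤ} (hc : ∀ ν, coef A ν χ = c) {v : G}
    (hv : Inv' v) (hN : v ∈ Subgroup.normalizer (A : Set G)) {l : ℤ} (hl : (χ : G → ℂ) v = l) :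
    (Nat.card A : ℤ) * |l| ≤ deg χ + c * ((Nat.card A : ℤ) - 1) := by
  classical
  haveI : Fintype A := Fintype.ofFinite _
  have hvA : v ∉ A := fun h => hv.2 (hA.one_of_sq h hv.1)
  have hva : ∀ a ∈ A, v * a = a⁻¹ * v := fun a ha => by
    rw [← hA.inverts hv.1 hv.2 hN ha, mul_assoc, hv.1, mul_one]
  let S : Subgroup G :=
    { carrier := {x | x ∈ A ∨ v * x ∈ A}
      one_mem' := Or.inl A.one_mem
      mul_mem' := by
        rintro x y (hx | hx) (hy | hy)
        · exact Or.inl (A.mul_mem hx hy)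
        · right
          rw [← mul_assoc, hva x hx, mul_assoc]
          exact A.mul_mem (A.inv_mem hx) hy
        · exact Or.inr (by rw [← mul_assoc]; exact A.mul_mem hx hy)
        · left
          have h' := A.mul_mem (A.inv_mem hx) hy
          rw [mul_inv_rev, mul_assoc, inv_mul_cancel_left] at h'
          have hxi : x⁻¹ = x := by
            have := hA.inverts hv.1 hv.2 hN hx
            rw [← mul_assoc, hv.1, one_mul, mul_inv_rev, hv.inv_eq] at this
            exact (mul_right_cancel this).symm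
          rwa [hxi] at h'
      inv_mem' := by
        rintro x (hx | hx)
        · exact Or.inl (A.inv_mem hx)
        · right
          have := hA.inverts hv.1 hv.2 hN hx
          rw [← mul_assoc, hv.1, one_mul, mul_inv_rev, hv.inv_eq] at this
          rw [← mul_right_cancel this]
          exact hx }
  haveI : Fintype S := Fintype.ofFinite _
  have hS : ∀ x : S, (x : G) ∉ A → v * (x : G) ∈ A := fun x h => x.2.resolve_left h
  let sgn : S →* ℂ :=
    { toFun := fun x => if (x : G) ∈ A then 1 else -1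
      map_one' := by simp [A.one_mem]
      map_mul' := fun x y => by
        by_cases hx : (x : G) ∈ A <;> by_cases hy : (y : G) ∈ A
        · simp [hx, hy, A.mul_mem hx hy]
        · have : (x : G) * y ∉ A := fun h => hy (by simpa using A.mul_mem (A.inv_mem hx) h)
          simp [hx, hy, this]
        · have : (x : G) * y ∉ A := fun h => hx (by simpa [mul_assoc] using A.mul_mem h (A.inv_mem hy))
          simp [hx, hy, this]
        · have : (x : G) * y ∈ A := by
            by_contra h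
            have h' := hS (x * y) h
            rw [Subgroup.coe_mul, ← mul_assoc] at h'
            exact hy (by simpa [mul_assoc] using A.mul_mem (A.inv_mem (hS x hx)) h')
          simp [hx, hy, this] }
  let e : A ⊕ A ≃ S := Equiv.ofBijective (fun s => match s with
      | Sum.inl a => (⟨a, Or.inl a.2⟩ : S)
      | Sum.inr a => ⟨v * a, Or.inr (by rw [← mul_assoc, hv.1, one_mul]; exact a.2)⟩) ⟨by
    rintro (a | a) (b | b) h <;> simp only [Subtype.mk.injEq] at h
    · exact congrArg Sum.inl (Subtype.ext h)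
    · exact absurd (by
        have : v = (a : G) * (b : G)⁻¹ := by rw [h, mul_inv_cancel_right]
        rw [this]; exact A.mul_mem a.2 (A.inv_mem b.2)) hvA
    · exact absurd (by
        have : v = (b : G) * (a : G)⁻¹ := by rw [← h, mul_inv_cancel_right]
        rw [this]; exact A.mul_mem b.2 (A.inv_mem a.2)) hvA
    · exact congrArg Sum.inr (Subtype.ext (mul_left_cancel h)), fun x => by
    by_cases h : (x : G) ∈ A
    · exact ⟨Sum.inl ⟨x, h⟩, Subtype.ext rfl⟩
    · exact ⟨Sum.inr ⟨_, hS x h⟩, Subtype.ext (by simp [← mul_assoc, hv.1])⟩⟩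
  obtain ⟨hd, hval⟩ := of_const hA hc
  have hcoset : ∀ a : A, (χ : G → ℂ) (v * a) = l := fun a => by
    obtain ⟨j, hj⟩ := hA.orderOf_odd a.2
    have hk : (a : G) ^ (j + 1) ∈ A := pow_mem a.2 _
    rw [← hl, ← IsIrrCharacter.isClassFunction χ.2 v ((a : G) ^ (j + 1))⁻¹]
    rw [inv_inv]
    refine congrArg (χ : G → ℂ) ?_
    calc v * a = v * ((a : G) ^ (j + 1) * (a : G) ^ (j + 1)) := by
          rw [← pow_add, show j + 1 + (j + 1) = orderOf (a : G) + 1 by omega, pow_succ, pow_orderOf_eq_one,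
            one_mul]
      _ = ((a : G) ^ (j + 1))⁻¹ * v * (a : G) ^ (j + 1) := by rw [← mul_assoc, hva _ hk]
  have hA_sum : ∑ a : A, (χ : G → ℂ) a = (deg χ : ℂ) + c * ((Nat.card A : ℂ) - 1) := by
    rw [← Finset.add_sum_erase _ _ (Finset.mem_univ (1 : A)), OneMemClass.coe_one, deg_spec,
      Finset.sum_congr rfl fun a ha => hval a (Finset.mem_erase.1 ha).1, Finset.sum_const,
      Finset.card_erase_of_mem (Finset.mem_univ _), Finset.card_univ, nsmul_eq_mul,
      ← Nat.card_eq_fintype_card, Nat.cast_sub (show 1 ≤ Nat.card A by have := hA.five; omega), Nat.cast_one]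
    ring
  have hres : IsCharacter S fun x => (χ : G → ℂ) (x : S) :=
    IsCharacter.restrict (IsIrrCharacter.isCharacter χ.2) S
  obtain ⟨p, hp⟩ := IsCharacter.classInner_nat hres isCharacter_one
  obtain ⟨q, hq⟩ := IsCharacter.classInner_nat hres (isCharacter_of_hom sgn)
  have hcard : (Nat.card S : ℂ) = 2 * (Nat.card A : ℂ) := by
    rw [← Nat.card_congr e, Nat.card_sum]; push_cast; ring
  have hn : (Nat.card A : ℂ) ≠ 0 := Nat.cast_ne_zero.2 Nat.card_pos.ne'
  rw [classInner, ← e.sum_comp, Fintype.sum_sum_type] at hp hq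
  have e1 : ∀ a : A, ((e (Sum.inl a) : S) : G) = a := fun a => rfl
  have e2 : ∀ a : A, ((e (Sum.inr a) : S) : G) = v * a := fun a => rfl
  have hnot : ∀ a : A, v * (a : G) ∉ A := fun a h => hvA (by simpa using A.mul_mem h (A.inv_mem a.2))
  have s1 : ∀ a : A, (sgn (e (Sum.inl a)) : ℂ) = 1 := fun a => by
    show (if ((e (Sum.inl a) : S) : G) ∈ A then (1 : ℂ) else -1) = 1
    rw [e1, if_pos a.2]
  have s2 : ∀ a : A, (sgn (e (Sum.inr a)) : ℂ) = -1 := fun a => by
    show (if ((e (Sum.inr a) : S) : G) ∈ A then (1 : ℂ) else -1) = -1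
    rw [e2, if_neg (hnot a)]
  simp only [Pi.one_apply, map_one, mul_one, e1, e2, hcoset, hA_sum, Finset.sum_const, Finset.card_univ,
    nsmul_eq_mul, ← Nat.card_eq_fintype_card, hcard] at hp
  simp only [s1, s2, map_one, map_neg, mul_one, mul_neg, Finset.sum_neg_distrib, e1, e2, hcoset, hA_sum,
    Finset.sum_const, Finset.card_univ, nsmul_eq_mul, ← Nat.card_eq_fintype_card, hcard] at hq
  field_simp at hp hq
  have hp' : deg χ + c * ((Nat.card A : ℤ) - 1) + (Nat.card A : ℤ) * l =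
      2 * (Nat.card A : ℤ) * (p : ℤ) := by
    apply Int.cast_injective (α := ℂ); push_cast; linear_combination hp
  have hq' : deg χ + c * ((Nat.card A : ℤ) - 1) - (Nat.card A : ℤ) * l =
      2 * (Nat.card A : ℤ) * (q : ℤ) := by
    apply Int.cast_injective (α := ℂ); push_cast; linear_combination hq
  have hp0 : 0 ≤ 2 * (Nat.card A : ℤ) * (p : ℤ) := by positivity
  have hq0 : 0 ≤ 2 * (Nat.card A : ℤ) * (q : ℤ) := by positivity
  rcases abs_choice l with h | h <;> rw [h] <;> linarith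

end Cfsg.Agent.SelfCent
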