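/-
The decomposition of the three families of induced characters.

* `case_lambda`  : the character common to the first family lies in the other two
* `Shape`, `exists_shape` : the final decomposition
* `Shape.dvd_other`, `Shape.card_irr`, `Shape.phi_sum`, `Shape.phi_lower` : consequences
-/
import Cfsg.Agent.Lib.SelfCentSuzuki.Count

set_option autoImplicit false
set_option linter.unusedSectionVars false
set_option linter.style.haveILetI false

open Cfsg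
open scoped ComplexConjugate

namespace Cfsg.Agent.SelfCent

open Cfsg.Agent.Char Cfsg.Agent.FSInd

variable {G : Type*} [Group G] [Fintype G] [Fintype (IrrCharacter G)] [Fintype (Irr₀ G)]
  [DecidableEq (Irr₀ G)]

theorem SSC.nine {A : Subgroup G} (hA : SSC A 4) (h : 5 < Nat.card A) : 9 ≤ Nat.card A := by
  obtain ⟨k, hk⟩ := hA.dvd_pred
  omega

namespace Base

variable {A : Subgroup G}

theorem e_eq_iff (b : Base A) (μ ν : X₀ A) : b.e μ = b.e ν ↔ vec A μ = vec A ν := by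
  refine ⟨b.inj μ ν, fun h => ?_⟩
  by_contra hne
  have := congrFun h (b.e μ)
  rw [b.eq, b.eq, if_pos rfl, if_neg hne, if_neg (b.ne μ), add_zero, zero_add] at this
  rcases b.hε with e | e <;> omega

theorem card_e (b : Base A) [Fintype (X₀ A)] (hA : SSC A 2) :
    (Finset.univ.image b.e).card * 2 = Nat.card A - 1 := by
  classical
  rw [Fam.card_image b.e 2 fun μ => ?_, ← Nat.card_eq_fintype_card, card_X₀ hA]
  rw [Finset.filter_congr fun ν _ => b.e_eq_iff ν μ]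
  exact card_same hA μ

end Base

namespace Ctx

variable {A₁ A₂ A₃ : Subgroup G}

theorem coprimes (H : Ctx A₁ A₂ A₃) :
    (Nat.card A₁).Coprime (Nat.card A₂) ∧ (Nat.card A₁).Coprime (Nat.card A₃) ∧
      (Nat.card A₂).Coprime (Nat.card A₃) :=
  ⟨H.h₁.coprime_of_not_conj H.h₂ H.d₁₂, H.h₁.coprime_of_not_conj H.h₃ H.d₁₃,
    H.h₂.coprime_of_not_conj H.h₃ H.d₂₃⟩

variable [IsSimpleGroup G]

theorem case_lambda (H : Ctx A₁ A₂ A₃) (b : Base A₁) :
    ∀ μ, vec A₂ μ b.Λ = -b.δ ∧ ∀ ν, vec A₂ μ (b.e ν) = 0 := by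
  classical
  haveI : Fintype (X₀ A₁) := Fintype.ofFinite _
  haveI : Fintype (X₀ A₂) := Fintype.ofFinite _
  refine (cases_four H.h₁ b H.h₂ H.five₂ H.d₁₂).resolve_right fun hB => ?_
  have n2 := H.h₂.nine H.five₂
  have n3 := H.h₃.nine H.five₃
  have hF2 := fam H.h₂ (by omega)
  have hF3 := fam H.h₃ (by omega)
  obtain ⟨μ⟩ := nonempty_X₀ H.h₂
  obtain ⟨ν⟩ := nonempty_X₀ H.h₃
  set I := Finset.univ.image b.e with hI
  have hsub : ∀ ρ, I ⊆ supp (vec A₂) ρ := fun ρ z hz => by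
    obtain ⟨κ, -, rfl⟩ := Finset.mem_image.1 hz
    exact mem_supp.2 (by rw [(hB ρ).2 κ]; rcases b.hε with e | e <;> simp [e])
  have hI2 : 2 ≤ I.card := by
    have := b.card_e H.h₁
    have := H.h₁.five
    rw [← hI] at *
    omega
  have hIle : I.card ≤ 3 := by
    by_contra hlt
    obtain ⟨μ', hne⟩ := hF2.two μ
    have h4 : ∀ ρ, supp (vec A₂) ρ = I := fun ρ =>
      (Finset.eq_of_subset_of_card_le (hsub ρ) (by rw [hF2.card_supp]; omega)).symm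
    exact hne (hF2.ext_supp (by rw [h4, h4]))
  have hdiff : (supp (vec A₂) μ \ I).card + I.card = 4 := by
    have := hF2.card_supp μ
    have := Finset.card_le_card (hsub μ)
    rw [Finset.card_sdiff_of_subset (hsub μ)]
    omega
  -- the third family contains the common character
  have hC : ∀ ρ, vec A₃ ρ b.Λ = -b.δ ∧ ∀ κ, vec A₃ ρ (b.e κ) = 0 := by
    refine (cases_four H.h₁ b H.h₃ H.five₃ H.d₁₃).resolve_right fun hB3 => ?_
    have h := cross H.h₃ μ ν H.d₂₃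
    rw [sum_supp, ← Finset.sum_sdiff (hsub μ), Finset.sum_congr rfl (s₁ := I) (g := fun _ => (1 : ℤ)) fun z hz => by
      obtain ⟨κ, -, rfl⟩ := Finset.mem_image.1 hz
      rw [(hB μ).2, (hB3 ν).2]
      rcases b.hε with e | e <;> simp [e]] at h
    have hlow : ∀ z ∈ supp (vec A₂) μ \ I, (-1 : ℤ) ≤ vec A₂ μ z * vec A₃ ν z := fun z _ => by
      rcases hF2.unit μ z with e | e | e <;> rcases hF3.unit ν z with e' | e' | e' <;> simp [e, e']
    have h' := Finset.sum_le_sum hlow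
    rw [Finset.sum_const, nsmul_eq_mul, mul_neg_one] at h'
    rw [Finset.sum_const, nsmul_eq_mul, mul_one] at h
    omega
  -- so the first subgroup has order 5
  have ht : I.card = 2 := by
    have h := sum_fs H.h₂ μ
    rw [sum_supp, ← Finset.sum_sdiff (hsub μ), Finset.sum_congr rfl (s₁ := I) (g := fun _ => b.τ) fun z hz => by
      obtain ⟨κ, -, rfl⟩ := Finset.mem_image.1 hz
      rw [(hB μ).2, neg_mul, b.fs_e H.h₁, neg_neg]] at h
    rw [Finset.sum_const, nsmul_eq_mul] at h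
    by_contra hne
    obtain ⟨z, hz⟩ := Finset.card_eq_one.1 (show (supp (vec A₂) μ \ I).card = 1 by omega)
    rw [hz, Finset.sum_singleton, show ((I.card : ℕ) : ℤ) = 3 by omega] at h
    rcases b.τ_cases H.h₁ with e | e <;> rcases hF2.unit μ z with e' | e' | e' <;>
      rcases fs_cases z.1 with e'' | e'' | e'' <;> rw [e, e', e''] at h <;> omega
  have hn1 : Nat.card A₁ = 5 := by
    have := b.card_e H.h₁
    have := H.h₁.five
    rw [← hI] at *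
    omega
  -- the signed degree
  have hL := b.L_ne H.h₁
  have hL2 : (Nat.card A₂ : ℤ) ∣ b.L := by
    have h := (of_const H.h₂ (χ := b.Λ.1) (c := 0) fun ρ => (hB ρ).1).1
    rw [sub_zero] at h
    exact h.mul_left _
  have hL3 : (Nat.card A₃ : ℤ) ∣ b.L + 1 := by
    have h := ((of_const H.h₃ (χ := b.Λ.1) (c := -b.δ) fun ρ => (hC ρ).1).1).mul_left b.δ
    unfold Base.L
    rcases b.hδ with e | e <;> rw [e] at h ⊢ <;> exact dvd_trans h (dvd_of_eq (by ring))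
  obtain ⟨v, hv, hv1, hvN⟩ := H.h₂.exists_inv
  obtain ⟨l₀, hl₀⟩ := int_of_invol (IsIrrCharacter.isCharacter b.Λ.1.2) hv
  have hpos := abs_invol_le H.h₂ (c := 0) (fun ρ => (hB ρ).1) ⟨hv, hv1⟩ hvN hl₀
  rw [zero_mul, add_zero, ← b.natAbs_L] at hpos
  have hl : b.val v = ((b.δ * l₀ : ℤ) : ℂ) := by rw [Base.val, hl₀, Int.cast_mul]
  have hd := Ctx.l_ne b ⟨hv, hv1⟩ hl
  have hform := H.formula b ⟨hv, hv1⟩ hl
  have hlow := H.pairs_lower ⟨hv, hv1⟩
  have hK := H.card_inv_mul ⟨hv, hv1⟩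
  have hT := H.four_T
  set K := Nat.card {x : G // Inv' x}
  set c := Nat.card (Subgroup.centralizer ({v} : Set G))
  have hlt : (c : ℤ) ^ 2 * H.T < (Nat.card G : ℤ) := by
    have e1 : (K : ℤ) + (Nat.card G : ℤ) * H.T ≤ (K : ℤ) * K := by exact_mod_cast hlow
    have e2 : (K : ℤ) * c = (Nat.card G : ℤ) := by exact_mod_cast hK
    have hKpos : (0 : ℤ) < K := by
      have : Nonempty {x : G // Inv' x} := ⟨⟨v, hv, hv1⟩⟩
      exact_mod_cast Nat.card_pos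
    rw [← e2] at e1 ⊢
    have hcpos : (0 : ℤ) < c := by exact_mod_cast Nat.card_pos
    have e3 : 1 + (c : ℤ) * H.T ≤ K := by nlinarith
    nlinarith
  have hd2 : 0 < (b.L - b.δ * l₀) ^ 2 := by
    have : b.L - b.δ * l₀ ≠ 0 := sub_ne_zero.2 hd
    positivity
  rw [hn1] at hform hT
  push_cast at hform
  have hcpos : (0 : ℤ) < (c : ℤ) ^ 2 := by
    have : 0 < c := Nat.card_pos
    positivity
  have hkey : (H.T : ℤ) * (b.L - b.δ * l₀) ^ 2 < 5 * (b.L * (b.L + 1)) := by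
    nlinarith [mul_lt_mul_of_pos_right hlt hd2]
  have hne23 : Nat.card A₂ ≠ Nat.card A₃ := fun e => by
    have h23 := H.coprimes.2.2
    rw [e, Nat.coprime_self] at h23
    omega
  have hsum : 28 ≤ 4 * (H.T : ℤ) := by
    obtain ⟨k, hk⟩ := H.h₂.dvd_pred
    obtain ⟨k', hk'⟩ := H.h₃.dvd_pred
    omega
  -- the estimate
  set d := b.L - b.δ * l₀ with hdd
  have h9 : 9 * |l₀| ≤ |b.L| := by
    rw [Int.natCast_natAbs] at hpos
    nlinarith [abs_nonneg l₀]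
  have hd9 : 8 * |b.L| ≤ 9 * |d| := by
    have : |b.L| ≤ |d| + |b.δ * l₀| := by
      calc |b.L| = |d + b.δ * l₀| := by rw [hdd]; ring_nf
        _ ≤ _ := abs_add_le _ _
    have : |b.δ * l₀| = |l₀| := by rcases b.hδ with e | e <;> simp [e]
    omega
  have h64 : 64 * b.L ^ 2 ≤ 81 * d ^ 2 := by
    rw [← sq_abs b.L, ← sq_abs d]
    nlinarith [abs_nonneg b.L]
  have hsmall : 172 * b.L ^ 2 < 1620 * b.L := by nlinarith
  have hLpos : 0 < b.L := by nlinarith [sq_nonneg b.L]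
  have hLle : b.L ≤ 9 := by nlinarith
  have h9' := Int.le_of_dvd hLpos hL2
  have h10 := Int.le_of_dvd (by omega) hL3
  obtain ⟨k, hk⟩ := H.h₃.dvd_pred
  obtain ⟨k', hk'⟩ := H.h₂.dvd_pred
  have : b.L = 9 := by omega
  rw [this] at hL3
  have h10' : Nat.card A₃ ∣ 10 := by exact_mod_cast hL3
  have := Nat.le_of_dvd (by norm_num) h10'
  omega

end Ctx

/-- The decomposition of the three families. -/
structure Shape (A₁ A₂ A₃ : Subgroup G) extends Base A₁ where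
  X : Irr₀ G
  Y : Irr₀ G
  x : ℤ
  y : ℤ
  e₂ : X₀ A₂ → Irr₀ G
  e₃ : X₀ A₃ → Irr₀ G
  ε₂ : ℤ
  ε₃ : ℤ
  hx : x = 1 ∨ x = -1
  hy : y = 1 ∨ y = -1
  hε₂ : ε₂ = 1 ∨ ε₂ = -1
  hε₃ : ε₃ = 1 ∨ ε₃ = -1
  hXY : X ≠ Y ∧ X ≠ Λ ∧ Y ≠ Λ
  ne₁ : ∀ ν, e ν ≠ X ∧ e ν ≠ Y
  ne₂ : ∀ μ, e₂ μ ≠ Λ ∧ e₂ μ ≠ X ∧ e₂ μ ≠ Y
  ne₃ : ∀ μ, e₃ μ ≠ Λ ∧ e₃ μ ≠ X ∧ e₃ μ ≠ Y
  ne₁₂ : ∀ ν μ, e ν ≠ e₂ μ
  ne₁₃ : ∀ ν μ, e ν ≠ e₃ μ
  ne₂₃ : ∀ ν μ, e₂ ν ≠ e₃ μ
  eq₂ : ∀ μ χ, vec A₂ μ χ = (if χ = Λ then -δ else 0) + (if χ = X then x else 0) +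
    (if χ = Y then y else 0) + (if χ = e₂ μ then ε₂ else 0)
  eq₃ : ∀ μ χ, vec A₃ μ χ = (if χ = Λ then -δ else 0) + (if χ = X then -x else 0) +
    (if χ = Y then -y else 0) + (if χ = e₃ μ then ε₃ else 0)
  inj₂ : ∀ μ ν, e₂ μ = e₂ ν → vec A₂ μ = vec A₂ ν
  inj₃ : ∀ μ ν, e₃ μ = e₃ ν → vec A₃ μ = vec A₃ ν

variable {A₁ A₂ A₃ : Subgroup G} [IsSimpleGroup G]

theorem const_sign {B : Subgroup G} (hB : SSC B 4) {Λ X Y : Irr₀ G} {a x y : ℤ} {e : X₀ B → Irr₀ G}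
    {ε : X₀ B → ℤ} (hε : ∀ μ, ε μ = 1 ∨ ε μ = -1)
    (h : ∀ μ χ, vec B μ χ = (if χ = Λ then a else 0) + (if χ = X then x else 0) +
      (if χ = Y then y else 0) + (if χ = e μ then ε μ else 0)) (μ ν : X₀ B) : ε μ = ε ν := by
  have hd : ∀ ρ, a * deg Λ.1 + x * deg X.1 + y * deg Y.1 + ε ρ * deg (e ρ).1 = -1 := by
    intro ρ
    simpa [h, add_mul, Finset.sum_add_distrib] using sum_deg hB ρ
  have h1 := hd μ
  have h2 := hd ν
  have p1 := deg_pos (e μ).1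
  have p2 := deg_pos (e ν).1
  rcases hε μ with e1 | e1 <;> rcases hε ν with e2 | e2 <;> rw [e1] at h1 ⊢ <;> rw [e2] at h2 ⊢ <;> omega

theorem exists_shape (H : Ctx A₁ A₂ A₃) : Nonempty (Shape A₁ A₂ A₃) := by
  classical
  haveI : Fintype (X₀ A₂) := Fintype.ofFinite _
  haveI : Fintype (X₀ A₃) := Fintype.ofFinite _
  obtain ⟨b⟩ := exists_base H.h₁
  have h2 := H.case_lambda b
  have h3 := H.swap.case_lambda b
  have n2 := H.h₂.nine H.five₂
  have n3 := H.h₃.nine H.five₃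
  haveI := nonempty_X₀ H.h₂
  haveI := nonempty_X₀ H.h₃
  have hbig : 2 < (Finset.univ.image (vec A₂)).card ∨ 2 < (Finset.univ.image (vec A₃)).card := by
    have c2 := card_fam H.h₂
    have c3 := card_fam H.h₃
    by_contra hle
    push Not at hle
    have h23 := H.coprimes.2.2
    rw [show Nat.card A₂ = 9 by omega, show Nat.card A₃ = 9 by omega] at h23
    norm_num at h23
  obtain ⟨X, Y, x, y, e, f, ε, η, hXY, hx, hy, he, hf, hε, hη, hv, hw, hef, hi2, hi3⟩ :=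
    (fam H.h₂ (by omega)).opposite (fam H.h₃ (by omega)) (fun μ ν => cross H.h₃ μ ν H.d₂₃)
      (Λ := b.Λ) (a := -b.δ) (by rcases b.hδ with e | e <;> simp [e]) (fun μ => (h2 μ).1)
      (fun ν => (h3 ν).1) hbig
  obtain ⟨μ₀⟩ := nonempty_X₀ H.h₂
  obtain ⟨ν₀⟩ := nonempty_X₀ H.h₃
  have hne1 : ∀ κ μ, b.e κ ≠ X ∧ b.e κ ≠ Y ∧ b.e κ ≠ e μ := by
    intro κ μ
    obtain ⟨m1, m2, m3⟩ := he μ
    refine ⟨?_, ?_, ?_⟩ <;> intro h <;> have h0 := (h2 μ).2 κ <;> rw [h, hv] at h0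
    · simp [hXY.1, hXY.2.1, m2.symm] at h0; omega
    · simp [hXY.1.symm, hXY.2.2, m3.symm] at h0; omega
    · simp [m1, m2, m3] at h0; have := hε μ; omega
  have hne3 : ∀ κ ν, b.e κ ≠ f ν := by
    intro κ ν h
    obtain ⟨m1, m2, m3⟩ := hf ν
    have h0 := (h3 ν).2 κ
    rw [h, hw] at h0
    simp [m1, m2, m3] at h0
    have := hη ν
    omega
  exact ⟨{
    toBase := b, X := X, Y := Y, x := x, y := y, e₂ := e, e₃ := f, ε₂ := ε μ₀, ε₃ := η ν₀
    hx := hx, hy := hy, hε₂ := hε μ₀, hε₃ := hη ν₀, hXY := hXY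
    ne₁ := fun κ => ⟨(hne1 κ μ₀).1, (hne1 κ μ₀).2.1⟩
    ne₂ := he, ne₃ := hf, ne₁₂ := fun κ μ => (hne1 κ μ).2.2, ne₁₃ := hne3, ne₂₃ := hef
    eq₂ := fun μ χ => by rw [hv, const_sign H.h₂ hε hv μ μ₀]
    eq₃ := fun ν χ => by rw [hw, const_sign H.h₃ hη hw ν ν₀]
    inj₂ := hi2, inj₃ := hi3 }⟩

namespace Shape

variable (S : Shape A₁ A₂ A₃)

/-- The signed degree of the two extra characters. -/
noncomputable def Q : ℤ := S.x * deg S.X.1 + S.y * deg S.Y.1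

theorem deg_e₂ (H : Ctx A₁ A₂ A₃) (μ : X₀ A₂) : S.ε₂ * deg (S.e₂ μ).1 = S.L - 1 - S.Q := by
  have h : -S.δ * deg S.Λ.1 + S.x * deg S.X.1 + S.y * deg S.Y.1 + S.ε₂ * deg (S.e₂ μ).1 = -1 := by
    simpa [S.eq₂, add_mul, Finset.sum_add_distrib] using sum_deg H.h₂ μ
  unfold Base.L Q
  linarith

theorem deg_e₃ (H : Ctx A₁ A₂ A₃) (μ : X₀ A₃) : S.ε₃ * deg (S.e₃ μ).1 = S.L - 1 + S.Q := by
  have h : -S.δ * deg S.Λ.1 + -S.x * deg S.X.1 + -S.y * deg S.Y.1 + S.ε₃ * deg (S.e₃ μ).1 = -1 := by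
    simpa [S.eq₃, add_mul, Finset.sum_add_distrib] using sum_deg H.h₃ μ
  unfold Base.L Q
  linarith

theorem fs_e₂₃ (H : Ctx A₁ A₂ A₃) (μ : X₀ A₂) (ν : X₀ A₃) :
    S.ε₂ * fs (S.e₂ μ).1 = S.τ ∧ S.ε₃ * fs (S.e₃ ν).1 = S.τ := by
  have h : -S.δ * fs S.Λ.1 + S.x * fs S.X.1 + S.y * fs S.Y.1 + S.ε₂ * fs (S.e₂ μ).1 = 0 := by
    simpa [S.eq₂, add_mul, Finset.sum_add_distrib] using sum_fs H.h₂ μ
  have h' : -S.δ * fs S.Λ.1 + -S.x * fs S.X.1 + -S.y * fs S.Y.1 + S.ε₃ * fs (S.e₃ ν).1 = 0 := by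
    simpa [S.eq₃, add_mul, Finset.sum_add_distrib] using sum_fs H.h₃ ν
  have b2 : S.ε₂ * fs (S.e₂ μ).1 ≤ 1 ∧ -1 ≤ S.ε₂ * fs (S.e₂ μ).1 := by
    rcases S.hε₂ with e | e <;> rcases fs_cases (S.e₂ μ).1 with e' | e' | e' <;> simp [e, e']
  have b3 : S.ε₃ * fs (S.e₃ ν).1 ≤ 1 ∧ -1 ≤ S.ε₃ * fs (S.e₃ ν).1 := by
    rcases S.hε₃ with e | e <;> rcases fs_cases (S.e₃ ν).1 with e' | e' | e' <;> simp [e, e']
  have hτ := S.τ_cases H.h₁
  simp only [Base.τ] at *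
  constructor <;> rcases hτ with e | e <;> linarith

theorem coef₂ (μ : X₀ A₂) : coef A₂ μ S.Λ.1 = -S.δ := by
  have h := S.eq₂ μ S.Λ
  simpa [vec, S.hXY.2.1.symm, S.hXY.2.2.symm, (S.ne₂ μ).1.symm] using h

theorem coef₃ (μ : X₀ A₃) : coef A₃ μ S.Λ.1 = -S.δ := by
  have h := S.eq₃ μ S.Λ
  simpa [vec, S.hXY.2.1.symm, S.hXY.2.2.symm, (S.ne₃ μ).1.symm] using h

theorem L_dvd₂₃ (H : Ctx A₁ A₂ A₃) :
    ((Nat.card A₂ * Nat.card A₃ : ℕ) : ℤ) ∣ S.L + 1 := by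
  have h2 := ((of_const H.h₂ S.coef₂).1).mul_left S.δ
  have h3 := ((of_const H.h₃ S.coef₃).1).mul_left S.δ
  have e : S.δ * (deg S.Λ.1 - -S.δ) = S.L + 1 := by
    unfold Base.L
    rcases S.hδ with e | e <;> rw [e] <;> ring
  rw [e] at h2 h3
  push_cast
  exact IsCoprime.mul_dvd (Int.isCoprime_iff_gcd_eq_one.2 (by
    simpa [Int.gcd_natCast_natCast] using H.coprimes.2.2)) h2 h3

variable [Fintype (X₀ A₁)] [Fintype (X₀ A₂)] [Fintype (X₀ A₃)]

/-- The named characters. -/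
noncomputable def used : Finset (Irr₀ G) :=
  {S.Λ, S.X, S.Y} ∪ (Finset.univ.image S.e ∪ Finset.univ.image S.e₂ ∪ Finset.univ.image S.e₃)

theorem card_images (H : Ctx A₁ A₂ A₃) :
    (Finset.univ.image S.e).card = (classesOf A₁).card ∧
      (Finset.univ.image S.e₂).card = (classesOf A₂).card ∧
      (Finset.univ.image S.e₃).card = (classesOf A₃).card := by
  classical
  have h1 := S.card_e H.h₁
  have c1 := card_classesOf H.h₁
  have h2 : (Finset.univ.image S.e₂).card * 4 = Nat.card A₂ - 1 := by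
    rw [Fam.card_image S.e₂ 4 fun μ => ?_, ← Nat.card_eq_fintype_card, card_X₀ H.h₂]
    rw [Finset.filter_congr fun ν _ => (?_ : S.e₂ ν = S.e₂ μ ↔ vec A₂ ν = vec A₂ μ)]
    · exact card_same H.h₂ μ
    refine ⟨S.inj₂ ν μ, fun h => ?_⟩
    by_contra hne
    have := congrFun h (S.e₂ ν)
    rw [S.eq₂, S.eq₂, if_neg (S.ne₂ ν).1, if_neg (S.ne₂ ν).2.1, if_neg (S.ne₂ ν).2.2, if_pos rfl,
      if_neg hne] at this
    rcases S.hε₂ with e | e <;> omega
  have h3 : (Finset.univ.image S.e₃).card * 4 = Nat.card A₃ - 1 := by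
    rw [Fam.card_image S.e₃ 4 fun μ => ?_, ← Nat.card_eq_fintype_card, card_X₀ H.h₃]
    rw [Finset.filter_congr fun ν _ => (?_ : S.e₃ ν = S.e₃ μ ↔ vec A₃ ν = vec A₃ μ)]
    · exact card_same H.h₃ μ
    refine ⟨S.inj₃ ν μ, fun h => ?_⟩
    by_contra hne
    have := congrFun h (S.e₃ ν)
    rw [S.eq₃, S.eq₃, if_neg (S.ne₃ ν).1, if_neg (S.ne₃ ν).2.1, if_neg (S.ne₃ ν).2.2, if_pos rfl,
      if_neg hne] at this
    rcases S.hε₃ with e | e <;> omega
  have c2 := card_classesOf H.h₂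
  have c3 := card_classesOf H.h₃
  omega

theorem sum_used {M : Type*} [AddCommMonoid M] (f : Irr₀ G → M) :
    ∑ χ ∈ S.used, f χ = f S.Λ + (f S.X + f S.Y) + (∑ χ ∈ Finset.univ.image S.e, f χ +
      ∑ χ ∈ Finset.univ.image S.e₂, f χ + ∑ χ ∈ Finset.univ.image S.e₃, f χ) := by
  classical
  have d1 : Disjoint ({S.Λ, S.X, S.Y} : Finset (Irr₀ G))
      (Finset.univ.image S.e ∪ Finset.univ.image S.e₂ ∪ Finset.univ.image S.e₃) := by
    rw [Finset.disjoint_right]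
    intro z hz
    simp only [Finset.mem_union, Finset.mem_image, Finset.mem_univ, true_and] at hz
    simp only [Finset.mem_insert, Finset.mem_singleton, not_or]
    rcases hz with (⟨κ, rfl⟩ | ⟨κ, rfl⟩) | ⟨κ, rfl⟩
    exacts [⟨S.ne κ, S.ne₁ κ⟩, S.ne₂ κ, S.ne₃ κ]
  have d2 : Disjoint (Finset.univ.image S.e) (Finset.univ.image S.e₂) := by
    rw [Finset.disjoint_left]
    intro z hz hz'
    obtain ⟨κ, -, rfl⟩ := Finset.mem_image.1 hz
    obtain ⟨μ, -, h⟩ := Finset.mem_image.1 hz'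
    exact S.ne₁₂ κ μ h.symm
  have d3 : Disjoint (Finset.univ.image S.e ∪ Finset.univ.image S.e₂) (Finset.univ.image S.e₃) := by
    rw [Finset.disjoint_left]
    intro z hz hz'
    obtain ⟨μ, -, rfl⟩ := Finset.mem_image.1 hz'
    rcases Finset.mem_union.1 hz with h | h <;> obtain ⟨κ, -, hκ⟩ := Finset.mem_image.1 h
    exacts [S.ne₁₃ κ μ hκ, S.ne₂₃ κ μ hκ]
  rw [used, Finset.sum_union d1, Finset.sum_union d3, Finset.sum_union d2,
    Finset.sum_insert (by simp [S.hXY.2.1.symm, S.hXY.2.2.symm]), Finset.sum_pair S.hXY.1]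

theorem card_used (H : Ctx A₁ A₂ A₃) : S.used.card = H.T + 3 := by
  have := S.sum_used (M := ℕ) fun _ => 1
  simp only [Finset.sum_const, smul_eq_mul, mul_one] at this
  obtain ⟨a, b, c⟩ := S.card_images H
  rw [Ctx.T]
  omega

/-- The number of the other characters. -/
noncomputable def s : ℕ := (Finset.univ \ S.used).card

theorem card_classes_eq (H : Ctx A₁ A₂ A₃) : Nat.card (ConjClasses G) = H.T + 4 + S.s := by
  classical
  rw [← card_irr_eq_card_conjClasses, Nat.card_eq_fintype_card, ← Finset.card_univ, Finset.card_eq_sum_ones,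
    sum_irr, ← Finset.card_eq_sum_ones, ← Finset.card_sdiff_add_card_eq_card (Finset.subset_univ S.used),
    S.card_used H, s]
  omega

theorem dvd_other (H : Ctx A₁ A₂ A₃) {χ : Irr₀ G} (h : χ ∉ S.used) :
    ((Nat.card A₁ * (Nat.card A₂ * Nat.card A₃) : ℕ) : ℤ) ∣ deg χ.1 := by
  classical
  simp only [used, Finset.mem_union, Finset.mem_insert, Finset.mem_singleton, Finset.mem_image,
    Finset.mem_univ, true_and, not_or, not_exists] at h
  obtain ⟨⟨hΛ, hX, hY⟩, ⟨h1, h2⟩, h3⟩ := h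
  have c1 : ∀ ν, coef A₁ ν χ.1 = 0 := fun ν => by
    have := S.eq ν χ
    simpa [vec, hΛ, Ne.symm (h1 ν)] using this
  have c2 : ∀ ν, coef A₂ ν χ.1 = 0 := fun ν => by
    have := S.eq₂ ν χ
    simpa [vec, hΛ, hX, hY, Ne.symm (h2 ν)] using this
  have c3 : ∀ ν, coef A₃ ν χ.1 = 0 := fun ν => by
    have := S.eq₃ ν χ
    simpa [vec, hΛ, hX, hY, Ne.symm (h3 ν)] using this
  have e1 := (of_const H.h₁ c1).1
  have e2 := (of_const H.h₂ c2).1
  have e3 := (of_const H.h₃ c3).1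
  rw [sub_zero] at e1 e2 e3
  obtain ⟨k, hk⟩ : ∃ k : ℕ, deg χ.1 = k := ⟨_, rfl⟩
  rw [hk] at e1 e2 e3 ⊢
  norm_cast at e1 e2 e3 ⊢
  exact Nat.Coprime.mul_dvd_of_dvd_of_dvd (H.coprimes.1.mul_right H.coprimes.2.1) e1
    (Nat.Coprime.mul_dvd_of_dvd_of_dvd H.coprimes.2.2 e2 e3)

/-- The summand of the estimate. -/
noncomputable def phi (h : ℤ) (χ : IrrCharacter G) : ℤ := deg χ ^ 2 - 2 * h * (fs χ * deg χ) + h ^ 2

theorem phi_sum (h : ℤ) : ∑ χ : IrrCharacter G, phi h χ =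
    (Nat.card G : ℤ) - 2 * h * (1 + (Nat.card {x : G // Inv' x} : ℤ)) +
      (Nat.card (ConjClasses G) : ℤ) * h ^ 2 := by
  classical
  rw [← card_irr_eq_card_conjClasses]
  apply Int.cast_injective (α := ℂ)
  have hcard : Nat.card {s : G // s * s = 1} = 1 + Nat.card {x : G // Inv' x} := by
    rw [Nat.card_eq_fintype_card, Nat.card_eq_fintype_card, Fintype.card_subtype, Fintype.card_subtype,
      ← Finset.card_filter_add_card_filter_not (s := Finset.univ.filter fun s : G => s * s = 1)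
        (fun s => s = 1), Finset.filter_filter, Finset.filter_filter]
    congr 1
    · rw [Finset.card_eq_one]
      refine ⟨1, Finset.ext fun s => ?_⟩
      simp only [Finset.mem_filter, Finset.mem_univ, true_and, Finset.mem_singleton]
      exact ⟨fun h => h.2, fun h => ⟨by rw [h, one_mul], h⟩⟩
    · exact congrArg Finset.card (Finset.filter_congr fun x _ => Iff.rfl)
  have hfs := card_sqrt_eq_sum (G := G) 1
  have hsq := sum_sq_degrees (G := G)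
  rw [hcard] at hfs
  simp only [phi]
  push_cast
  simp only [← deg_spec, ← fs_spec, Finset.sum_add_distrib, Finset.sum_sub_distrib, ← Finset.mul_sum,
    Finset.sum_const, Finset.card_univ, nsmul_eq_mul, ← hfs, hsq,
    Nat.card_eq_fintype_card]
  push_cast
  ring

theorem phi_nonneg {h : ℤ} (hh : 0 ≤ h) (χ : IrrCharacter G) : (deg χ - h) ^ 2 ≤ phi h χ := by
  have := deg_pos χ
  rcases fs_cases χ with e | e | e <;> rw [phi, e] <;> nlinarith

theorem phi_lower (H : Ctx A₁ A₂ A₃) {h : ℤ} (hh : 0 ≤ h) :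
    (1 - h) ^ 2 + ((S.L - S.τ * h) ^ 2 + (classesOf A₁).card * (S.L + 1 - S.τ * h) ^ 2 +
      ((classesOf A₂).card * (S.L - 1 - S.Q - S.τ * h) ^ 2 +
        (classesOf A₃).card * (S.L - 1 + S.Q - S.τ * h) ^ 2) +
      ∑ χ ∈ Finset.univ \ S.used, (deg χ.1 - h) ^ 2) ≤ ∑ χ : IrrCharacter G, phi h χ := by
  classical
  have hτ : S.τ * S.τ = 1 := by rcases S.τ_cases H.h₁ with e | e <;> simp [e]
  have h0 : phi h (triv G) = (1 - h) ^ 2 := by
    have : deg (triv G) = 1 := Int.cast_injective (α := ℂ) (by simp [← deg_spec, triv])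
    rw [phi, this, fs_triv]; ring
  have hΛ : phi h S.Λ.1 = (S.L - S.τ * h) ^ 2 := by
    rw [phi, Base.L, Base.τ]
    rcases S.hδ with e | e <;> rw [e] <;> rcases S.real_Λ H.h₁ with e' | e' <;> rw [e'] <;> ring
  have he : ∀ ν, phi h (S.e ν).1 = (S.L + 1 - S.τ * h) ^ 2 := fun ν => by
    have hd := S.deg_e H.h₁ ν
    have hf := S.fs_e H.h₁ ν
    have hεε : S.ε * S.ε = 1 := by rcases S.hε with e | e <;> simp [e]
    have e1 : deg (S.e ν).1 = S.ε * (-1 - S.L) := by rw [← hd, ← mul_assoc, hεε, one_mul]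
    have e2 : fs (S.e ν).1 = S.ε * (-S.τ) := by rw [← hf, ← mul_assoc, hεε, one_mul]
    rw [phi, e1, e2]
    linear_combination ((-1 - S.L) ^ 2 - 2 * h * (-S.τ) * (-1 - S.L)) * hεε - h ^ 2 * hτ
  obtain ⟨c1, c2, c3⟩ := S.card_images H
  obtain ⟨μ₀⟩ := nonempty_X₀ H.h₂
  obtain ⟨ν₀⟩ := nonempty_X₀ H.h₃
  have he2 : ∀ μ, phi h (S.e₂ μ).1 = (S.L - 1 - S.Q - S.τ * h) ^ 2 := fun μ => by
    have hd := S.deg_e₂ H μ
    have hf := (S.fs_e₂₃ H μ ν₀).1
    have hεε : S.ε₂ * S.ε₂ = 1 := by rcases S.hε₂ with e | e <;> simp [e]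
    have e1 : deg (S.e₂ μ).1 = S.ε₂ * (S.L - 1 - S.Q) := by rw [← hd, ← mul_assoc, hεε, one_mul]
    have e2 : fs (S.e₂ μ).1 = S.ε₂ * S.τ := by rw [← hf, ← mul_assoc, hεε, one_mul]
    rw [phi, e1, e2]
    linear_combination ((S.L - 1 - S.Q) ^ 2 - 2 * h * S.τ * (S.L - 1 - S.Q)) * hεε - h ^ 2 * hτ
  have he3 : ∀ μ, phi h (S.e₃ μ).1 = (S.L - 1 + S.Q - S.τ * h) ^ 2 := fun μ => by
    have hd := S.deg_e₃ H μ
    have hf := (S.fs_e₂₃ H μ₀ μ).2
    have hεε : S.ε₃ * S.ε₃ = 1 := by rcases S.hε₃ with e | e <;> simp [e]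
    have e1 : deg (S.e₃ μ).1 = S.ε₃ * (S.L - 1 + S.Q) := by rw [← hd, ← mul_assoc, hεε, one_mul]
    have e2 : fs (S.e₃ μ).1 = S.ε₃ * S.τ := by rw [← hf, ← mul_assoc, hεε, one_mul]
    rw [phi, e1, e2]
    linear_combination ((S.L - 1 + S.Q) ^ 2 - 2 * h * S.τ * (S.L - 1 + S.Q)) * hεε - h ^ 2 * hτ
  rw [sum_irr, h0, ← Finset.sum_sdiff (Finset.subset_univ S.used), S.sum_used]
  rw [hΛ, Finset.sum_congr rfl (g := fun _ => (S.L + 1 - S.τ * h) ^ 2) (s₁ := Finset.univ.image S.e)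
      fun z hz => by obtain ⟨κ, -, rfl⟩ := Finset.mem_image.1 hz; exact he κ,
    Finset.sum_congr rfl (g := fun _ => (S.L - 1 - S.Q - S.τ * h) ^ 2) (s₁ := Finset.univ.image S.e₂)
      fun z hz => by obtain ⟨κ, -, rfl⟩ := Finset.mem_image.1 hz; exact he2 κ,
    Finset.sum_congr rfl (g := fun _ => (S.L - 1 + S.Q - S.τ * h) ^ 2) (s₁ := Finset.univ.image S.e₃)
      fun z hz => by obtain ⟨κ, -, rfl⟩ := Finset.mem_image.1 hz; exact he3 κ]
  simp only [Finset.sum_const, nsmul_eq_mul, c1, c2, c3]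
  have hX := (sq_nonneg _).trans (phi_nonneg hh S.X.1)
  have hY := (sq_nonneg _).trans (phi_nonneg hh S.Y.1)
  have hrest := Finset.sum_le_sum (s := Finset.univ \ S.used) fun χ _ => phi_nonneg hh χ.1
  linarith

end Shape

end Cfsg.Agent.SelfCent
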