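/-
The order of the group.

* `sylow_le`, `exists_conj_mem` : Sylow subgroups inside the three subgroups
* `coprime_centralizer`, `dvd_card`, `odd_card_inv` : orders
* `arith`   : `|G| = n₁ n₂ n₃ · h B`, `h ± 1 = n₂ n₃ B`, and the number of classes
-/
import Cfsg.Agent.Lib.Char.Integral
import Cfsg.Agent.Lib.SelfCentSuzuki.Numeric
import Cfsg.Agent.Lib.SelfCentSuzuki.Shape

set_option autoImplicit false
set_option linter.unusedSectionVars false
set_option linter.style.haveILetI false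

open Cfsg
open scoped ComplexConjugate

namespace Cfsg.Agent.SelfCent

open Cfsg.Agent.Char

variable {G : Type*} [Group G] [Fintype G] {A : Subgroup G} {w : ℕ}

theorem exists_conj_mem (hA : SSC A w) {p : ℕ} [Fact p.Prime] (hp : p ∣ Nat.card A) {x : G}
    (hx : orderOf x = p) : ∃ g : G, g * x * g⁻¹ ∈ A := by
  obtain ⟨Q⟩ := (inferInstance : Nonempty (Sylow p A))
  obtain ⟨P, hP⟩ := ((Q.2.map A.subtype)).exists_le_sylow
  have hPA : (P : Subgroup G) ≤ A := by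
    have hcard : Nat.card P ≤ Nat.card ((Q : Subgroup A).map A.subtype) := by
      rw [Subgroup.card_map_of_injective A.subtype_injective, P.card_eq_multiplicity, Q.card_eq_multiplicity,
        ← A.card_mul_index, Nat.factorization_mul Nat.card_pos.ne' Subgroup.index_ne_zero_of_finite,
        Finsupp.add_apply, Nat.factorization_eq_zero_of_not_dvd (fun hd =>
          (Fact.out : p.Prime).ne_one (Nat.eq_one_of_dvd_coprimes hA.coprime_index hp hd)), add_zero]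
    exact (Subgroup.eq_of_le_of_card_ge hP hcard).ge.trans (Subgroup.map_subtype_le _)
  obtain ⟨P', hP'⟩ := (IsPGroup.of_card (p := p) (G := Subgroup.zpowers x) (n := 1)
    (by rw [Nat.card_zpowers, hx, pow_one])).exists_le_sylow
  obtain ⟨g, hg⟩ := MulAction.exists_smul_eq G P' P
  refine ⟨g, hPA ?_⟩
  rw [← hg, Sylow.coe_subgroup_smul]
  exact ⟨x, hP' (Subgroup.mem_zpowers _), rfl⟩

theorem SSC.not_dvd_centralizer (hA : SSC A w) {u : G} (hu : Inv' u) {p : ℕ} (hp : p.Prime)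
    (hpA : p ∣ Nat.card A) : ¬ p ∣ Nat.card (Subgroup.centralizer ({u} : Set G)) := by
  intro hd
  haveI := Fact.mk hp
  obtain ⟨x, hx⟩ := exists_prime_orderOf_dvd_card' p hd
  rw [← Subgroup.orderOf_coe] at hx
  obtain ⟨g, hg⟩ := exists_conj_mem hA hpA hx
  have hx1 : g * (x : G) * g⁻¹ ≠ 1 := fun e => by
    rw [conj_eq_one_iff.1 e, orderOf_one] at hx
    exact hp.ne_one hx.symm
  refine hA.not_inv hu g (hA.mem_of_commute hg hx1 ?_)
  rw [conj_mul, conj_mul, Subgroup.mem_centralizer_singleton_iff.1 x.2]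

variable [IsSimpleGroup G] {A₁ A₂ A₃ : Subgroup G}

namespace Ctx

theorem coprime_centralizer (H : Ctx A₁ A₂ A₃) {u : G} (hu : Inv' u) :
    (Nat.card A₁ * (Nat.card A₂ * Nat.card A₃)).Coprime (Nat.card (Subgroup.centralizer ({u} : Set G))) := by
  refine Nat.coprime_of_dvd fun p hp h1 h2 => ?_
  rcases (Nat.Prime.dvd_mul hp).1 h1 with h | h
  · exact H.h₁.not_dvd_centralizer hu hp h h2
  rcases (Nat.Prime.dvd_mul hp).1 h with h | h
  · exact H.h₂.not_dvd_centralizer hu hp h h2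
  · exact H.h₃.not_dvd_centralizer hu hp h h2

theorem dvd_card (H : Ctx A₁ A₂ A₃) :
    Nat.card A₁ * (Nat.card A₂ * Nat.card A₃) ∣ Nat.card G := by
  have c12 := H.h₁.coprime_of_not_conj H.h₂ H.d₁₂
  have c13 := H.h₁.coprime_of_not_conj H.h₃ H.d₁₃
  have c23 := H.h₂.coprime_of_not_conj H.h₃ H.d₂₃
  exact Nat.Coprime.mul_dvd_of_dvd_of_dvd (c12.mul_right c13) A₁.card_subgroup_dvd_card
    (Nat.Coprime.mul_dvd_of_dvd_of_dvd c23 A₂.card_subgroup_dvd_card A₃.card_subgroup_dvd_card)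

theorem odd_index (H : Ctx A₁ A₂ A₃) [Fintype (IrrCharacter G)] [Fintype (Irr₀ G)] [DecidableEq (Irr₀ G)]
    {u : G} (hu : Inv' u) : Odd (Subgroup.centralizer ({u} : Set G)).index := by
  haveI : Fact (Nat.Prime 2) := ⟨Nat.prime_two⟩
  obtain ⟨P⟩ := (inferInstance : Nonempty (Sylow 2 G))
  obtain ⟨x, hx⟩ : ∃ x : G, orderOf x = 2 := ⟨u, orderOf_eq_prime (by rw [pow_two, hu.1]) hu.2⟩
  haveI : Nontrivial (P : Subgroup G) := by
    rw [← Finite.one_lt_card_iff_nontrivial, P.card_eq_multiplicity]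
    refine Nat.one_lt_pow (Nat.Prime.factorization_pos_of_dvd Nat.prime_two Nat.card_pos.ne'
      (hx ▸ orderOf_dvd_natCard x)).ne' (by norm_num)
  haveI := P.2.center_nontrivial
  obtain ⟨z, hz⟩ := exists_prime_orderOf_dvd_card' (G := Subgroup.center (P : Subgroup G)) 2 (by
    obtain ⟨k, hk, hk'⟩ := (P.2.to_subgroup (Subgroup.center (P : Subgroup G))).nontrivial_iff_card.1 inferInstance
    rw [hk']
    exact dvd_pow_self 2 hk.ne')
  have hz' : orderOf ((z : (P : Subgroup G)) : G) = 2 := by rw [Subgroup.orderOf_coe, Subgroup.orderOf_coe, hz]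
  have hti : Inv' ((z : (P : Subgroup G)) : G) := ⟨by rw [← pow_two]; exact orderOf_dvd_iff_pow_eq_one.1 hz'.dvd,
    fun e => by rw [e, orderOf_one] at hz'; omega⟩
  set t := ((z : (P : Subgroup G)) : G)
  have hle : (P : Subgroup G) ≤ Subgroup.centralizer ({t} : Set G) := fun g hg =>
    Subgroup.mem_centralizer_singleton_iff.2 (congrArg Subtype.val (Subgroup.mem_center_iff.1 z.2 ⟨g, hg⟩))
  have hodd : Odd (Subgroup.centralizer ({t} : Set G)).index := by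
    rw [← Nat.not_even_iff_odd, even_iff_two_dvd]
    exact fun h => P.not_dvd_index (h.trans (Subgroup.index_dvd_of_le hle))
  have hcard : ∀ {v : G}, Inv' v → (Subgroup.centralizer ({v} : Set G)).index =
      Nat.card {x : G // Inv' x} := fun {v} hv => by
    refine Nat.eq_of_mul_eq_mul_right (Nat.card_pos (α := Subgroup.centralizer ({v} : Set G))) ?_
    rw [H.card_inv_mul hv, Subgroup.index_mul_card]
  rw [hcard hti] at hodd
  rwa [hcard hu]

/-- The order of the group. -/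
theorem arith (H : Ctx A₁ A₂ A₃) (h23 : Nat.card A₂ < Nat.card A₃)
    (hord : Nat.card G ≤ 3 * (Nat.card A₁ * (Nat.card A₂ * Nat.card A₃)) ^ 2) {u : G} (hu : Inv' u) :
    ∃ B : ℕ, Odd B ∧
      Nat.card G = Nat.card A₁ * (Nat.card A₂ * Nat.card A₃) *
        (Nat.card (Subgroup.centralizer ({u} : Set G)) * B) ∧
      (Nat.card A₂ * Nat.card A₃ * B = Nat.card (Subgroup.centralizer ({u} : Set G)) + 1 ∨
        Nat.card A₂ * Nat.card A₃ * B + 1 = Nat.card (Subgroup.centralizer ({u} : Set G))) ∧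
      Nat.card (ConjClasses G) = H.T + 4 ∧ 11 ≤ Nat.card A₁ ∧
      Nat.card A₂ + Nat.card A₃ ≤ 2 * Nat.card A₁ + 4 ∧
      2 * Nat.card A₁ + 4 ≤ Nat.card A₂ + Nat.card A₃ + 12 := by
  classical
  haveI : Fintype (IrrCharacter G) := Fintype.ofFinite _
  haveI : Fintype (Irr₀ G) := Fintype.ofFinite _
  haveI : Fintype (X₀ A₁) := Fintype.ofFinite _
  haveI : Fintype (X₀ A₂) := Fintype.ofFinite _
  haveI : Fintype (X₀ A₃) := Fintype.ofFinite _
  obtain ⟨S⟩ := exists_shape H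
  obtain ⟨l, hl⟩ := Ctx.exists_l S.toBase hu
  have hform := H.formula S.toBase hu hl
  have hne := Ctx.l_ne S.toBase hu hl
  have hcop := H.coprime_centralizer hu
  have hN := H.dvd_card
  have hKh := H.card_inv_mul hu
  have hKodd := H.odd_index hu
  have hlow := H.pairs_lower hu
  have hup := H.pairs_upper hu
  rw [S.card_classes_eq H] at hup
  have hT4 := H.four_T
  have hLne := S.L_ne H.h₁
  set h := Nat.card (Subgroup.centralizer ({u} : Set G)) with hhdef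
  set K := Nat.card {x : G // Inv' x} with hKdef
  have hidx : (Subgroup.centralizer ({u} : Set G)).index = K := by
    refine Nat.eq_of_mul_eq_mul_right (Nat.card_pos (α := Subgroup.centralizer ({u} : Set G))) ?_
    rw [hKh, Subgroup.index_mul_card]
  rw [hidx] at hKodd
  obtain ⟨j, hKj⟩ := hcop.dvd_of_dvd_mul_right (hKh ▸ hN)
  have hhpos : 0 < h := Nat.card_pos
  have hjpos : 0 < j := Nat.pos_of_ne_zero fun e => by
    rw [e, mul_zero] at hKj
    simp [hKj] at hKodd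
  -- integers
  obtain ⟨n₁, hn₁⟩ : ∃ n : ℤ, n = (Nat.card A₁ : ℤ) := ⟨_, rfl⟩
  obtain ⟨n₂, hn₂⟩ : ∃ n : ℤ, n = (Nat.card A₂ : ℤ) := ⟨_, rfl⟩
  obtain ⟨n₃, hn₃⟩ : ∃ n : ℤ, n = (Nat.card A₃ : ℤ) := ⟨_, rfl⟩
  obtain ⟨t₁, ht₁⟩ : ∃ t : ℤ, t = ((classesOf A₁).card : ℤ) := ⟨_, rfl⟩
  obtain ⟨t₂, ht₂⟩ : ∃ t : ℤ, t = ((classesOf A₂).card : ℤ) := ⟨_, rfl⟩
  obtain ⟨t₃, ht₃⟩ : ∃ t : ℤ, t = ((classesOf A₃).card : ℤ) := ⟨_, rfl⟩
  obtain ⟨s, hs⟩ : ∃ s : ℤ, s = (S.s : ℤ) := ⟨_, rfl⟩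
  have c₁ := card_classesOf H.h₁
  have c₂ := card_classesOf H.h₂
  have c₃ := card_classesOf H.h₃
  have five₁ := H.h₁.five
  have nine₂ := H.h₂.nine H.five₂
  have nine₃ := H.h₃.nine H.five₃
  have en₁ : n₁ = 2 * t₁ + 1 := by omega
  have en₂ : n₂ = 4 * t₂ + 1 := by omega
  have en₃ : n₃ = 4 * t₃ + 1 := by omega
  have hT : (H.T : ℤ) = t₁ + t₂ + t₃ := by rw [Ctx.T]; push_cast; rw [← ht₁, ← ht₂, ← ht₃]
  have hgI : (Nat.card G : ℤ) = n₁ * (n₂ * n₃) * ((h : ℤ) * j) := by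
    rw [← hKh, hKj]; push_cast; rw [← hn₁, ← hn₂, ← hn₃]; ring
  have hM : (h : ℤ) * j ≤ 3 * (n₁ * (n₂ * n₃)) := by
    have h0 : (Nat.card G : ℤ) ≤ 3 * (n₁ * (n₂ * n₃)) ^ 2 := by
      rw [hn₁, hn₂, hn₃]; exact_mod_cast hord
    rw [hgI] at h0
    refine le_of_mul_le_mul_left ?_ (show 0 < n₁ * (n₂ * n₃) from mul_pos (by omega) (mul_pos (by omega) (by omega)))
    linarith
  have hK : (K : ℤ) = n₁ * (n₂ * n₃) * j := by rw [hKj]; push_cast; rw [← hn₁, ← hn₂, ← hn₃]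
  rw [← hn₁] at hform
  have hL1 : S.L + 1 ≠ 0 := by omega
  have hLL : 0 < S.L * (S.L + 1) := by
    rcases lt_trichotomy S.L 0 with h0 | h0 | h0
    · exact mul_pos_of_neg_of_neg h0 (by omega)
    · exact absurd h0 hLne.1
    · exact mul_pos h0 (by omega)
  have hbase : (h : ℤ) * (S.L * (S.L + 1)) = n₂ * n₃ * j * (S.L - l) ^ 2 := by
    refine mul_left_cancel₀ (show n₁ * (h : ℤ) ≠ 0 from mul_ne_zero (by omega) (by exact_mod_cast hhpos.ne')) ?_
    rw [hgI] at hform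
    linear_combination hform
  -- the other characters
  have hNdeg : ∀ χ ∈ Finset.univ \ S.used, n₁ * (n₂ * n₃) ≤ deg χ.1 := by
    intro χ hχ
    have hd := S.dvd_other H (Finset.mem_sdiff.1 hχ).2
    have := Int.le_of_dvd (deg_pos χ.1) hd
    rw [hn₁, hn₂, hn₃]
    push_cast at this
    exact this
  have hother : ∀ m : ℤ, m ≤ n₁ * (n₂ * n₃) →
      s * (n₁ * (n₂ * n₃) - m) ^ 2 ≤ ∑ χ ∈ Finset.univ \ S.used, (deg χ.1 - m) ^ 2 := by
    intro m hm
    have h0 := Finset.card_nsmul_le_sum (Finset.univ \ S.used) (fun χ => (deg χ.1 - m) ^ 2)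
      ((n₁ * (n₂ * n₃) - m) ^ 2) fun χ hχ => by
        have := hNdeg χ hχ
        exact pow_le_pow_left₀ (by omega) (by omega) 2
    rw [nsmul_eq_mul] at h0
    rw [hs, Shape.s]
    exact h0
  have hsum : ∀ m : ℤ, 0 ≤ m →
      (1 - m) ^ 2 + ((S.L - S.τ * m) ^ 2 + t₁ * (S.L + 1 - S.τ * m) ^ 2 +
        (t₂ * (S.L - 1 - S.Q - S.τ * m) ^ 2 + t₃ * (S.L - 1 + S.Q - S.τ * m) ^ 2) +
        ∑ χ ∈ Finset.univ \ S.used, (deg χ.1 - m) ^ 2) ≤
      n₁ * (n₂ * n₃) * ((h : ℤ) * j) - 2 * m * (1 + n₁ * (n₂ * n₃) * j) +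
        (t₁ + t₂ + t₃ + 4 + s) * m ^ 2 := by
    intro m hm
    have h0 := (S.phi_lower H hm).trans_eq (Shape.phi_sum m)
    rw [hgI, ← hKdef, hK, S.card_classes_eq H, ← ht₁, ← ht₂, ← ht₃] at h0
    push_cast at h0
    rw [hT, ← hs] at h0
    exact h0
  have hNpos : 0 < n₁ * (n₂ * n₃) := mul_pos (by omega) (mul_pos (by omega) (by omega))
  have hs2 : s ≤ 2 := by
    have h0 := hsum 0 le_rfl
    have h1 := hother 0 hNpos.le
    simp only [sub_zero, mul_zero, zero_mul, add_zero, ne_eq, OfNat.ofNat_ne_zero, not_false_eq_true,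
      zero_pow] at h0 h1
    have h2 : s * (n₁ * (n₂ * n₃)) ^ 2 < 3 * (n₁ * (n₂ * n₃)) ^ 2 := by
      have := mul_le_mul_of_nonneg_left hM hNpos.le
      have : 0 ≤ t₁ * (S.L + 1) ^ 2 := mul_nonneg (by omega) (sq_nonneg _)
      have : 0 ≤ t₂ * (S.L - 1 - S.Q) ^ 2 := mul_nonneg (by omega) (sq_nonneg _)
      have : 0 ≤ t₃ * (S.L - 1 + S.Q) ^ 2 := mul_nonneg (by omega) (sq_nonneg _)
      have := sq_nonneg S.L
      linarith
    have := lt_of_mul_lt_mul_right h2 (sq_nonneg _)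
    omega
  have hLn₁ : n₁ ∣ S.L - 1 := hn₁ ▸ S.L_dvd H.h₁
  have hLP : n₂ * n₃ ∣ S.L + 1 := by
    have := S.L_dvd₂₃ H
    rw [hn₂, hn₃]
    push_cast at this
    exact this
  have hlI : (((K : ℤ)) + (n₁ * (n₂ * n₃) * ((h : ℤ) * j)) * (t₁ + t₂ + t₃) ≤ (K : ℤ) * K) := by
    rw [← hgI, ← hT]; exact_mod_cast hlow
  have huI : (K : ℤ) * K + n₁ * (n₂ * n₃) * ((h : ℤ) * j) ≤
      n₁ * (n₂ * n₃) * ((h : ℤ) * j) * (t₁ + t₂ + t₃ + 4 + s) := by
    rw [← hgI, ← hT, hs]; exact_mod_cast hup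
  rw [hK] at hlI huI
  -- the value at an involution
  have hl0 : l = 0 := by
    obtain ⟨v, hv, hv1, hvN⟩ := H.h₃.exists_inv
    obtain ⟨l₀, hl₀⟩ := int_of_invol (IsIrrCharacter.isCharacter S.Λ.1.2) hv
    have hpos := abs_invol_le H.h₃ S.coef₃ ⟨hv, hv1⟩ hvN hl₀
    obtain ⟨g, hg⟩ := isConj_iff.1 (H.isConj_inv hu ⟨hv, hv1⟩)
    have hll : l = S.δ * l₀ := by
      apply Int.cast_injective (α := ℂ)
      rw [Int.cast_mul, ← hl, Base.val, ← hl₀, ← hg, IsIrrCharacter.isClassFunction S.Λ.1.2 u g]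
    have habs : |l| = |l₀| := by rw [hll]; rcases S.hδ with e | e <;> simp [e]
    rw [← habs, ← hn₃, ← S.natAbs_L, Int.natCast_natAbs] at hpos
    -- integrality
    have hint := IsIrrCharacter.isIntegral_classSize_mul_div S.Λ.1.2 u
    rw [hidx, deg_spec] at hint
    obtain ⟨z, hz⟩ := int_of_invol (IsIrrCharacter.isCharacter S.Λ.1.2) hu.1
    have hdz : (S.L.natAbs : ℤ) ∣ (K : ℤ) * l := by
      have hlz : l = S.δ * z := by
        apply Int.cast_injective (α := ℂ)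
        rw [Int.cast_mul, ← hl, Base.val, hz]
      rw [hlz, Int.natCast_dvd, Int.natAbs_mul, Int.natAbs_mul, Int.natAbs_natCast,
        show S.δ.natAbs = 1 by rcases S.hδ with e | e <;> simp [e], one_mul]
      refine nat_dvd_of_isIntegral_div (by rw [Int.natAbs_ne_zero]; exact hLne.1) ?_
      have hdeg : (deg S.Λ.1 : ℂ) = ((S.L.natAbs : ℕ) : ℂ) := by
        rw [← S.natAbs_L, Int.cast_natCast]
      rw [hz, hdeg] at hint
      rcases Int.natAbs_eq z with e | e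
      · convert hint using 1
        rw [e]
        push_cast
        simp
      · convert hint.neg using 1
        rw [e]
        push_cast
        simp [neg_div]
    have hcopL : IsCoprime S.L (n₁ * (n₂ * n₃)) := by
      obtain ⟨k, hk⟩ := hLn₁
      obtain ⟨k', hk'⟩ := hLP
      exact IsCoprime.mul_right ⟨1, -k, by linear_combination hk⟩ ⟨-1, k', by linear_combination -hk'⟩
    have hdl : S.L ∣ (j : ℤ) * l := by
      refine hcopL.dvd_of_dvd_mul_left (z := (j : ℤ) * l) ?_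
      rw [← mul_assoc, ← hK, ← Int.natAbs_dvd]
      exact hdz
    have hPL : n₂ * n₃ ≤ |S.L| + 1 := by
      refine (Int.le_of_dvd (abs_pos.2 hL1) ((dvd_abs _ _).2 hLP)).trans ?_
      have := abs_add_le S.L 1
      simpa using this
    have hP0 : 0 < n₂ * n₃ := mul_pos (by omega) (by omega)
    have hjd : ((j : ℤ) * (S.L - l)) ^ 2 ≤ 3 * n₁ * (S.L * (S.L + 1)) := by
      refine le_of_mul_le_mul_left ?_ hP0
      have := mul_le_mul_of_nonneg_right hM hLL.le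
      calc n₂ * n₃ * ((j : ℤ) * (S.L - l)) ^ 2 = j * (n₂ * n₃ * j * (S.L - l) ^ 2) := by ring
        _ = (h : ℤ) * j * (S.L * (S.L + 1)) := by rw [← hbase]; ring
        _ ≤ _ := by linarith
    have hU : n₁ * (S.L * (S.L + 1)) ≤ (S.L - l) ^ 2 * (t₁ + t₂ + t₃ + 5) := by
      have hpos' : 0 < n₁ * (n₂ * n₃) * (j : ℤ) := mul_pos hNpos (by exact_mod_cast hjpos)
      have h5 : n₁ * (n₂ * n₃) * (j : ℤ) ≤ h * (t₁ + t₂ + t₃ + 5) := by
        refine le_of_mul_le_mul_left ?_ hpos'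
        have := mul_le_mul_of_nonneg_left hs2 (mul_nonneg hpos'.le (show (0 : ℤ) ≤ h by positivity))
        linarith
      refine le_of_mul_le_mul_left ?_ (show (0 : ℤ) < h by exact_mod_cast hhpos)
      calc (h : ℤ) * (n₁ * (S.L * (S.L + 1))) = n₁ * (n₂ * n₃) * j * (S.L - l) ^ 2 := by
            linear_combination n₁ * hbase
        _ ≤ h * (t₁ + t₂ + t₃ + 5) * (S.L - l) ^ 2 := mul_le_mul_of_nonneg_right h5 (sq_nonneg _)
        _ = _ := by ring
    refine Numeric.l_eq_zero (n₁ := n₁) (n₂ := n₂) (n₃ := n₃) (T := t₁ + t₂ + t₃) (by omega) (by omega)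
      (by omega) (by omega) hPL ?_ hdl (by exact_mod_cast hjpos) hjd hU (by omega)
    rcases S.hδ with e | e <;> rw [e] at hpos <;> linarith
  -- the parametrisation
  rw [hl0, sub_zero] at hbase
  obtain ⟨κ, hκ⟩ := hLP
  obtain ⟨i, hipos, hhi, hji⟩ := Numeric.exists_i hLne.1 hL1 hκ (by exact_mod_cast hhpos)
    (by exact_mod_cast hjpos) hbase
  obtain ⟨A, hA⟩ : ∃ A : ℤ, A = |S.L| := ⟨_, rfl⟩
  obtain ⟨B, hB⟩ : ∃ B : ℤ, B = |κ| := ⟨_, rfl⟩
  obtain ⟨e, he, hLe, hκe⟩ : ∃ e : ℤ, (e = 1 ∨ e = -1) ∧ S.L = e * A ∧ κ = e * B := by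
    have hP0 : 0 < n₂ * n₃ := mul_pos (by omega) (by omega)
    rcases lt_or_gt_of_ne hLne.1 with h0 | h0
    · refine ⟨-1, Or.inr rfl, by rw [hA, abs_of_neg h0]; ring, ?_⟩
      have hk0 : κ ≤ 0 := by
        by_contra hlt
        have := mul_pos hP0 (show 0 < κ by omega)
        omega
      rw [hB, abs_of_nonpos hk0]; ring
    · refine ⟨1, Or.inl rfl, by rw [hA, abs_of_pos h0]; ring, ?_⟩
      have hk0 : 0 ≤ κ := by
        by_contra hlt
        have := mul_neg_of_pos_of_neg hP0 (show κ < 0 by omega)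
        omega
      rw [hB, abs_of_nonneg hk0]; ring
  rw [← hA] at hhi
  rw [← hB] at hji
  have hAe : A + e = n₂ * n₃ * B := by
    rcases he with rfl | rfl <;> rw [hLe, hκe] at hκ <;> linarith
  have hKi : (K : ℤ) = n₁ * i * (A + e) := by rw [hK, hji, hAe]; ring
  have hgi : n₁ * (n₂ * n₃) * ((h : ℤ) * j) = n₁ * i ^ 2 * (A * (A + e)) := by rw [hhi, hji, hAe]; ring
  have hjodd : Odd (j : ℤ) := by
    rw [Int.odd_coe_nat]
    rw [hKj] at hKodd
    exact (Nat.odd_mul.1 hKodd).2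
  have hijodd : Odd i ∧ Odd B := Int.odd_mul.1 (hji ▸ hjodd)
  have hB1 : 1 ≤ B := by
    have : 0 ≤ B := hB ▸ abs_nonneg κ
    obtain ⟨m, hm⟩ := hijodd.2
    omega
  have h1L : n₁ ∣ e * A - 1 := hLe ▸ hLn₁
  have hnine : ¬ (n₁ = 9 ∧ n₂ = 9) := fun ⟨a, b⟩ => by
    have hc := H.coprimes.1
    rw [show Nat.card A₁ = 9 by omega, show Nat.card A₂ = 9 by omega] at hc
    norm_num at hc
  obtain ⟨h11, hA1, hZ0, hZs, hlow', hup'⟩ := Numeric.bounds (n₁ := n₁) (n₂ := n₂) (n₃ := n₃) (i := i)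
    (s := s) (T := t₁ + t₂ + t₃) (by omega) ⟨t₁, en₁⟩ (by omega) (by omega) (by omega) he hB1 hAe h1L hnine
    hipos hs2 (by omega) (by rw [← hKi, ← hgi, hK]; linarith) (by rw [← hKi, ← hgi, hK]; linarith)
  -- the estimate
  have hH : ∀ m, m = (h : ℤ) → A * ((S.L - S.τ * m) ^ 2 + t₁ * (S.L + 1 - S.τ * m) ^ 2 +
      (t₂ * (S.L - 1 - S.Q - S.τ * m) ^ 2 + t₃ * (S.L - 1 + S.Q - S.τ * m) ^ 2) +
        ∑ χ ∈ Finset.univ \ S.used, (deg χ.1 - m) ^ 2) + A ≤
      (i * A) ^ 2 * ((t₁ + t₂ + t₃ + 3 + s) * A - n₁ * (A + e)) := by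
    intro m hm
    have h0 := hsum m (hm ▸ Int.natCast_nonneg h)
    have hmi : m = i * A := hm.trans hhi
    have eA : A * (n₁ * (n₂ * n₃) * ((h : ℤ) * j)) = (i * A) ^ 2 * (n₁ * (A + e)) := by rw [hgi]; ring
    have eg : m * (n₁ * (n₂ * n₃) * (j : ℤ)) = n₁ * (n₂ * n₃) * ((h : ℤ) * j) := by rw [hm]; ring
    set X := (S.L - S.τ * m) ^ 2 + t₁ * (S.L + 1 - S.τ * m) ^ 2 +
      (t₂ * (S.L - 1 - S.Q - S.τ * m) ^ 2 + t₃ * (S.L - 1 + S.Q - S.τ * m) ^ 2) +
        ∑ χ ∈ Finset.univ \ S.used, (deg χ.1 - m) ^ 2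
    have hA0 : 0 ≤ A := hA ▸ abs_nonneg _
    have h1 : X + 1 ≤ -(n₁ * (n₂ * n₃) * ((h : ℤ) * j)) + (t₁ + t₂ + t₃ + 3 + s) * m ^ 2 := by
      linarith
    have h2 := mul_le_mul_of_nonneg_left h1 hA0
    rw [mul_add, mul_one] at h2
    refine h2.trans (le_of_eq ?_)
    rw [mul_add, mul_neg, eA, hmi]
    ring
  have hrest : ∀ m : ℤ, 0 ≤ ∑ χ ∈ Finset.univ \ S.used, (deg χ.1 - m) ^ 2 :=
    fun m => Finset.sum_nonneg fun χ _ => sq_nonneg _
  obtain ⟨hi1, hτe⟩ := Numeric.i_one (n₁ := n₁) (n₂ := n₂) (n₃ := n₃) (τ := S.τ) (s := s) (B := B)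
    (a := S.L - 1 - S.Q - S.τ * (i * A)) (b := S.L - 1 + S.Q - S.τ * (i * A)) h11 en₁ en₂ en₃ (by omega)
    (by omega) hZ0 he (S.τ_cases H.h₁) hipos hijodd.1 hs2 hB1 hAe h1L hlow' (by rw [← hLe]; ring) (by
      have h0 := hH _ hhi.symm
      have h1 := mul_le_mul_of_nonneg_left (hrest (i * A)) (hA ▸ abs_nonneg S.L : (0 : ℤ) ≤ A)
      rw [← hLe]
      linarith)
  subst hi1
  rw [one_mul] at hhi hji
  have hs0 : s = 0 := by
    refine Numeric.s_eq_zero (n₁ := n₁) (n₂ := n₂) (n₃ := n₃) (A := A) (e := e) (κ := κ)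
      (a := S.L - 1 - S.Q) (b := S.L - 1 + S.Q) h11 en₁ en₂ en₃ (by omega) (by omega) hZ0 he (by omega)
      hs2 hB1 hijodd.2 hκe hAe h1L (by rw [← hhi, ← hji]; exact hM) hlow' (fun hle => ?_)
      (by rw [← hLe]; ring) ?_
    · have h0 := hH A hhi.symm
      rw [one_mul] at h0
      have h1 := hother A hle
      have hA0 : 0 ≤ A := hA ▸ abs_nonneg _
      refine le_trans (le_trans ?_ (le_add_of_nonneg_right hA0)) h0
      refine mul_le_mul_of_nonneg_left (le_trans h1 (le_add_of_nonneg_left ?_)) hA0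
      exact add_nonneg (add_nonneg (sq_nonneg _) (mul_nonneg (by omega) (sq_nonneg _)))
        (add_nonneg (mul_nonneg (by omega) (sq_nonneg _)) (mul_nonneg (by omega) (sq_nonneg _)))
    · have h0 := hsum 0 le_rfl
      have h1 := hother 0 hNpos.le
      simp only [sub_zero, mul_zero, zero_mul, add_zero, ne_eq, OfNat.ofNat_ne_zero, not_false_eq_true,
        zero_pow] at h0 h1
      rw [hgi] at h0
      have h2 : S.L * (S.L + 1) = A * (A + e) := by
        rcases he with rfl | rfl <;> rw [hLe] <;> ring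
      rw [← hLe, h2]
      linarith
  subst hs0
  obtain ⟨b, hb⟩ : ∃ b : ℕ, (b : ℤ) = B := ⟨B.toNat, by omega⟩
  have hjb : j = b := by omega
  refine ⟨b, ?_, ?_, ?_, ?_, by omega, by omega, by omega⟩
  · rw [← hb, Int.odd_coe_nat] at hijodd
    exact hijodd.2
  · rw [← hKh, hKj, hjb]; ring
  · rw [hn₂, hn₃, ← hb, ← hhi] at hAe
    rcases he with rfl | rfl
    · left
      exact_mod_cast hAe.symm
    · right
      have h4 : ((Nat.card A₂ * Nat.card A₃ * b + 1 : ℕ) : ℤ) = (h : ℤ) := by push_cast; linarith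
      exact_mod_cast h4
  · rw [S.card_classes_eq H]
    omega

end Ctx

end Cfsg.Agent.SelfCent
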