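/-
The group when there is no further irreducible character.

* `exists_four`  : an element of order 4
* `small_two`    : a group of exponent 4 with one involution has order at most 8
* `isPGroup_centralizer` : the centraliser of an involution is a 2-group
-/
import Cfsg.Agent.Lib.SelfCentSuzuki.Arith

set_option autoImplicit false
set_option linter.unusedSectionVars false
set_option linter.style.haveILetI false

open Cfsg

namespace Cfsg.Agent.SelfCent

variable {G : Type*} [Group G] [Fintype G] {A : Subgroup G}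

theorem exists_four (hA : SSC A 4) : ∃ x : G, orderOf x = 4 := by
  haveI : Fact (Nat.Prime 2) := ⟨Nat.prime_two⟩
  set N := Subgroup.normalizer (A : Set G)
  obtain ⟨V, hV⟩ := Sylow.exists_subgroup_card_pow_prime (G := N) 2 (n := 2)
    (by rw [hA.card_normalizer]; exact Dvd.intro _ rfl)
  by_contra hno
  push Not at hno
  have hsq : ∀ x : V, ((x : N) : G) * ((x : N) : G) = 1 := fun x => by
    have hd : orderOf ((x : N) : G) ∣ 2 ^ 2 := by
      rw [Subgroup.orderOf_coe, Subgroup.orderOf_coe, ← hV]
      exact orderOf_dvd_natCard x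
    obtain ⟨k, hk, hk'⟩ := (Nat.dvd_prime_pow Nat.prime_two).1 hd
    have hne := hno ((x : N) : G)
    rw [← pow_two]
    refine orderOf_dvd_iff_pow_eq_one.1 ?_
    interval_cases k <;> simp_all
  obtain ⟨a, ha, ha1⟩ := hA.ne_bot
  have hone : ∀ x y : V, x ≠ 1 → y ≠ 1 → x = y := by
    intro x y hx hy
    have hx1 : ((x : N) : G) ≠ 1 := fun e => hx (Subtype.ext (Subtype.ext e))
    have hy1 : ((y : N) : G) ≠ 1 := fun e => hy (Subtype.ext (Subtype.ext e))
    have ix := hA.inverts (hsq x) hx1 (x : N).2 ha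
    have iy := hA.inverts (hsq y) hy1 (y : N).2 (A.inv_mem ha)
    rw [inv_inv] at iy
    have hc : ((y : N) : G) * (x : N) * a = a * (((y : N) : G) * (x : N)) := by
      calc ((y : N) : G) * (x : N) * a
          = ((y : N) : G) * (((x : N) : G) * a * (x : N)) * (x : N) := by
            simp only [mul_assoc]; rw [hsq x, mul_one]
        _ = ((y : N) : G) * a⁻¹ * (((y : N) : G) * (y : N)) * (x : N) := by rw [ix, hsq y, mul_one]
        _ = (((y : N) : G) * a⁻¹ * (y : N)) * (((y : N) : G) * (x : N)) := by simp only [mul_assoc]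
        _ = _ := by rw [iy]
    have hmem := hA.mem_of_commute ha ha1 hc
    have h2 : (((y * x : V) : N) : G) * (((y * x : V) : N) : G) = 1 := hsq (y * x)
    have h1 : ((y : N) : G) * (x : N) = 1 := hA.one_of_sq hmem (by simpa using h2)
    refine Subtype.ext (Subtype.ext ?_)
    rw [← inv_eq_of_mul_eq_one_right (hsq x)]
    exact (eq_inv_of_mul_eq_one_left h1).symm
  classical
  haveI := Fintype.ofFinite V
  have hle : Fintype.card V ≤ 2 := by
    by_contra hlt
    obtain ⟨x, hx, y, hy, hxy⟩ := Finset.one_lt_card.1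
      (show 1 < ((Finset.univ : Finset V).erase 1).card by
        rw [Finset.card_erase_of_mem (Finset.mem_univ _), Finset.card_univ]; omega)
    exact hxy (hone x y (Finset.mem_erase.1 hx).1 (Finset.mem_erase.1 hy).1)
  rw [← Nat.card_eq_fintype_card, hV] at hle
  norm_num at hle

theorem small_two {V : Subgroup G} {v : G} (hexp : ∀ x ∈ V, x * x = 1 ∨ orderOf x = 4)
    (hone : ∀ x ∈ V, x * x = 1 → x ≠ 1 → x = v) (hv : v ∈ V) : Nat.card V ≤ 8 := by
  classical
  by_cases hall : ∀ x ∈ V, x * x = 1
  · have : Nat.card V ≤ ({1, v} : Finset G).card := by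
      rw [Nat.card_eq_fintype_card, Fintype.card_subtype]
      refine Finset.card_le_card fun x hx => ?_
      have hxV := (Finset.mem_filter.1 hx).2
      by_cases h : x = 1
      · simp [h]
      · simp [hone x hxV (hall x hxV) h]
    exact this.trans (Finset.card_le_two.trans (by norm_num))
  push Not at hall
  obtain ⟨x, hx, hx2⟩ := hall
  have hsq : ∀ z ∈ V, z * z = 1 ∨ z * z = v := fun z hz => by
    by_cases h : z * z = 1
    · exact Or.inl h
    · refine Or.inr (hone _ (V.mul_mem hz hz) ?_ h)
      have h4 := pow_orderOf_eq_one z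
      rw [(hexp z hz).resolve_left h] at h4
      simpa [pow_succ, mul_assoc] using h4
  have hxx : x * x = v := (hsq x hx).resolve_left hx2
  set F : Finset G := {1, v, x, x⁻¹} with hF
  have hcomm : ∀ z ∈ V, z * x = x * z → z ∈ F := by
    intro z hz hc
    rcases hsq z hz with h | h
    · by_cases h1 : z = 1
      · simp [hF, h1]
      · simp [hF, hone z hz h h1]
    · have hq : (z * x⁻¹) * (z * x⁻¹) = 1 := by
        have hc' : Commute z x⁻¹ := (show Commute z x from hc).inv_right
        rw [show (z * x⁻¹) * (z * x⁻¹) = z * (x⁻¹ * z) * x⁻¹ by group, ← hc'.eq,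
          show z * (z * x⁻¹) * x⁻¹ = z * z * (x * x)⁻¹ by group, h, hxx, mul_inv_cancel]
      by_cases h1 : z * x⁻¹ = 1
      · simp [hF, mul_inv_eq_one.1 h1]
      · have he := hone _ (V.mul_mem hz (V.inv_mem hx)) hq h1
        have hz' : z = x⁻¹ := by
          have hvi : v⁻¹ = v := inv_eq_of_mul_eq_one_right (by rw [← he]; exact hq)
          rw [mul_inv_eq_iff_eq_mul] at he
          rw [he, ← hvi, ← hxx, mul_inv_rev, mul_assoc, inv_mul_cancel, mul_one]
        simp [hF, hz']
  have hanti : ∀ z ∈ V, z * x ≠ x * z → z * x = x⁻¹ * z := by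
    intro z hz hne
    have hv2 : v * v = 1 ∧ ∀ g ∈ V, g * v = v * g := by
      refine ⟨?_, fun g hg => ?_⟩
      · rw [← hxx]
        have h4 := pow_orderOf_eq_one x
        rw [(hexp x hx).resolve_left hx2] at h4
        simpa [pow_succ, mul_assoc] using h4
      · have h4 := pow_orderOf_eq_one x
        rw [(hexp x hx).resolve_left hx2] at h4
        have hvv : v * v = 1 := by rw [← hxx]; simpa [pow_succ, mul_assoc] using h4
        have := hone (g * v * g⁻¹) (V.mul_mem (V.mul_mem hg hv) (V.inv_mem hg))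
          (by rw [conj_mul, hvv, mul_one, mul_inv_cancel])
          (fun e => hx2 (hxx.trans (conj_eq_one_iff.1 e)))
        calc g * v = g * v * g⁻¹ * g := by group
          _ = v * g := by rw [this]
    obtain ⟨hvv, hvc⟩ := hv2
    have hvi : v⁻¹ = v := inv_eq_of_mul_eq_one_right hvv
    have hxi : x⁻¹ = v * x := by rw [← hxx, mul_assoc]; exact inv_eq_of_mul_eq_one_right (by
      rw [← mul_assoc, ← mul_assoc, hxx, mul_assoc, hxx, hvv])
    have hz2 : ∀ g ∈ V, g⁻¹ = g ∨ g⁻¹ = v * g := fun g hg => by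
      rcases hsq g hg with h | h
      · exact Or.inl (inv_eq_of_mul_eq_one_right h)
      · exact Or.inr (inv_eq_of_mul_eq_one_right (by
          rw [← mul_assoc, hvc g hg, mul_assoc, h, hvv]))
    -- `z x` is one of `x z`, `x⁻¹ z`
    have hinv := mul_inv_rev z x
    rcases hz2 z hz with e1 | e1 <;> rcases hz2 (z * x) (V.mul_mem hz hx) with e2 | e2 <;>
      rw [e2, e1, hxi] at hinv
    · rw [hinv, hxi]
    · have : z * x = x * z := mul_left_cancel (a := v) (by rw [hinv, mul_assoc])
      exact absurd this hne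
    · refine absurd ?_ hne
      rw [hinv, ← mul_assoc (v * x), mul_assoc v, hvc x hx, ← mul_assoc v, hvv, one_mul]
    · rw [hxi]
      have : v * (z * x) = v * (v * x * z) := by
        rw [hinv, ← mul_assoc (v * x), mul_assoc v x, hvc x hx]
        simp only [mul_assoc]
      exact mul_left_cancel this
  by_cases habel : ∀ z ∈ V, z * x = x * z
  · have : Nat.card V ≤ F.card := by
      rw [Nat.card_eq_fintype_card, Fintype.card_subtype]
      exact Finset.card_le_card fun z hz => hcomm z (Finset.mem_filter.1 hz).2 (habel z (Finset.mem_filter.1 hz).2)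
    exact this.trans (Finset.card_le_four.trans (by norm_num))
  push Not at habel
  obtain ⟨z₀, hz₀, hne⟩ := habel
  have : Nat.card V ≤ (F ∪ F.image (z₀ * ·)).card := by
    rw [Nat.card_eq_fintype_card, Fintype.card_subtype]
    refine Finset.card_le_card fun z hz => ?_
    have hzV := (Finset.mem_filter.1 hz).2
    by_cases hc : z * x = x * z
    · exact Finset.mem_union_left _ (hcomm z hzV hc)
    · refine Finset.mem_union_right _ (Finset.mem_image.2 ⟨z₀⁻¹ * z,
        hcomm _ (V.mul_mem (V.inv_mem hz₀) hzV) ?_, mul_inv_cancel_left _ _⟩)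
      have e0 := hanti z₀ hz₀ hne
      have e1 := hanti z hzV hc
      calc z₀⁻¹ * z * x = z₀⁻¹ * (x⁻¹ * z) := by rw [mul_assoc, e1]
        _ = z₀⁻¹ * (x⁻¹ * z₀) * (z₀⁻¹ * z) := by group
        _ = x * (z₀⁻¹ * z) := by rw [← e0, inv_mul_cancel_left]
  refine this.trans ((Finset.card_union_le _ _).trans ?_)
  have h1 : F.card ≤ 4 := Finset.card_le_four
  have h2 := Finset.card_image_le (s := F) (f := (z₀ * ·))
  omega

variable {A₁ A₂ A₃ : Subgroup G}

namespace Ctx

variable [Fintype (IrrCharacter G)] [Fintype (Irr₀ G)] [DecidableEq (Irr₀ G)]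

open Classical in
/-- The classes outside the known ones, when there are two. -/
theorem two_classes (H : Ctx A₁ A₂ A₃) {u : G} (hu : Inv' u) (hk : Nat.card (ConjClasses G) = H.T + 4)
    {σ y : G} (hσ : ConjClasses.mk σ ∉ H.known u) (hy : ConjClasses.mk y ∉ H.known u) (hne : ¬ IsConj σ y) :
    Finset.univ = insert (ConjClasses.mk σ) (insert (ConjClasses.mk y) (H.known u)) := by
  refine (Finset.eq_of_subset_of_card_le (Finset.subset_univ _) ?_).symm
  rw [Finset.card_insert_of_notMem (fun h => (Finset.mem_insert.1 h).elim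
      (fun e => hne (ConjClasses.mk_eq_mk_iff_isConj.1 e)) hσ),
    Finset.card_insert_of_notMem hy, H.card_known hu, Finset.card_univ, ← Nat.card_eq_fintype_card, hk]

theorem not_known (H : Ctx A₁ A₂ A₃) {u x : G} (h1 : x ≠ 1) (hu : ¬ IsConj u x)
    (hA : ∀ n, n = Nat.card A₁ ∨ n = Nat.card A₂ ∨ n = Nat.card A₃ → ¬ orderOf x ∣ n) :
    ConjClasses.mk x ∉ H.known u := by
  classical
  have hmem : ∀ (B : Subgroup G), ConjClasses.mk x ∈ classesOf B → orderOf x ∣ Nat.card B := by
    intro B h
    obtain ⟨a, ha, -, e⟩ := mem_classesOf.1 h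
    obtain ⟨g, hg⟩ := isConj_iff.1 (ConjClasses.mk_eq_mk_iff_isConj.1 e)
    rw [← hg, show orderOf (g * a * g⁻¹) = orderOf a from orderOf_injective (MulAut.conj g).toMonoidHom
      (MulAut.conj g).injective a]
    exact Subgroup.orderOf_dvd_natCard B ha
  simp only [known, Finset.mem_union, Finset.mem_insert, Finset.mem_singleton, not_or]
  refine ⟨⟨fun e => h1 ?_, fun e => hu (ConjClasses.mk_eq_mk_iff_isConj.1 e).symm⟩,
    ⟨fun h => hA _ (Or.inl rfl) (hmem _ h), fun h => hA _ (Or.inr (Or.inl rfl)) (hmem _ h)⟩,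
    fun h => hA _ (Or.inr (Or.inr rfl)) (hmem _ h)⟩
  simpa using (ConjClasses.mk_eq_mk_iff_isConj.1 e)

variable [IsSimpleGroup G]

/-- The centraliser of an involution is a 2-group. -/
theorem isPGroup_centralizer (H : Ctx A₁ A₂ A₃) {u : G} (hu : Inv' u)
    (hk : Nat.card (ConjClasses G) = H.T + 4) (h11 : 11 ≤ Nat.card A₁)
    (hab : ∀ r : ℕ, r.Prime → r ≠ 2 → ¬ r ∣ Nat.card A₁ * Nat.card A₂ * Nat.card A₃ →
      ∀ P : Sylow r G, IsMulCommutative ↥(P : Subgroup G)) :
    IsPGroup 2 (Subgroup.centralizer ({u} : Set G)) := by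
  classical
  have nine₂ := H.h₂.nine H.five₂
  have nine₃ := H.h₃.nine H.five₃
  obtain ⟨σ, hσ⟩ := exists_four H.h₂
  have hu2 : orderOf u = 2 := orderOf_eq_prime (by rw [pow_two, hu.1]) hu.2
  have hconj : ∀ {a b : G}, IsConj a b → orderOf a = orderOf b := fun {a b} h => by
    obtain ⟨g, rfl⟩ := isConj_iff.1 h
    exact (orderOf_injective (MulAut.conj g).toMonoidHom (MulAut.conj g).injective a).symm
  have hσK : ConjClasses.mk σ ∉ H.known u := by
    refine H.not_known (fun e => by rw [e, orderOf_one] at hσ; omega)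
      (fun e => by have := hconj e; omega) fun n hn hd => ?_
    have h2 : 2 ∣ n := (Dvd.intro 2 rfl : 2 ∣ 4).trans (hσ ▸ hd)
    rcases hn with rfl | rfl | rfl
    exacts [H.h₁.odd.not_two_dvd_nat h2, H.h₂.odd.not_two_dvd_nat h2, H.h₃.odd.not_two_dvd_nat h2]
  -- every element outside is conjugate to `σ` or to `y`
  have hcases : ∀ {y : G}, ConjClasses.mk y ∉ H.known u → ¬ IsConj σ y →
      ∀ x : G, ConjClasses.mk x ∈ H.known u ∨ IsConj x σ ∨ IsConj x y := fun {y} hy hne x => by
    have := Finset.mem_univ (ConjClasses.mk x)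
    rw [H.two_classes hu hk hσK hy hne, Finset.mem_insert, Finset.mem_insert] at this
    rcases this with h | h | h
    exacts [Or.inr (Or.inl (ConjClasses.mk_eq_mk_iff_isConj.1 h)),
      Or.inr (Or.inr (ConjClasses.mk_eq_mk_iff_isConj.1 h)), Or.inl h]
  intro c
  by_contra hc
  push Not at hc
  -- an odd prime dividing the centraliser
  obtain ⟨r, hr, hrc, hr2⟩ : ∃ r : ℕ, r.Prime ∧ r ∣ Nat.card (Subgroup.centralizer ({u} : Set G)) ∧ r ≠ 2 := by
    by_contra hall
    push Not at hall
    have hp : ∀ q, Nat.Prime q → q ∣ orderOf c → q = 2 :=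
      fun q hq hd => hall q hq (hd.trans (orderOf_dvd_natCard c))
    have he := Nat.eq_prime_pow_of_unique_prime_dvd (orderOf_pos c).ne' (fun {q} => hp q)
    exact hc _ (he ▸ pow_orderOf_eq_one c)
  haveI := Fact.mk hr
  obtain ⟨x, hx⟩ := exists_prime_orderOf_dvd_card' r hrc
  rw [← Subgroup.orderOf_coe] at hx
  have hrN : ∀ n, n = Nat.card A₁ ∨ n = Nat.card A₂ ∨ n = Nat.card A₃ → ¬ r ∣ n := by
    rintro n (rfl | rfl | rfl) h
    exacts [H.h₁.not_dvd_centralizer hu hr h hrc, H.h₂.not_dvd_centralizer hu hr h hrc,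
      H.h₃.not_dvd_centralizer hu hr h hrc]
  have hxK : ConjClasses.mk (x : G) ∉ H.known u := by
    refine H.not_known (fun e => by rw [e, orderOf_one] at hx; exact hr.ne_one hx.symm)
      (fun e => by have := hconj e; omega) fun n hn hd => hrN n hn (hx ▸ hd)
  have hσx : ¬ IsConj σ x := fun e => by
    have := hconj e
    rw [hσ, hx] at this
    rw [← this] at hr
    norm_num at hr
  -- the product of `x` and `u`
  have hcomm : Commute (x : G) u := Subgroup.mem_centralizer_singleton_iff.1 x.2
  have hxu : orderOf ((x : G) * u) = r * 2 := by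
    have hcop : (orderOf (x : G)).Coprime (orderOf u) := by
      rw [hx, hu2]
      exact (Nat.coprime_primes hr Nat.prime_two).2 hr2
    rw [hcomm.orderOf_mul_eq_mul_orderOf_of_coprime hcop, hx, hu2]
  rcases hcases hxK hσx ((x : G) * u) with h | h | h
  · exact absurd h (H.not_known (fun e => by rw [e, orderOf_one] at hxu; omega)
      (fun e => by have := hconj e; have := hr.two_le; omega)
      fun n hn hd => hrN n hn ((Dvd.intro 2 hxu.symm).trans hd))
  · have := hconj h
    omega
  · have := hconj h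
    have := hr.two_le
    omega

end Ctx

end Cfsg.Agent.SelfCent
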