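/-
Integer vectors of norm 2 or 4 any two distinct ones having product one less.

* `Fam`        : the hypothesis
* `unit`, `card_supp`, `meet`, `sign` : the supports
* `dichotomy`  : a sunflower, or all supports in a set of `k + 1`
* `star`       : norm 2 with degrees
* `sunflower`, `opposite` : two such families of norm 4 with products `-1`
* `card_image` : the number of distinct vectors
-/
import Cfsg.Agent.EqLemmas
import Mathlib.Algebra.BigOperators.Intervals
import Mathlib.Algebra.Order.BigOperators.Ring.Finset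
import Mathlib.Data.Fintype.BigOperators
import Mathlib.Tactic.LinearCombination
import Mathlib.Tactic.Linarith

set_option autoImplicit false
set_option linter.unusedSectionVars false

namespace Cfsg.Agent.SelfCent

open Finset

variable {α β ι : Type*} [Fintype ι] [DecidableEq ι]

/-- Vectors of norm `k`, two of which are equal or have product `k - 1`. -/
structure Fam (v : α → ι → ℤ) (k : ℕ) : Prop where
  two_four : k = 2 ∨ k = 4
  norm : ∀ μ, ∑ χ, v μ χ * v μ χ = k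
  inner : ∀ μ ν, v μ = v ν ∨ ∑ χ, v μ χ * v ν χ = (k : ℤ) - 1
  two : ∀ μ, ∃ ν, v ν ≠ v μ

/-- The support. -/
def supp (v : α → ι → ℤ) (μ : α) : Finset ι := univ.filter fun χ => v μ χ ≠ 0

theorem mem_supp {v : α → ι → ℤ} {μ : α} {χ : ι} : χ ∈ supp v μ ↔ v μ χ ≠ 0 := by simp [supp]

theorem sum_supp (v : α → ι → ℤ) (μ : α) (f : ι → ℤ) :
    ∑ χ, v μ χ * f χ = ∑ χ ∈ supp v μ, v μ χ * f χ :=
  (sum_subset (subset_univ _) fun χ _ h => by
    rw [show v μ χ = 0 by simpa [mem_supp] using h, zero_mul]).symm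

namespace Fam

variable {v : α → ι → ℤ} {k : ℕ}

theorem unit (hv : Fam v k) (μ : α) (χ : ι) : v μ χ = 0 ∨ v μ χ = 1 ∨ v μ χ = -1 := by
  have hle : v μ χ * v μ χ ≤ k := by
    rw [← hv.norm μ]
    exact single_le_sum (fun i _ => mul_self_nonneg _) (mem_univ χ)
  have hk : (k : ℤ) ≤ 4 := by rcases hv.two_four with h | h <;> simp [h]
  by_contra hne
  push Not at hne
  have h2 : 2 ≤ v μ χ ∨ v μ χ ≤ -2 := by omega
  have h4 : 4 ≤ v μ χ * v μ χ := by rcases h2 with h | h <;> nlinarith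
  have hrest : ∑ i ∈ univ.erase χ, v μ i * v μ i = 0 := by
    have := hv.norm μ
    rw [← add_sum_erase _ _ (mem_univ χ)] at this
    have : 0 ≤ ∑ i ∈ univ.erase χ, v μ i * v μ i := sum_nonneg fun i _ => mul_self_nonneg _
    omega
  have hz : ∀ i ≠ χ, v μ i = 0 := fun i hi =>
    mul_self_eq_zero.1 ((sum_eq_zero_iff_of_nonneg fun i _ => mul_self_nonneg _).1 hrest i
      (mem_erase.2 ⟨hi, mem_univ _⟩))
  obtain ⟨ν, hν⟩ := hv.two μ
  have hi := (hv.inner μ ν).resolve_left (Ne.symm hν)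
  rw [sum_eq_single χ (fun i _ hi => by rw [hz i hi, zero_mul]) (fun h => absurd (mem_univ χ) h)] at hi
  have hsq : v μ χ = 2 ∨ v μ χ = -2 := by
    rcases h2 with h | h
    · left; nlinarith
    · right; nlinarith
  rcases hv.two_four with hk' | hk' <;> subst hk' <;> rcases hsq with h | h <;> rw [h] at hi h4 hle <;>
    omega

theorem sq_of_mem (hv : Fam v k) {μ : α} {χ : ι} (h : χ ∈ supp v μ) : v μ χ * v μ χ = 1 := by
  rcases hv.unit μ χ with e | e | e
  · exact absurd e (mem_supp.1 h)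
  all_goals rw [e]; norm_num

theorem card_supp (hv : Fam v k) (μ : α) : (supp v μ).card = k := by
  have h := hv.norm μ
  rw [sum_supp, sum_congr rfl fun χ hχ => hv.sq_of_mem hχ, sum_const, nsmul_eq_mul, mul_one] at h
  exact_mod_cast h

theorem meet (hv : Fam v k) {μ ν : α} (hne : v μ ≠ v ν) :
    (supp v μ ∩ supp v ν).card + 1 = k ∧ ∀ χ ∈ supp v μ ∩ supp v ν, v μ χ = v ν χ := by
  set I := supp v μ ∩ supp v ν with hI
  have hi := (hv.inner μ ν).resolve_left hne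
  rw [sum_supp, ← sum_subset (inter_subset_left (s₂ := supp v ν)) (fun χ h1 h2 => by
    rw [show v ν χ = 0 by
      by_contra h
      exact h2 (mem_inter.2 ⟨h1, mem_supp.2 h⟩), mul_zero])] at hi
  have hp : ∀ χ ∈ I, v μ χ * v ν χ = if v μ χ = v ν χ then 1 else -1 := by
    intro χ hχ
    obtain ⟨h1, h2⟩ := mem_inter.1 hχ
    rcases hv.unit μ χ with e | e | e <;> rcases hv.unit ν χ with e' | e' | e'
    all_goals first
      | exact absurd e (mem_supp.1 h1)
      | exact absurd e' (mem_supp.1 h2)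
      | (rw [e, e']; norm_num)
  rw [sum_congr rfl hp, sum_ite, sum_const, sum_const, nsmul_eq_mul, nsmul_eq_mul, mul_one] at hi
  have hcard := card_filter_add_card_filter_not (s := I) (fun χ => v μ χ = v ν χ)
  have hle : I.card ≤ k := hv.card_supp μ ▸ card_le_card inter_subset_left
  have hq : (I.filter fun χ => ¬ v μ χ = v ν χ).card = 0 := by
    have : 1 ≤ k := by rcases hv.two_four with h | h <;> omega
    omega
  refine ⟨by omega, fun χ hχ => ?_⟩
  by_contra h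
  exact absurd (card_eq_zero.1 hq ▸ mem_filter.2 ⟨hχ, h⟩) (notMem_empty χ)

theorem sign (hv : Fam v k) {μ ν : α} {χ : ι} (h : χ ∈ supp v μ) (h' : χ ∈ supp v ν) :
    v μ χ = v ν χ := by
  by_cases e : v μ = v ν
  · rw [e]
  · exact (hv.meet e).2 χ (mem_inter.2 ⟨h, h'⟩)

theorem ext_supp (hv : Fam v k) {μ ν : α} (h : supp v μ = supp v ν) : v μ = v ν := funext fun χ => by
  by_cases hχ : χ ∈ supp v μ
  · exact hv.sign hχ (h ▸ hχ)
  · have h1 : v μ χ = 0 := by simpa [mem_supp] using hχ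
    have h2 : v ν χ = 0 := by rw [h] at hχ; simpa [mem_supp] using hχ
    rw [h1, h2]

theorem dichotomy (hv : Fam v k) [Nonempty α] :
    (∃ C : Finset ι, C.card + 1 = k ∧ ∀ μ, C ⊆ supp v μ) ∨
      ∃ U : Finset ι, U.card = k + 1 ∧ (∀ μ, supp v μ ⊆ U) ∧
        ∃ μ₁ μ₂ μ₃, v μ₁ ≠ v μ₂ ∧ v μ₁ ≠ v μ₃ ∧ v μ₂ ≠ v μ₃ := by
  obtain ⟨μ₁⟩ := ‹Nonempty α›
  obtain ⟨μ₂, h21⟩ := hv.two μ₁
  set C := supp v μ₁ ∩ supp v μ₂ with hC
  set U := supp v μ₁ ∪ supp v μ₂ with hU
  have hCc : C.card + 1 = k := (hv.meet (Ne.symm h21)).1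
  have hUc : U.card = k + 1 := by
    have := card_union_add_card_inter (supp v μ₁) (supp v μ₂)
    rw [hv.card_supp, hv.card_supp, ← hC, ← hU] at this
    omega
  have key : ∀ μ, ¬ C ⊆ supp v μ → supp v μ ⊆ U := by
    intro μ hμ
    have h1 : v μ ≠ v μ₁ := fun e => hμ (by
      rw [show supp v μ = supp v μ₁ by simp [supp, e]]; exact inter_subset_left)
    have h2 : v μ ≠ v μ₂ := fun e => hμ (by
      rw [show supp v μ = supp v μ₂ by simp [supp, e]]; exact inter_subset_right)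
    obtain ⟨c, hcC, hc⟩ := not_subset.1 hμ
    -- the part in `U` has all but none
    have hi1 := (hv.meet h1).1
    have hi2 := (hv.meet h2).1
    have hun := card_union_add_card_inter (supp v μ ∩ supp v μ₁) (supp v μ ∩ supp v μ₂)
    have hsub : (supp v μ ∩ supp v μ₁) ∩ (supp v μ ∩ supp v μ₂) ⊆ C.erase c := by
      intro x hx
      simp only [mem_inter] at hx
      exact mem_erase.2 ⟨fun e => hc (e ▸ hx.1.1), mem_inter.2 ⟨hx.1.2, hx.2.2⟩⟩
    have hle := card_le_card hsub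
    rw [card_erase_of_mem hcC] at hle
    have hCpos : 0 < C.card := card_pos.2 ⟨c, hcC⟩
    have hall : (supp v μ ∩ supp v μ₁) ∪ (supp v μ ∩ supp v μ₂) = supp v μ :=
      eq_of_subset_of_card_le (union_subset inter_subset_left inter_subset_left)
        (by rw [hv.card_supp μ]; omega)
    exact hall ▸ union_subset_union inter_subset_right inter_subset_right
  by_cases hall : ∀ μ, C ⊆ supp v μ
  · exact Or.inl ⟨C, hCc, hall⟩
  push Not at hall
  obtain ⟨μ₃, h3⟩ := hall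
  refine Or.inr ⟨U, hUc, fun μ => ?_, μ₁, μ₂, μ₃, Ne.symm h21, fun e => h3 ?_, fun e => h3 ?_⟩
  · by_cases hμ : C ⊆ supp v μ
    · intro x hx
      by_contra hxU
      -- then the support is `C` and one further element
      have hxC : x ∉ C := fun h => hxU (subset_union_left (inter_subset_left h))
      have heq : insert x C = supp v μ := eq_of_subset_of_card_le (insert_subset hx hμ)
        (by rw [hv.card_supp, card_insert_of_notMem hxC]; omega)
      have hne : v μ ≠ v μ₃ := fun e => h3 (by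
        rw [show supp v μ₃ = supp v μ by simp [supp, e]]; exact hμ)
      have hm := (hv.meet hne).1
      obtain ⟨c, hcC, hc⟩ := not_subset.1 h3
      have hx3 : x ∉ supp v μ₃ := fun h => hxU (key μ₃ h3 h)
      have hsub : supp v μ ∩ supp v μ₃ ⊆ C.erase c := by
        intro y hy
        obtain ⟨hy1, hy2⟩ := mem_inter.1 hy
        rw [← heq, mem_insert] at hy1
        exact mem_erase.2 ⟨fun e => hc (e ▸ hy2), hy1.resolve_left fun e => hx3 (e ▸ hy2)⟩
      have := card_le_card hsub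
      rw [card_erase_of_mem hcC] at this
      have : 0 < C.card := card_pos.2 ⟨c, hcC⟩
      omega
    · exact key μ hμ
  · rw [show supp v μ₃ = supp v μ₁ by simp [supp, e]]; exact inter_subset_left
  · rw [show supp v μ₃ = supp v μ₂ by simp [supp, e]]; exact inter_subset_right

/-- Norm two, with integer degrees. -/
theorem star (hv : Fam v 2) [Nonempty α] (d : ι → ℤ) (hd : ∀ μ, ∑ χ, v μ χ * d χ = -1) :
    ∃ (Λ : ι) (a : ℤ) (e : α → ι) (ε : α → ℤ), (a = 1 ∨ a = -1) ∧ (∀ μ, ε μ = 1 ∨ ε μ = -1) ∧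
      (∀ μ, e μ ≠ Λ) ∧
      (∀ μ χ, v μ χ = (if χ = Λ then a else 0) + (if χ = e μ then ε μ else 0)) ∧
      ∀ μ ν, e μ = e ν → v μ = v ν := by
  rcases hv.dichotomy with ⟨C, hC, hsub⟩ | ⟨U, hU, hsub, μ₁, μ₂, μ₃, h12, h13, h23⟩
  · obtain ⟨Λ, rfl⟩ := card_eq_one.1 (by omega : C.card = 1)
    simp only [singleton_subset_iff] at hsub
    have he : ∀ μ, ∃ x, x ≠ Λ ∧ supp v μ = {Λ, x} := fun μ => by
      obtain ⟨x, y, hxy, h⟩ := card_eq_two.1 (hv.card_supp μ)
      have hΛ := hsub μ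
      rw [h, mem_insert, mem_singleton] at hΛ
      rcases hΛ with rfl | rfl
      · exact ⟨y, hxy.symm, h⟩
      · exact ⟨x, hxy, h.trans (pair_comm x Λ)⟩
    choose e he1 he2 using he
    obtain ⟨μ₀⟩ := ‹Nonempty α›
    refine ⟨Λ, v μ₀ Λ, e, fun μ => v μ (e μ), ?_, fun μ => ?_, he1, fun μ χ => ?_, fun μ ν h => ?_⟩
    · exact (hv.unit μ₀ Λ).resolve_left (mem_supp.1 (hsub μ₀))
    · exact (hv.unit μ (e μ)).resolve_left (mem_supp.1 (by simp [he2 μ]))
    · by_cases h1 : χ = Λ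
      · subst h1
        rw [if_pos rfl, if_neg (he1 μ).symm, add_zero, hv.sign (hsub μ) (hsub μ₀)]
      · by_cases h2 : χ = e μ
        · rw [h2, if_neg (he1 μ), if_pos rfl, zero_add]
        · have : χ ∉ supp v μ := by simp [he2 μ, h1, h2]
          simpa [h1, h2, mem_supp] using this
    · exact hv.ext_supp (by rw [he2, he2, h])
  · -- a triangle
    exfalso
    have hx : ∀ μ, ∃ x ∈ U, supp v μ = U.erase x := fun μ => by
      obtain ⟨x, hx⟩ := card_eq_one.1 (by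
        rw [card_sdiff_of_subset (hsub μ), hU, hv.card_supp] : (U \ supp v μ).card = 1)
      have hxU : x ∈ U ∧ x ∉ supp v μ := mem_sdiff.1 (hx ▸ mem_singleton_self x)
      refine ⟨x, hxU.1, eq_of_subset_of_card_le (fun y hy => mem_erase.2
        ⟨fun e => hxU.2 (e ▸ hy), hsub μ hy⟩) ?_⟩
      rw [hv.card_supp, card_erase_of_mem hxU.1, hU]
    obtain ⟨x₁, hx₁, e₁⟩ := hx μ₁
    obtain ⟨x₂, hx₂, e₂⟩ := hx μ₂
    obtain ⟨x₃, hx₃, e₃⟩ := hx μ₃
    have n12 : x₁ ≠ x₂ := fun e => h12 (hv.ext_supp (by rw [e₁, e₂, e]))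
    have n13 : x₁ ≠ x₃ := fun e => h13 (hv.ext_supp (by rw [e₁, e₃, e]))
    have n23 : x₂ ≠ x₃ := fun e => h23 (hv.ext_supp (by rw [e₂, e₃, e]))
    have hUeq : U = {x₁, x₂, x₃} := (eq_of_subset_of_card_le
      (by simp [insert_subset_iff, hx₁, hx₂, hx₃]) (by simp [hU, n12, n13, n23])).symm
    have hsum : ∀ μ a b, supp v μ = {a, b} → a ≠ b → v μ a * d a + v μ b * d b = -1 := fun μ a b h hab => by
      have := hd μ
      rwa [sum_supp, h, sum_pair hab] at this
    have s1 := hsum μ₁ x₂ x₃ (by rw [e₁, hUeq]; simp [n12, n13]) n23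
    have s2 := hsum μ₂ x₁ x₃ (by rw [e₂, hUeq]; ext y; simp; grind) n13
    have s3 := hsum μ₃ x₁ x₂ (by rw [e₃, hUeq]; ext y; simp; grind) n12
    rw [hv.sign (μ := μ₁) (ν := μ₃) (χ := x₂) (by simp [e₁, hx₂, n12.symm]) (by simp [e₃, hx₂, n23]),
      hv.sign (μ := μ₁) (ν := μ₂) (χ := x₃) (by simp [e₁, hx₃, n13.symm]) (by simp [e₂, hx₃, n23.symm])] at s1
    rw [hv.sign (μ := μ₂) (ν := μ₃) (χ := x₁) (by simp [e₂, hx₁, n12]) (by simp [e₃, hx₁, n13])] at s2
    omega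

/-- Two families of norm four with products `-1` and a common entry: the first is a sunflower. -/
theorem sunflower {w : β → ι → ℤ} (hv : Fam v 4) (hw : Fam w 4) [Nonempty α] [Nonempty β]
    (hc : ∀ μ ν, ∑ χ, v μ χ * w ν χ = -1) {Λ : ι} {a : ℤ} (ha : a = 1 ∨ a = -1)
    (hvΛ : ∀ μ, v μ Λ = a) (hwΛ : ∀ ν, w ν Λ = a) :
    ∃ X Y : ι, X ≠ Y ∧ X ≠ Λ ∧ Y ≠ Λ ∧ ∀ μ, X ∈ supp v μ ∧ Y ∈ supp v μ := by
  have ha0 : a ≠ 0 := by omega
  rcases hv.dichotomy with ⟨C, hC, hsub⟩ | ⟨U, hU, hsub, μ₁, μ₂, μ₃, h12, h13, h23⟩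
  · by_cases hΛ : Λ ∈ C
    · obtain ⟨X, Y, hXY, h⟩ := card_eq_two.1 (by rw [card_erase_of_mem hΛ]; omega :
        (C.erase Λ).card = 2)
      have hX : X ∈ C.erase Λ := by simp [h]
      have hY : Y ∈ C.erase Λ := by simp [h]
      exact ⟨X, Y, hXY, (mem_erase.1 hX).1, (mem_erase.1 hY).1,
        fun μ => ⟨hsub μ (mem_erase.1 hX).2, hsub μ (mem_erase.1 hY).2⟩⟩
    · exfalso
      obtain ⟨μ⟩ := ‹Nonempty α›
      obtain ⟨μ', hne⟩ := hv.two μ
      have hs : ∀ ρ, supp v ρ = insert Λ C := fun ρ => (eq_of_subset_of_card_le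
        (insert_subset (mem_supp.2 (by rw [hvΛ]; exact ha0)) (hsub ρ))
        (by rw [hv.card_supp, card_insert_of_notMem hΛ]; omega)).symm
      exact hne (hv.ext_supp (by rw [hs, hs]))
  exfalso
  have hΛU : ∀ μ, Λ ∈ supp v μ := fun μ => mem_supp.2 (by rw [hvΛ]; exact ha0)
  have hx : ∀ μ, ∃ x ∈ U, supp v μ = U.erase x := fun μ => by
    obtain ⟨x, hx⟩ := card_eq_one.1 (by
      rw [card_sdiff_of_subset (hsub μ), hU, hv.card_supp] : (U \ supp v μ).card = 1)
    have hxU : x ∈ U ∧ x ∉ supp v μ := mem_sdiff.1 (hx ▸ mem_singleton_self x)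
    refine ⟨x, hxU.1, eq_of_subset_of_card_le (fun y hy => mem_erase.2
      ⟨fun e => hxU.2 (e ▸ hy), hsub μ hy⟩) ?_⟩
    rw [hv.card_supp, card_erase_of_mem hxU.1, hU]
  obtain ⟨x₁, hx₁, e₁⟩ := hx μ₁
  obtain ⟨x₂, hx₂, e₂⟩ := hx μ₂
  obtain ⟨x₃, hx₃, e₃⟩ := hx μ₃
  have n12 : x₁ ≠ x₂ := fun e => h12 (hv.ext_supp (by rw [e₁, e₂, e]))
  have n13 : x₁ ≠ x₃ := fun e => h13 (hv.ext_supp (by rw [e₁, e₃, e]))
  have n23 : x₂ ≠ x₃ := fun e => h23 (hv.ext_supp (by rw [e₂, e₃, e]))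
  have l1 : x₁ ≠ Λ := fun e => by have := hΛU μ₁; simp [e₁, e] at this
  have l2 : x₂ ≠ Λ := fun e => by have := hΛU μ₂; simp [e₂, e] at this
  have l3 : x₃ ≠ Λ := fun e => by have := hΛU μ₃; simp [e₃, e] at this
  obtain ⟨y, hy⟩ := card_eq_one.1 (show ((((U.erase Λ).erase x₁).erase x₂).erase x₃).card = 1 by
    rw [card_erase_of_mem, card_erase_of_mem, card_erase_of_mem, card_erase_of_mem, hU]
    all_goals first
      | exact hsub μ₁ (hΛU μ₁)
      | simp [hx₁, hx₂, hx₃, n12.symm, n13.symm, n23.symm, l1, l2, l3])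
  have hyU : y ∈ (((U.erase Λ).erase x₁).erase x₂).erase x₃ := by simp [hy]
  simp only [mem_erase] at hyU
  obtain ⟨y3, y2, y1, yΛ, hyU⟩ := hyU
  have hUeq : U = {Λ, x₁, x₂, x₃, y} := (eq_of_subset_of_card_le
    (by simp [insert_subset_iff, hx₁, hx₂, hx₃, hyU, hsub μ₁ (hΛU μ₁)])
    (by simp [hU, l1.symm, l2.symm, l3.symm, yΛ.symm, n12, n13, n23, y1.symm, y2.symm, y3.symm])).symm
  -- the entries of the second family
  have hform : ∀ ν, supp w ν = {Λ, x₁, x₂, x₃} := by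
    intro ν
    have hsum : ∀ μ x, supp v μ = U.erase x →
        ∑ χ ∈ U.erase x, v μ χ * w ν χ = -1 := fun μ x h => by rw [← h, ← sum_supp, hc]
    set σ : ι → ℤ := fun χ => if χ ∈ supp v μ₁ then v μ₁ χ else v μ₂ χ with hσ
    have hσv : ∀ μ χ, χ ∈ supp v μ → v μ χ = σ χ := fun μ χ h => by
      simp only [hσ]
      split_ifs with h'
      · exact hv.sign h h'
      · refine hv.sign h ?_
        rw [e₂, mem_erase]
        refine ⟨fun e => ?_, hsub μ h⟩
        rw [e₁, mem_erase] at h'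
        exact h' ⟨e ▸ n12.symm, hsub μ h⟩
    have key : ∀ μ x, x ∈ U → supp v μ = U.erase x → ∑ χ ∈ U, σ χ * w ν χ - σ x * w ν x = -1 :=
      fun μ x hxU h => by
        have := hsum μ x h
        rw [sum_congr rfl (g := fun χ => σ χ * w ν χ) fun χ hχ => by rw [hσv μ χ (h ▸ hχ)]] at this
        have hs := sum_erase_add U (fun χ => σ χ * w ν χ) hxU
        linarith
    have k1 := key μ₁ x₁ hx₁ e₁
    have k2 := key μ₂ x₂ hx₂ e₂
    have k3 := key μ₃ x₃ hx₃ e₃
    rw [hUeq, sum_insert (by simp [l1.symm, l2.symm, l3.symm, yΛ.symm]),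
      sum_insert (by simp [n12, n13, y1.symm]), sum_insert (by simp [n23, y2.symm]),
      sum_pair y3.symm] at k1 k2 k3
    have hσΛ : σ Λ * w ν Λ = 1 := by
      rw [← hσv μ₁ Λ (hΛU μ₁), hvΛ, hwΛ]; rcases ha with rfl | rfl <;> norm_num
    have hu : ∀ χ ∈ U, σ χ * w ν χ = 0 ∧ w ν χ = 0 ∨
        (σ χ * w ν χ = 1 ∨ σ χ * w ν χ = -1) ∧ w ν χ ≠ 0 := fun χ hχ => by
      have hs : σ χ = 1 ∨ σ χ = -1 := by
        by_cases h : χ ∈ supp v μ₁
        · rw [← hσv μ₁ χ h]; exact (hv.unit μ₁ χ).resolve_left (mem_supp.1 h)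
        · have h' : χ ∈ supp v μ₂ := by
            rw [e₂, mem_erase]; rw [e₁, mem_erase] at h
            exact ⟨fun e => h ⟨e ▸ n12.symm, hχ⟩, hχ⟩
          rw [← hσv μ₂ χ h']; exact (hv.unit μ₂ χ).resolve_left (mem_supp.1 h')
      rcases hw.unit ν χ with e | e | e <;> rcases hs with e' | e' <;> simp [e, e']
    have u1 := hu x₁ hx₁
    have u2 := hu x₂ hx₂
    have u3 := hu x₃ hx₃
    have uy := hu y hyU
    refine (eq_of_subset_of_card_le ?_ (by
      rw [hw.card_supp]; simp [l1.symm, l2.symm, l3.symm, n12, n13, n23])).symm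
    simp only [insert_subset_iff, singleton_subset_iff, mem_supp, hwΛ]
    exact ⟨ha0, by omega, by omega, by omega⟩
  obtain ⟨ν⟩ := ‹Nonempty β›
  obtain ⟨ν', hne⟩ := hw.two ν
  exact hne (hw.ext_supp (by rw [hform, hform]))

/-- The cores are opposite and the rest is disjoint. -/
theorem opposite [Fintype α] [Fintype β] {w : β → ι → ℤ} (hv : Fam v 4) (hw : Fam w 4)
    [Nonempty α] [Nonempty β]
    (hc : ∀ μ ν, ∑ χ, v μ χ * w ν χ = -1) {Λ : ι} {a : ℤ} (ha : a = 1 ∨ a = -1)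
    (hvΛ : ∀ μ, v μ Λ = a) (hwΛ : ∀ ν, w ν Λ = a)
    (hbig : 2 < (univ.image v).card ∨ 2 < (univ.image w).card) :
    ∃ (X Y : ι) (x y : ℤ) (e : α → ι) (f : β → ι) (ε : α → ℤ) (η : β → ℤ),
      (X ≠ Y ∧ X ≠ Λ ∧ Y ≠ Λ) ∧ (x = 1 ∨ x = -1) ∧ (y = 1 ∨ y = -1) ∧
      (∀ μ, e μ ≠ Λ ∧ e μ ≠ X ∧ e μ ≠ Y) ∧ (∀ ν, f ν ≠ Λ ∧ f ν ≠ X ∧ f ν ≠ Y) ∧
      (∀ μ, ε μ = 1 ∨ ε μ = -1) ∧ (∀ ν, η ν = 1 ∨ η ν = -1) ∧
      (∀ μ χ, v μ χ = (if χ = Λ then a else 0) + (if χ = X then x else 0) + (if χ = Y then y else 0)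
        + (if χ = e μ then ε μ else 0)) ∧
      (∀ ν χ, w ν χ = (if χ = Λ then a else 0) + (if χ = X then -x else 0) + (if χ = Y then -y else 0)
        + (if χ = f ν then η ν else 0)) ∧
      (∀ μ ν, e μ ≠ f ν) ∧ (∀ μ μ', e μ = e μ' → v μ = v μ') ∧ (∀ ν ν', f ν = f ν' → w ν = w ν') := by
  have ha0 : a ≠ 0 := by omega
  obtain ⟨X, Y, hXY, hXΛ, hYΛ, hXY'⟩ := sunflower hv hw hc ha hvΛ hwΛ
  obtain ⟨μ₀⟩ := ‹Nonempty α›
  obtain ⟨x, hxdef⟩ : ∃ x, v μ₀ X = x := ⟨_, rfl⟩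
  obtain ⟨y, hydef⟩ : ∃ y, v μ₀ Y = y := ⟨_, rfl⟩
  have hx : x = 1 ∨ x = -1 := hxdef ▸ (hv.unit μ₀ X).resolve_left (mem_supp.1 (hXY' μ₀).1)
  have hy : y = 1 ∨ y = -1 := hydef ▸ (hv.unit μ₀ Y).resolve_left (mem_supp.1 (hXY' μ₀).2)
  have hΛ : ∀ μ, Λ ∈ supp v μ := fun μ => mem_supp.2 (by rw [hvΛ]; exact ha0)
  have hes : ∀ μ, ∃ z, (z ≠ Λ ∧ z ≠ X ∧ z ≠ Y) ∧ supp v μ = {Λ, X, Y, z} := fun μ => by
    obtain ⟨z, hz⟩ := card_eq_one.1 (show (((supp v μ).erase Λ).erase X |>.erase Y).card = 1 by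
      rw [card_erase_of_mem, card_erase_of_mem, card_erase_of_mem (hΛ μ), hv.card_supp]
      all_goals simp [hXY.symm, hXΛ, hYΛ, (hXY' μ).1, (hXY' μ).2])
    have hz' : z ∈ (((supp v μ).erase Λ).erase X).erase Y := by simp [hz]
    simp only [mem_erase] at hz'
    refine ⟨z, ⟨hz'.2.2.1, hz'.2.1, hz'.1⟩, (eq_of_subset_of_card_le ?_ ?_).symm⟩
    · simp [insert_subset_iff, hΛ μ, (hXY' μ).1, (hXY' μ).2, hz'.2.2.2]
    · rw [hv.card_supp]
      simp [hXΛ.symm, hYΛ.symm, hXY, hz'.2.2.1.symm, hz'.2.1.symm, hz'.1.symm]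
  choose e he1 he2 using hes
  have hve : ∀ μ, v μ (e μ) = 1 ∨ v μ (e μ) = -1 :=
    fun μ => (hv.unit μ (e μ)).resolve_left (mem_supp.1 (by simp [he2 μ]))
  have hform : ∀ μ χ, v μ χ = (if χ = Λ then a else 0) + (if χ = X then x else 0) +
      (if χ = Y then y else 0) + (if χ = e μ then v μ (e μ) else 0) := fun μ χ => by
    obtain ⟨n1, n2, n3⟩ := he1 μ
    by_cases h1 : χ = Λ
    · rw [h1]; simp [hvΛ, hXΛ.symm, hYΛ.symm, n1.symm]
    by_cases h2 : χ = X
    · rw [h2]; simpa [hXΛ, hXY, n2.symm] using (hv.sign (hXY' μ).1 (hXY' μ₀).1).trans hxdef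
    by_cases h3 : χ = Y
    · rw [h3]; simpa [hYΛ, hXY.symm, n3.symm] using (hv.sign (hXY' μ).2 (hXY' μ₀).2).trans hydef
    by_cases h4 : χ = e μ
    · rw [h4]; simp [n1, n2, n3]
    · have : χ ∉ supp v μ := by simp [he2 μ, h1, h2, h3, h4]
      simpa [h1, h2, h3, h4, mem_supp] using this
  have heq : ∀ μ μ', e μ = e μ' → v μ = v μ' := fun μ μ' h => hv.ext_supp (by rw [he2, he2, h])
  have himg : (univ.image v).card ≤ (univ.image e).card := by
    refine card_le_card_of_surjOn (fun z => v (if h : ∃ μ, e μ = z then h.choose else μ₀)) ?_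
    intro f hf
    simp only [coe_image, Set.mem_image, mem_coe] at hf ⊢
    obtain ⟨μ, -, rfl⟩ := hf
    refine ⟨e μ, ⟨μ, mem_univ _, rfl⟩, ?_⟩
    have h : ∃ μ', e μ' = e μ := ⟨μ, rfl⟩
    rw [dif_pos h]
    exact heq _ _ h.choose_spec
  -- the second family
  have hpoint : ∀ ν μ, a * a + x * w ν X + y * w ν Y + v μ (e μ) * w ν (e μ) = -1 := fun ν μ => by
    rw [← hc μ ν, sum_supp, he2 μ]
    obtain ⟨n1, n2, n3⟩ := he1 μ
    rw [sum_insert (by simp [hXΛ.symm, hYΛ.symm, n1.symm]), sum_insert (by simp [hXY, n2.symm]),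
      sum_pair n3.symm, hvΛ, hwΛ, hv.sign (hXY' μ).1 (hXY' μ₀).1, hv.sign (hXY' μ).2 (hXY' μ₀).2, hxdef, hydef]
    ring
  have haa : a * a = 1 := by rcases ha with rfl | rfl <;> norm_num
  have hcases : ∀ ν, (w ν X = -x ∧ w ν Y = -y ∧ ∀ μ, w ν (e μ) = 0) ∨
      ((w ν X = 0 ∧ w ν Y = -y ∨ w ν X = -x ∧ w ν Y = 0) ∧ ∀ μ, w ν (e μ) = -v μ (e μ)) := by
    intro ν
    have hb := fun μ => hpoint ν μ
    simp only [haa] at hb
    rcases hw.unit ν X with wX | wX | wX <;> rcases hw.unit ν Y with wY | wY | wY <;>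
      rcases hx with hx' | hx' <;> rcases hy with hy' | hy' <;>
      simp only [wX, wY, hx', hy'] at hb ⊢ <;>
      first
        | (exfalso; have := hb μ₀; rcases hve μ₀ with e' | e' <;> rcases hw.unit ν (e μ₀) with e'' | e'' | e'' <;>
            rw [e', e''] at this <;> omega)
        | (refine Or.inl ⟨by norm_num, by norm_num, fun μ => ?_⟩
           have := hb μ
           rcases hve μ with e' | e' <;> rw [e'] at this <;> omega)
        | (refine Or.inr ⟨by norm_num, fun μ => ?_⟩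
           have := hb μ
           rcases hve μ with e' | e' <;> rw [e'] at this ⊢ <;> omega)
  have hgood : ∀ ν, w ν X = -x ∧ w ν Y = -y ∧ ∀ μ, w ν (e μ) = 0 := by
    by_contra hbad
    push Not at hbad
    obtain ⟨ν₁, hν₁⟩ := hbad
    obtain ⟨hxy₁, he₁⟩ := (hcases ν₁).resolve_left fun h => by
      obtain ⟨μ, hμ⟩ := hν₁ h.1 h.2.1
      exact hμ (h.2.2 μ)
    have hsec : ∀ ν, (w ν X = 0 ∧ w ν Y = -y ∨ w ν X = -x ∧ w ν Y = 0) →
        (∀ μ, w ν (e μ) = -v μ (e μ)) → (univ.image e).card ≤ 2 ∧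
          ∀ z, z ∈ supp w ν → z = Λ ∨ z = X ∨ z = Y ∨ z ∈ univ.image e := by
      intro ν hxy he
      obtain ⟨Z, hZ, hZ'⟩ : ∃ Z, (Z = X ∨ Z = Y) ∧ Z ∈ supp w ν := by
        rcases hxy with h | h
        · exact ⟨Y, Or.inr rfl, mem_supp.2 (by rw [h.2]; rcases hy with e' | e' <;> simp [e'])⟩
        · exact ⟨X, Or.inl rfl, mem_supp.2 (by rw [h.1]; rcases hx with e' | e' <;> simp [e'])⟩
      have hsub : insert Λ (insert Z (univ.image e)) ⊆ supp w ν := by
        simp only [insert_subset_iff]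
        refine ⟨mem_supp.2 (by rw [hwΛ]; exact ha0), hZ', fun z hz => ?_⟩
        obtain ⟨μ, -, rfl⟩ := mem_image.1 hz
        exact mem_supp.2 (by rw [he μ]; have := hve μ; omega)
      have hZe : Z ∉ univ.image e := fun h => by
        obtain ⟨μ, -, hμ⟩ := mem_image.1 h
        rcases hZ with rfl | rfl
        · exact (he1 μ).2.1 hμ
        · exact (he1 μ).2.2 hμ
      have hΛe : Λ ∉ insert Z (univ.image e) := fun h => by
        rcases mem_insert.1 h with h | h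
        · rcases hZ with rfl | rfl
          · exact hXΛ h.symm
          · exact hYΛ h.symm
        · obtain ⟨μ, -, hμ⟩ := mem_image.1 h
          exact (he1 μ).1 hμ
      have hcard := card_le_card hsub
      rw [card_insert_of_notMem hΛe, card_insert_of_notMem hZe, hw.card_supp] at hcard
      refine ⟨by omega, fun z hz => ?_⟩
      obtain ⟨μ', hμ'⟩ := hv.two μ₀
      have h2 : 2 ≤ (univ.image e).card := by
        refine one_lt_card.2 ⟨e μ', mem_image_of_mem _ (mem_univ _), e μ₀,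
          mem_image_of_mem _ (mem_univ _), fun h => hμ' (heq _ _ h)⟩
      have := eq_of_subset_of_card_le hsub (by
        rw [card_insert_of_notMem hΛe, card_insert_of_notMem hZe, hw.card_supp]; omega)
      rw [← this] at hz
      simp only [mem_insert] at hz
      rcases hz with h | h | h
      · exact Or.inl h
      · rcases hZ with rfl | rfl
        · exact Or.inr (Or.inl h)
        · exact Or.inr (Or.inr (Or.inl h))
      · exact Or.inr (Or.inr (Or.inr h))
    obtain ⟨hcard1, hs1⟩ := hsec ν₁ hxy₁ he₁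
    have hall : ∀ ν, (w ν X = 0 ∧ w ν Y = -y ∨ w ν X = -x ∧ w ν Y = 0) ∧
        ∀ μ, w ν (e μ) = -v μ (e μ) := by
      intro ν
      refine (hcases ν).resolve_left fun ⟨hX, hY, he⟩ => ?_
      have hne : w ν₁ ≠ w ν := fun h => by
        have h0 := congrFun h (e μ₀)
        rw [he₁, he] at h0
        have := hve μ₀
        omega
      have hm := (hw.meet hne).1
      obtain ⟨Z, hZ, hZ'⟩ : ∃ Z, (Z = X ∨ Z = Y) ∧ w ν₁ Z = 0 := by
        rcases hxy₁ with h | h
        exacts [⟨X, Or.inl rfl, h.1⟩, ⟨Y, Or.inr rfl, h.2⟩]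
      have hsub : supp w ν₁ ∩ supp w ν ⊆ ({Λ, X, Y} : Finset ι).erase Z := by
        intro z hz
        obtain ⟨h1, h2⟩ := mem_inter.1 hz
        refine mem_erase.2 ⟨fun e' => mem_supp.1 h1 (e' ▸ hZ'), ?_⟩
        rcases hs1 z h1 with h | h | h | h
        · simp [h]
        · simp [h]
        · simp [h]
        · obtain ⟨μ, -, rfl⟩ := mem_image.1 h
          exact absurd (he μ) (mem_supp.1 h2)
      have := card_le_card hsub
      rw [card_erase_of_mem (by rcases hZ with rfl | rfl <;> simp), card_insert_of_notMem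
        (by simp [hXΛ.symm, hYΛ.symm]), card_pair hXY] at this
      omega
    have hw2 : (univ.image w).card ≤ 2 := by
      refine le_trans (card_le_card_of_injOn (fun f => f X) (fun f hf => ?_) ?_)
        (card_le_two (a := (0 : ℤ)) (b := -x))
      · obtain ⟨ν, -, rfl⟩ := mem_image.1 hf
        rcases (hall ν).1 with h | h <;> simp [h.1]
      · intro f hf g hg hfg
        obtain ⟨ν, -, rfl⟩ := mem_image.1 hf
        obtain ⟨ν', -, rfl⟩ := mem_image.1 hg
        simp only at hfg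
        have hY : w ν Y = w ν' Y := by
          rcases (hall ν).1 with h | h <;> rcases (hall ν').1 with h' | h' <;>
            first | (rw [h.2, h'.2]; done) |
              (exfalso; rw [h.1, h'.1] at hfg; rcases hx with e' | e' <;> simp [e'] at hfg)
        refine hw.ext_supp (Finset.ext fun z => ?_)
        have hzz : ∀ ρ, z ∈ supp w ρ → z = Λ ∨ z = X ∨ z = Y ∨ z ∈ univ.image e :=
          fun ρ h => (hsec ρ (hall ρ).1 (hall ρ).2).2 z h
        have hcomm : z = Λ ∨ z = X ∨ z = Y ∨ z ∈ univ.image e → w ν z = w ν' z := by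
          rintro (rfl | rfl | rfl | h)
          · rw [hwΛ, hwΛ]
          · exact hfg
          · exact hY
          · obtain ⟨μ, -, rfl⟩ := mem_image.1 h
            rw [(hall ν).2, (hall ν').2]
        constructor
        · intro h
          rw [mem_supp, ← hcomm (hzz _ h)]
          exact mem_supp.1 h
        · intro h
          rw [mem_supp, hcomm (hzz _ h)]
          exact mem_supp.1 h
    rcases hbig with h | h
    · exact absurd (himg.trans hcard1) (not_le.2 h)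
    · exact absurd hw2 (not_le.2 h)
  have hfs : ∀ ν, ∃ z, (z ≠ Λ ∧ z ≠ X ∧ z ≠ Y) ∧ supp w ν = {Λ, X, Y, z} := fun ν => by
    have hX : X ∈ supp w ν := mem_supp.2 (by rw [(hgood ν).1]; rcases hx with e' | e' <;> simp [e'])
    have hY : Y ∈ supp w ν := mem_supp.2 (by rw [(hgood ν).2.1]; rcases hy with e' | e' <;> simp [e'])
    have hL : Λ ∈ supp w ν := mem_supp.2 (by rw [hwΛ]; exact ha0)
    obtain ⟨z, hz⟩ := card_eq_one.1 (show (((supp w ν).erase Λ).erase X |>.erase Y).card = 1 by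
      rw [card_erase_of_mem, card_erase_of_mem, card_erase_of_mem hL, hw.card_supp]
      all_goals simp [hXY.symm, hXΛ, hYΛ, hX, hY])
    have hz' : z ∈ (((supp w ν).erase Λ).erase X).erase Y := by simp [hz]
    simp only [mem_erase] at hz'
    refine ⟨z, ⟨hz'.2.2.1, hz'.2.1, hz'.1⟩, (eq_of_subset_of_card_le ?_ ?_).symm⟩
    · simp [insert_subset_iff, hL, hX, hY, hz'.2.2.2]
    · rw [hw.card_supp]
      simp [hXΛ.symm, hYΛ.symm, hXY, hz'.2.2.1.symm, hz'.2.1.symm, hz'.1.symm]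
  choose f hf1 hf2 using hfs
  refine ⟨X, Y, x, y, e, f, fun μ => v μ (e μ), fun ν => w ν (f ν), ⟨hXY, hXΛ, hYΛ⟩, hx, hy, he1, hf1,
    hve, fun ν => (hw.unit ν (f ν)).resolve_left (mem_supp.1 (by simp [hf2 ν])), hform, fun ν χ => ?_,
    fun μ ν h => ?_, heq, fun ν ν' h => hw.ext_supp (by rw [hf2, hf2, h])⟩
  · obtain ⟨n1, n2, n3⟩ := hf1 ν
    by_cases h1 : χ = Λ
    · rw [h1]; simp [hwΛ, hXΛ.symm, hYΛ.symm, n1.symm]
    by_cases h2 : χ = X
    · rw [h2]; simpa [hXΛ, hXY, n2.symm] using (hgood ν).1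
    by_cases h3 : χ = Y
    · rw [h3]; simpa [hYΛ, hXY.symm, n3.symm] using (hgood ν).2.1
    by_cases h4 : χ = f ν
    · rw [h4]; simp [n1, n2, n3]
    · have : χ ∉ supp w ν := by simp [hf2 ν, h1, h2, h3, h4]
      simpa [h1, h2, h3, h4, mem_supp] using this
  · have := (hgood ν).2.2 μ
    exact absurd this (mem_supp.1 (by simp [hf2 ν, h]))

theorem card_image [Fintype α] [DecidableEq α] {γ : Type*} [DecidableEq γ] (g : α → γ) (n : ℕ)
    (h : ∀ μ, (univ.filter fun ν => g ν = g μ).card = n) :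
    (univ.image g).card * n = Fintype.card α := by
  rw [← card_univ, card_eq_sum_card_fiberwise (f := g) (t := univ.image g)
    (fun μ _ => mem_image_of_mem _ (mem_univ μ)), sum_const_nat (m := n)]
  intro c hc
  obtain ⟨μ, -, rfl⟩ := mem_image.1 hc
  exact h μ

end Fam

end Cfsg.Agent.SelfCent
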