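/-
Suzuki groups from three strongly self-centralising subgroups.

* `odd_part`      : no further odd prime divides the order
* `psl_two_false`, `psl_three_false` : the other simple CIT groups have other orders
* `isoSuzuki`     : the theorem
-/
import Cfsg.Agent.Lib.CITClass.Main
import Cfsg.Agent.Lib.GLOrder.Basic
import Cfsg.Agent.Lib.SelfCentSuzuki.Classes

set_option autoImplicit false
set_option linter.unusedSectionVars false
set_option linter.style.haveILetI false

open Cfsg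

namespace Cfsg.Agent.SelfCent

variable {G : Type*} [Group G] [Fintype G] [IsSimpleGroup G] {A₁ A₂ A₃ : Subgroup G}

namespace Ctx

theorem not_two {A : Subgroup G} {w n : ℕ} (hA : SSC A w) (hn : n = Nat.card A) : ¬ 2 ∣ n :=
  hn ▸ hA.odd.not_two_dvd_nat

/-- No other odd prime divides the order. -/
theorem odd_part (H : Ctx A₁ A₂ A₃) {u : G} (hu : Inv' u) (hk : Nat.card (ConjClasses G) = H.T + 4)
    (h11 : 11 ≤ Nat.card A₁) (hA23 : Nat.card A₂ < Nat.card A₃)
    (hC : IsPGroup 2 (Subgroup.centralizer ({u} : Set G)))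
    (hab : ∀ r : ℕ, r.Prime → r ≠ 2 → ¬ r ∣ Nat.card A₁ * Nat.card A₂ * Nat.card A₃ →
      ∀ P : Sylow r G, IsMulCommutative ↥(P : Subgroup G)) {r : ℕ} (hr : r.Prime) (hr2 : r ≠ 2)
    (hrN : ¬ r ∣ Nat.card A₁ * Nat.card A₂ * Nat.card A₃) : ¬ r ∣ Nat.card G := by
  classical
  haveI : Fintype (IrrCharacter G) := Fintype.ofFinite _
  haveI : Fintype (Irr₀ G) := Fintype.ofFinite _
  intro hrG
  haveI := Fact.mk hr
  have nine₂ := H.h₂.nine H.five₂
  have nine₃ := H.h₃.nine H.five₃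
  have hrn : ∀ n, n = Nat.card A₁ ∨ n = Nat.card A₂ ∨ n = Nat.card A₃ → ¬ r ∣ n := by
    rintro n (rfl | rfl | rfl) h
    exacts [hrN ((h.mul_right _).mul_right _), hrN ((h.mul_left _).mul_right _), hrN (h.mul_left _)]
  obtain ⟨σ, hσ⟩ := exists_four H.h₂
  have hu2 : orderOf u = 2 := orderOf_eq_prime (by rw [pow_two, hu.1]) hu.2
  obtain ⟨y, hy⟩ := exists_prime_orderOf_dvd_card' r hrG
  have hy1 : y ≠ 1 := fun e => by rw [e, orderOf_one] at hy; exact hr.ne_one hy.symm
  have hconj : ∀ {a b : G}, IsConj a b → orderOf a = orderOf b := fun {a b} h => by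
    obtain ⟨g, rfl⟩ := isConj_iff.1 h
    exact (orderOf_injective (MulAut.conj g).toMonoidHom (MulAut.conj g).injective a).symm
  have hσ1 : σ ≠ 1 := fun e => by rw [e, orderOf_one] at hσ; omega
  have hσK : ConjClasses.mk σ ∉ H.known u := by
    refine H.not_known hσ1 (fun e => by have := hconj e; omega) fun n hn hd => ?_
    have h2 : 2 ∣ n := (Dvd.intro 2 rfl : 2 ∣ 4).trans (hσ ▸ hd)
    rcases hn with h | h | h
    exacts [not_two H.h₁ h h2, not_two H.h₂ h h2, not_two H.h₃ h h2]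
  have hyK : ConjClasses.mk y ∉ H.known u :=
    H.not_known hy1 (fun e => by have := hconj e; omega) fun n hn hd => hrn n hn (hy ▸ hd)
  have hσy : ¬ IsConj σ y := fun e => by
    have := hconj e
    rw [hσ, hy] at this
    rw [← this] at hr
    norm_num at hr
  have huniv := H.two_classes hu hk hσK hyK hσy
  -- every element
  have hcases : ∀ x : G, x = 1 ∨ IsConj u x ∨ IsConj σ x ∨ IsConj y x ∨
      ∃ (A : Subgroup G) (w : ℕ) (g : G), SSC A w ∧
        (Nat.card A = Nat.card A₁ ∨ Nat.card A = Nat.card A₂ ∨ Nat.card A = Nat.card A₃) ∧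
        g * x * g⁻¹ ∈ A ∧ g * x * g⁻¹ ≠ 1 := by
    intro x
    have h := Finset.mem_univ (ConjClasses.mk x)
    rw [huniv, known] at h
    simp only [Finset.mem_insert, Finset.mem_union, Finset.mem_singleton] at h
    have hA : ∀ (A : Subgroup G) (w : ℕ), SSC A w →
        (Nat.card A = Nat.card A₁ ∨ Nat.card A = Nat.card A₂ ∨ Nat.card A = Nat.card A₃) →
        ConjClasses.mk x ∈ classesOf A → ∃ (A : Subgroup G) (w : ℕ) (g : G), SSC A w ∧
          (Nat.card A = Nat.card A₁ ∨ Nat.card A = Nat.card A₂ ∨ Nat.card A = Nat.card A₃) ∧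
          g * x * g⁻¹ ∈ A ∧ g * x * g⁻¹ ≠ 1 := fun A w hA hc hm => by
      obtain ⟨a, ha, ha1, e⟩ := mem_classesOf.1 hm
      obtain ⟨g, hg⟩ := isConj_iff.1 (ConjClasses.mk_eq_mk_iff_isConj.1 e).symm
      exact ⟨A, w, g, hA, hc, hg ▸ ha, hg ▸ ha1⟩
    rcases h with h | h | (h | h) | (h | h) | h
    · exact Or.inr (Or.inr (Or.inl (ConjClasses.mk_eq_mk_iff_isConj.1 h).symm))
    · exact Or.inr (Or.inr (Or.inr (Or.inl (ConjClasses.mk_eq_mk_iff_isConj.1 h).symm)))
    · exact Or.inl (by simpa using ConjClasses.mk_eq_mk_iff_isConj.1 h)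
    · exact Or.inr (Or.inl (ConjClasses.mk_eq_mk_iff_isConj.1 h).symm)
    · exact Or.inr (Or.inr (Or.inr (Or.inr (hA _ _ H.h₁ (Or.inl rfl) h))))
    · exact Or.inr (Or.inr (Or.inr (Or.inr (hA _ _ H.h₂ (Or.inr (Or.inl rfl)) h))))
    · exact Or.inr (Or.inr (Or.inr (Or.inr (hA _ _ H.h₃ (Or.inr (Or.inr rfl)) h))))
  have horder : ∀ x : G, orderOf x = r → IsConj y x := fun x hx => by
    rcases hcases x with h | h | h | h | ⟨A, w, g, hA, hc, hm, -⟩
    · rw [h, orderOf_one] at hx; exact absurd hx.symm hr.ne_one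
    · have := hconj h; omega
    · have h4 := hconj h
      rw [hσ, hx] at h4
      rw [← h4] at hr
      norm_num at hr
    · exact h
    · refine absurd (?_ : r ∣ Nat.card A) (hrn _ hc)
      rw [← hx, show orderOf x = orderOf (g * x * g⁻¹) from
        (orderOf_injective (MulAut.conj g).toMonoidHom (MulAut.conj g).injective x).symm]
      exact Subgroup.orderOf_dvd_natCard A hm
  -- an element of order `r` commutes with no involution
  have hrt : ∀ {b t : G}, orderOf b = r → Inv' t → b * t ≠ t * b := fun {b t} hb ht hc => by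
    obtain ⟨g, hg⟩ := isConj_iff.1 (H.isConj_inv ht hu)
    have hm : g * b * g⁻¹ ∈ Subgroup.centralizer ({u} : Set G) := by
      rw [Subgroup.mem_centralizer_singleton_iff, ← hg, conj_mul, conj_mul, hc]
    obtain ⟨m, hm'⟩ := hC ⟨_, hm⟩
    have hd : orderOf (g * b * g⁻¹) ∣ 2 ^ m :=
      orderOf_dvd_of_pow_eq_one (congrArg Subtype.val hm')
    rw [show orderOf (g * b * g⁻¹) = orderOf b from
      orderOf_injective (MulAut.conj g).toMonoidHom (MulAut.conj g).injective b, hb] at hd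
    exact hr2 ((Nat.prime_dvd_prime_iff_eq hr Nat.prime_two).1 (hr.dvd_of_dvd_pow hd))
  set R := Subgroup.centralizer ({y} : Set G) with hR
  have hRr : ∀ b ∈ R, b ≠ 1 → orderOf b = r := by
    intro b hb hb1
    have hc : b * y = y * b := Subgroup.mem_centralizer_singleton_iff.1 hb
    rcases hcases b with h | h | h | h | ⟨A, w, g, hA, hc', hm, hm1⟩
    · exact absurd h hb1
    · exact absurd hc.symm (hrt hy (hu.of_isConj h))
    · have h4 : orderOf b = 4 := (hconj h).symm.trans hσ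
      have ht : Inv' (b * b) := by
        refine ⟨?_, fun e => ?_⟩
        · have := pow_orderOf_eq_one b
          rw [h4] at this
          simpa [pow_succ, mul_assoc] using this
        · have := Nat.le_of_dvd two_pos (orderOf_dvd_of_pow_eq_one (x := b) (n := 2) (by rw [pow_two, e]))
          omega
      exact absurd (by rw [← mul_assoc, ← hc, mul_assoc b y, ← hc, mul_assoc] : y * (b * b) = b * b * y)
        (hrt hy ht)
    · exact (hconj h).symm.trans hy
    · refine absurd (?_ : r ∣ Nat.card A) (hrn _ hc')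
      have hmem := hA.mem_of_commute hm hm1 (g := g * y * g⁻¹) (by rw [conj_mul, conj_mul, hc])
      rw [← hy, show orderOf y = orderOf (g * y * g⁻¹) from
        (orderOf_injective (MulAut.conj g).toMonoidHom (MulAut.conj g).injective y).symm]
      exact Subgroup.orderOf_dvd_natCard A hmem
  have hyR : y ∈ R := Subgroup.mem_centralizer_singleton_iff.2 rfl
  have hRp : IsPGroup r R := fun b => by
    refine ⟨1, ?_⟩
    rw [pow_one]
    by_cases h : (b : G) = 1
    · rw [show b = 1 from Subtype.ext h, one_pow]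
    · exact Subtype.ext (by simpa [hRr _ b.2 h] using pow_orderOf_eq_one (b : G))
  have hRc : ∀ a ∈ R, ∀ b ∈ R, a * b = b * a := by
    obtain ⟨P, hP⟩ := hRp.exists_le_sylow
    have hPc := hab r hr hr2 hrN P
    exact fun a ha b hb => congrArg Subtype.val (hPc.is_comm.comm ⟨a, hP ha⟩ ⟨b, hP hb⟩)
  -- the class equation
  have hR11 : 11 ≤ Nat.card R := by
    let size : ConjClasses G → ℕ := fun c => (Finset.univ.filter fun x : G => ConjClasses.mk x = c).card
    have hsum : ∑ c, size c = Nat.card G := by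
      rw [Nat.card_eq_fintype_card, ← Finset.card_univ,
        Finset.card_eq_sum_card_fiberwise (f := (ConjClasses.mk : G → ConjClasses G)) (t := Finset.univ)
          (fun x _ => Finset.mem_univ _)]
    have hsize : ∀ z : G, size (ConjClasses.mk z) * Nat.card (Subgroup.centralizer ({z} : Set G)) =
        Nat.card G := by
      intro z
      rw [← Char.card_conjugates_mul_card_centralizer z]
      congr 1
      show (Finset.univ.filter fun x : G => ConjClasses.mk x = ConjClasses.mk z).card = _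
      rw [Nat.card_eq_fintype_card]
      refine Eq.trans ?_ (Fintype.card_subtype _).symm
      exact congrArg Finset.card (Finset.filter_congr fun x _ => by
        simp only [ConjClasses.mk_eq_mk_iff_isConj, Set.mem_setOf_eq]
        exact isConj_comm)
    have hAsum : ∀ (A : Subgroup G) (w : ℕ), SSC A w →
        w * (∑ c ∈ classesOf A, size c) * Nat.card A = (Nat.card A - 1) * Nat.card G := by
      intro A w hA
      rw [mul_assoc, Finset.sum_mul, Finset.sum_const_nat (m := Nat.card G), ← card_classesOf hA]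
      · ring
      · intro c hc
        obtain ⟨a, ha, ha1, rfl⟩ := mem_classesOf.1 hc
        have h := hsize a
        rwa [hA.cent a ha ha1] at h
    obtain ⟨k1, k2, k3, k4⟩ := H.known_facts hu
    have e1 := k2 _ _ H.h₁
    have e2 := k2 _ _ H.h₂
    have e3 := k2 _ _ H.h₃
    have hys : size (ConjClasses.mk y) +
        (∑ c ∈ classesOf A₁, size c + ∑ c ∈ classesOf A₂, size c + ∑ c ∈ classesOf A₃, size c) ≤
          Nat.card G := by
      rw [← hsum, huniv, Finset.sum_insert (fun h => (Finset.mem_insert.1 h).elim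
          (fun e => hσy (ConjClasses.mk_eq_mk_iff_isConj.1 e)) hσK), Finset.sum_insert hyK, known,
        Finset.sum_union (by simp [e1.1, e1.2, e2.1, e2.2, e3.1, e3.2]), Finset.sum_union k4,
        Finset.sum_union k3]
      omega
    obtain ⟨m₂, hm₂⟩ := H.h₂.dvd_pred
    obtain ⟨m₃, hm₃⟩ := H.h₃.dvd_pred
    have a1 := hAsum _ _ H.h₁
    have a2 := hAsum _ _ H.h₂
    have a3 := hAsum _ _ H.h₃
    have hyq := hsize y
    rw [← hR] at hyq
    set g := Nat.card G
    set Y := size (ConjClasses.mk y)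
    set S₁ := ∑ c ∈ classesOf A₁, size c
    set S₂ := ∑ c ∈ classesOf A₂, size c
    set S₃ := ∑ c ∈ classesOf A₃, size c
    -- `11 (2 S) ≥ 10 g` and so on
    have hlow : ∀ (S n w m : ℕ), w * S * n = (n - 1) * g → m ≤ n → 1 ≤ m →
        (m - 1) * g ≤ w * S * m := by
      intro S n w m h hmn hm
      refine Nat.le_of_mul_le_mul_right ?_ (show 0 < n by omega)
      calc (m - 1) * g * n = (m - 1) * n * g := by ring
        _ ≤ (n - 1) * m * g := by
          refine Nat.mul_le_mul_right _ ?_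
          obtain ⟨a, rfl⟩ := Nat.exists_eq_add_of_le hm
          obtain ⟨b, rfl⟩ := Nat.exists_eq_add_of_le (le_trans (Nat.le_add_right 1 a) hmn)
          simp only [Nat.add_sub_cancel_left]
          nlinarith
        _ = (n - 1) * g * m := by ring
        _ = w * S * m * n := by rw [← h]; ring
    have b1 := hlow S₁ _ 2 11 a1 h11 (by norm_num)
    have b2 := hlow S₂ _ 4 9 a2 nine₂ (by norm_num)
    have b3 := hlow S₃ _ 4 13 a3 (by omega) (by norm_num)
    have hgpos : 0 < g := Nat.card_pos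
    have hY : 10 * Y < g := by omega
    by_contra hlt
    have : Y * Nat.card R ≤ Y * 10 := Nat.mul_le_mul_left _ (by omega)
    omega
  -- conjugacy inside the centraliser
  have hCb : ∀ b ∈ R, b ≠ 1 → ∃ g ∈ Subgroup.normalizer (R : Set G), g * y * g⁻¹ = b := by
    intro b hb hb1
    obtain ⟨g, hg⟩ := isConj_iff.1 (horder b (hRr b hb hb1))
    refine ⟨g, Subgroup.mem_normalizer_fintype (S := (R : Set G)) fun x hx => ?_, hg⟩
    have hle : R ≤ (Subgroup.centralizer ({b} : Set G)) := fun z hz =>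
      Subgroup.mem_centralizer_singleton_iff.2 (hRc z hz b hb)
    have hmap : R.map (MulAut.conj g).toMonoidHom = Subgroup.centralizer ({b} : Set G) := by
      ext z
      constructor
      · rintro ⟨z, hz, rfl⟩
        rw [Subgroup.mem_centralizer_singleton_iff, ← hg]
        show g * z * g⁻¹ * (g * y * g⁻¹) = g * y * g⁻¹ * (g * z * g⁻¹)
        rw [conj_mul, conj_mul, Subgroup.mem_centralizer_singleton_iff.1 hz]
      · intro hz
        refine ⟨g⁻¹ * z * g, ?_, by simp [mul_assoc]⟩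
        rw [SetLike.mem_coe, hR, Subgroup.mem_centralizer_singleton_iff]
        have := Subgroup.mem_centralizer_singleton_iff.1 hz
        rw [← hg] at this
        calc g⁻¹ * z * g * y = g⁻¹ * (z * (g * y * g⁻¹)) * g := by group
          _ = _ := by rw [this]; group
    have heq : R.map (MulAut.conj g).toMonoidHom = R := by
      rw [hmap]
      refine (Subgroup.eq_of_le_of_card_ge hle ?_).symm
      rw [← hmap, Subgroup.card_map_of_injective (MulAut.conj g).injective]
    rw [← heq]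
    exact ⟨x, hx, rfl⟩
  -- an involution inverting `y`
  have hyi : orderOf y⁻¹ = r := (orderOf_inv y).trans hy
  obtain ⟨g₀, hg₀N, hg₀⟩ := hCb y⁻¹ (R.inv_mem hyR) (fun e => hy1 (inv_eq_one.1 e))
  have hg2 : g₀ ^ 2 ∈ R := by
    rw [hR, Subgroup.mem_centralizer_singleton_iff]
    have h2 : g₀ * y⁻¹ * g₀⁻¹ = y := by rw [← conj_inv, hg₀, inv_inv]
    calc g₀ ^ 2 * y = g₀ * (g₀ * y * g₀⁻¹) * g₀⁻¹ * g₀ ^ 2 := by rw [pow_two]; group
      _ = g₀ * y⁻¹ * g₀⁻¹ * g₀ ^ 2 := by rw [hg₀]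
      _ = _ := by rw [h2]
  have hrodd : Odd r := hr.odd_of_ne_two hr2
  set v := g₀ ^ r with hvdef
  have hvv : v * v = 1 := by
    rw [hvdef, ← pow_add, ← two_mul, pow_mul]
    by_cases h : g₀ ^ 2 = 1
    · rw [h, one_pow]
    · have := pow_orderOf_eq_one (g₀ ^ 2)
      rwa [hRr _ hg2 h] at this
  have hvy : v * y * v⁻¹ = y⁻¹ := by
    obtain ⟨m, hm⟩ := hrodd
    rw [hvdef, hm, pow_succ', pow_mul]
    have hc : (g₀ ^ 2) ^ m * y = y * (g₀ ^ 2) ^ m :=
      Subgroup.mem_centralizer_singleton_iff.1 (R.pow_mem hg2 m)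
    rw [← hg₀, mul_inv_rev, show g₀ * (g₀ ^ 2) ^ m * y * (((g₀ ^ 2) ^ m)⁻¹ * g₀⁻¹) =
      g₀ * ((g₀ ^ 2) ^ m * y) * ((g₀ ^ 2) ^ m)⁻¹ * g₀⁻¹ by group, hc]
    group
  have hv : Inv' v := ⟨hvv, fun e => by
    rw [e, one_mul, inv_one, mul_one] at hvy
    have h2 : orderOf y ∣ 2 := orderOf_dvd_of_pow_eq_one (by rw [pow_two]; nth_rw 1 [hvy]; exact inv_mul_cancel y)
    rw [hy] at h2
    exact hr2 ((Nat.prime_dvd_prime_iff_eq hr Nat.prime_two).1 h2)⟩
  have hvN : v ∈ Subgroup.normalizer (R : Set G) := Subgroup.pow_mem _ hg₀N r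
  have hinvert : ∀ t : G, Inv' t → t ∈ Subgroup.normalizer (R : Set G) → ∀ b ∈ R, t * b * t = b⁻¹ := by
    intro t ht htN b hb
    have htb : t * b * t ∈ R := by
      have := (Subgroup.mem_normalizer_iff.1 htN b).1 hb
      rwa [ht.inv_eq] at this
    have hc : b * (t * b * t) * t = t * (b * (t * b * t)) := by
      calc b * (t * b * t) * t = b * (t * b) := by rw [mul_assoc b, mul_assoc (t * b), ht.1, mul_one]
        _ = (t * t) * (b * (t * b)) := by rw [ht.1, one_mul]
        _ = t * ((t * b * t) * b) := by simp only [mul_assoc]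
        _ = _ := by rw [hRc _ htb b hb]
    by_contra hne
    have hne' : b * (t * b * t) ≠ 1 := fun e => hne (eq_inv_of_mul_eq_one_right e)
    exact hrt (hRr _ (R.mul_mem hb htb) hne') ht hc
  set V := Subgroup.centralizer ({v} : Set G) ⊓ Subgroup.normalizer (R : Set G) with hV
  have hV8 : Nat.card V ≤ 8 := by
    refine small_two (v := v) (fun x hx => ?_) (fun x hx hx2 hx1 => ?_)
      ⟨Subgroup.mem_centralizer_singleton_iff.2 rfl, hvN⟩
    · by_cases h1 : x * x = 1
      · exact Or.inl h1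
      refine Or.inr ?_
      obtain ⟨g, hg⟩ := isConj_iff.1 (H.isConj_inv hv hu)
      have hm : g * x * g⁻¹ ∈ Subgroup.centralizer ({u} : Set G) := by
        rw [Subgroup.mem_centralizer_singleton_iff, ← hg, conj_mul, conj_mul,
          Subgroup.mem_centralizer_singleton_iff.1 hx.1]
      obtain ⟨m, hm'⟩ := hC ⟨_, hm⟩
      have hd : orderOf x ∣ 2 ^ m := by
        rw [← show orderOf (g * x * g⁻¹) = orderOf x from
          orderOf_injective (MulAut.conj g).toMonoidHom (MulAut.conj g).injective x]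
        exact orderOf_dvd_of_pow_eq_one (congrArg Subtype.val hm')
      rcases hcases x with h | h | h | h | ⟨A, w, g', hA, -, hm'', hm1⟩
      · exact absurd (by rw [h, one_mul]) h1
      · exact absurd (hu.of_isConj h).1 h1
      · exact (hconj h).symm.trans hσ
      · rw [← hconj h, hy] at hd
        exact absurd ((Nat.prime_dvd_prime_iff_eq hr Nat.prime_two).1 (hr.dvd_of_dvd_pow hd)) hr2
      · exfalso
        have ho : Odd (orderOf x) := by
          rw [show orderOf x = orderOf (g' * x * g'⁻¹) from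
            (orderOf_injective (MulAut.conj g').toMonoidHom (MulAut.conj g').injective x).symm]
          exact hA.orderOf_odd hm''
        have hx1 : orderOf x = 1 :=
          Nat.eq_one_of_dvd_coprimes ((Nat.coprime_two_left.2 ho).pow_left m) hd dvd_rfl
        rw [orderOf_eq_one_iff] at hx1
        exact h1 (by rw [hx1, one_mul])
    · have hxi : Inv' x := ⟨hx2, hx1⟩
      have h1 := hinvert x hxi hx.2 y hyR
      have hxv : x * v ∈ R := by
        rw [hR, Subgroup.mem_centralizer_singleton_iff]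
        have h2 := hinvert v hv hvN y hyR
        calc x * v * y = x * (v * y * v) * v := by simp only [mul_assoc]; rw [hvv, mul_one]
          _ = x * y⁻¹ * v := by rw [h2]
          _ = y * (x * v) := by
            rw [← h1, ← mul_assoc x, ← mul_assoc x, hx2, one_mul, mul_assoc]
      by_contra hne
      have hne1 : x * v ≠ 1 := fun e => hne (by rw [← inv_eq_of_mul_eq_one_left e, hv.inv_eq])
      exact hrt (hRr _ hxv hne1) hv (by
        rw [mul_assoc, hvv, mul_one, ← mul_assoc]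
        have hc := Subgroup.mem_centralizer_singleton_iff.1 hx.1
        rw [← hc, mul_assoc, hvv, mul_one])
  -- a translate in the centraliser of `v`
  have hsurj : ∀ b ∈ R, b ≠ 1 → ∃ g ∈ V, g * y * g⁻¹ = b := by
    intro b hb hb1
    obtain ⟨g, hgN, hg⟩ := hCb b hb hb1
    have hgv : g * v * g⁻¹ ∈ Subgroup.normalizer (R : Set G) :=
      Subgroup.mul_mem _ (Subgroup.mul_mem _ hgN hvN) (Subgroup.inv_mem _ hgN)
    set b₀ := v * (g * v * g⁻¹) with hb₀
    have hb₀R : b₀ ∈ R := by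
      rw [hR, Subgroup.mem_centralizer_singleton_iff]
      have e1 := hinvert _ (hv.conj g) hgv y hyR
      have e2 := hinvert v hv hvN y hyR
      set t := g * v * g⁻¹
      have htt : t * t = 1 := (hv.conj g).1
      calc b₀ * y = v * (t * y * t) * t := by rw [hb₀]; simp only [mul_assoc]; rw [htt, mul_one]
        _ = v * y⁻¹ * t := by rw [e1]
        _ = y * b₀ := by rw [hb₀, ← e2, ← mul_assoc v, ← mul_assoc v, hvv, one_mul, mul_assoc]
    have hw : g⁻¹ * b₀ * g ∈ R := by
      have := (Subgroup.mem_normalizer_iff.1 (Subgroup.inv_mem _ hgN) b₀).1 hb₀R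
      simpa using this
    set b₁ := g⁻¹ * b₀ * g
    obtain ⟨j, hj⟩ := hrodd
    set c := b₁ ^ (j + 1) with hcdef
    have hc : c ∈ R := R.pow_mem hw _
    have hcc : c * c = b₁ := by
      rw [hcdef, ← pow_add]
      by_cases h1 : b₁ = 1
      · rw [h1, one_pow]
      · rw [show j + 1 + (j + 1) = orderOf b₁ + 1 by rw [hRr _ hw h1]; omega, pow_succ,
          pow_orderOf_eq_one, one_mul]
    refine ⟨g * c, Subgroup.mem_inf.2 ⟨?_, Subgroup.mul_mem _ hgN (Subgroup.le_normalizer hc)⟩, ?_⟩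
    · rw [Subgroup.mem_centralizer_singleton_iff]
      have e2 := hinvert v hv hvN c hc
      have hcv : c * v = v * c⁻¹ := by
        rw [← e2, ← mul_assoc, ← mul_assoc, hvv, one_mul]
      have hgv' : g * v * g⁻¹ = v * b₀ := by rw [hb₀, ← mul_assoc, hvv, one_mul]
      calc g * c * v = (g * v * g⁻¹) * g * c⁻¹ := by rw [mul_assoc g c v, hcv]; group
        _ = v * b₀ * g * c⁻¹ := by rw [hgv']
        _ = v * g * (g⁻¹ * b₀ * g) * c⁻¹ := by group
        _ = v * g * (c * c) * c⁻¹ := by rw [hcc]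
        _ = _ := by group
    · rw [mul_inv_rev, show g * c * y * (c⁻¹ * g⁻¹) = g * (c * y * c⁻¹) * g⁻¹ by group,
        hRc c hc y hyR, mul_inv_cancel_right, hg]
  choose f hfV hf using hsurj
  have hinj : Nat.card {b : R // (b : G) ≠ 1} ≤ Nat.card V := by
    refine Nat.card_le_card_of_injective
      (fun b => (⟨f b.1 b.1.2 b.2, hfV b.1 b.1.2 b.2⟩ : V)) fun a b e => ?_
    have e' : f a.1 a.1.2 a.2 = f b.1 b.1.2 b.2 := congrArg Subtype.val e
    refine Subtype.ext (Subtype.ext ?_)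
    rw [← hf a.1 a.1.2 a.2, ← hf b.1 b.1.2 b.2, e']
  have hcard : Nat.card {b : R // (b : G) ≠ 1} = Nat.card R - 1 := by
    rw [Nat.card_eq_fintype_card, Nat.card_eq_fintype_card,
      Fintype.card_subtype_compl (fun b : R => (b : G) = 1)]
    congr 1
    exact Fintype.card_eq_one_iff.2 ⟨⟨1, rfl⟩, fun z => Subtype.ext (Subtype.ext z.2)⟩
  omega

end Ctx

theorem two_pow_eq {a b m k : ℕ} (ha : Odd a) (hb : Odd b) (h : a * 2 ^ m = b * 2 ^ k) : m = k ∧ a = b := by
  have h1 : 2 ^ m ∣ 2 ^ k := ((Nat.coprime_two_left.2 hb).pow_left m).dvd_of_dvd_mul_left (h ▸ dvd_mul_left _ _)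
  have h2 : 2 ^ k ∣ 2 ^ m := ((Nat.coprime_two_left.2 ha).pow_left k).dvd_of_dvd_mul_left (h.symm ▸ dvd_mul_left _ _)
  have : m = k := le_antisymm ((Nat.pow_dvd_pow_iff_le_right (by norm_num)).1 h1)
    ((Nat.pow_dvd_pow_iff_le_right (by norm_num)).1 h2)
  exact ⟨this, Nat.eq_of_mul_eq_mul_right (by positivity) (this ▸ h)⟩

/-- The order excludes `PSL₂(q)` of the list. -/
theorem psl_two_false {n₁ n₂ n₃ q m : ℕ} (h₁ : 11 ≤ n₁) (h₂ : 9 ≤ n₂) (h₃ : 13 ≤ n₃)
    (ho₁ : Odd n₁) (ho₂ : Odd n₂) (ho₃ : Odd n₃) (hZ : 2 * n₁ + 4 ≤ n₂ + n₃ + 12)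
    (hP : n₂ * n₃ = 2 ^ m + 1 ∨ n₂ * n₃ + 1 = 2 ^ m)
    (hq : q = 9 ∨ (∃ k, q = 2 ^ k) ∨ (q.Prime ∧ ∃ k, q = 2 ^ k + 1 ∨ q + 1 = 2 ^ k)) (hq2 : 2 ≤ q)
    (hodd : Odd q → 2 * (n₁ * (n₂ * n₃) * 2 ^ m) = q * (q ^ 2 - 1))
    (heven : Even q → n₁ * (n₂ * n₃) * 2 ^ m = q * (q ^ 2 - 1)) : False := by
  have hPbig : 117 ≤ n₂ * n₃ := Nat.mul_le_mul h₂ h₃
  have hN : Odd (n₁ * (n₂ * n₃)) := Nat.odd_mul.2 ⟨ho₁, Nat.odd_mul.2 ⟨ho₂, ho₃⟩⟩
  have hm : 116 ≤ 2 ^ m := by omega
  rcases hq with rfl | ⟨k, rfl⟩ | ⟨hqp, k, hk⟩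
  · have := hodd (by decide)
    have hb : 11 * 117 * 116 ≤ n₁ * (n₂ * n₃) * 2 ^ m := Nat.mul_le_mul (Nat.mul_le_mul h₁ hPbig) hm
    omega
  · have hk0 : k ≠ 0 := by rintro rfl; norm_num at hq2
    have hev : Even (2 ^ k) := Nat.even_pow.2 ⟨even_two, hk0⟩
    have h := heven hev
    have hq1 : Odd ((2 ^ k) ^ 2 - 1) := by
      have hev2 : Even ((2 ^ k) ^ 2) := Nat.even_pow.2 ⟨hev, two_ne_zero⟩
      have : 1 ≤ (2 ^ k) ^ 2 := Nat.one_le_pow _ _ (by omega)
      obtain ⟨c, hc⟩ := hev2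
      exact ⟨c - 1, by omega⟩
    obtain ⟨rfl, hN'⟩ := two_pow_eq hN hq1 (h.trans (mul_comm _ _))
    set q := 2 ^ m
    have hsq : q ^ 2 - 1 = (q + 1) * (q - 1) := by
      simpa using Nat.sq_sub_sq q 1
    rw [hsq] at hN'
    have hn1 : q ≤ n₁ + 1 := by
      rcases hP with e | e
      · have h' : n₁ * (q + 1) = (q - 1) * (q + 1) := by rw [← e, hN', e, mul_comm]
        have := Nat.eq_of_mul_eq_mul_right (by omega) h'
        omega
      · have e' : n₂ * n₃ = q - 1 := by omega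
        have h' : n₁ * (q - 1) = (q + 1) * (q - 1) := by rw [← e', hN', e']
        have := Nat.eq_of_mul_eq_mul_right (by omega) h'
        omega
    have h9 : 9 * (n₂ + n₃) ≤ n₂ * n₃ + 81 := by
      obtain ⟨a, rfl⟩ := Nat.exists_eq_add_of_le h₂
      obtain ⟨b, rfl⟩ := Nat.exists_eq_add_of_le (show 9 ≤ n₃ by omega)
      nlinarith
    omega
  · have hk0 : 2 ≤ k := by
      by_contra hlt
      have hqeq : q ≤ 3 := by
        interval_cases k <;> simp at hk <;> omega
      rcases Nat.even_or_odd q with he | ho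
      · have := heven he
        have : q * (q ^ 2 - 1) ≤ 3 * (3 ^ 2 - 1) :=
          Nat.mul_le_mul hqeq (Nat.sub_le_sub_right (Nat.pow_le_pow_left hqeq 2) 1)
        have hb : 11 * 117 * 116 ≤ n₁ * (n₂ * n₃) * 2 ^ m := Nat.mul_le_mul (Nat.mul_le_mul h₁ hPbig) hm
        omega
      · have := hodd ho
        have : q * (q ^ 2 - 1) ≤ 3 * (3 ^ 2 - 1) :=
          Nat.mul_le_mul hqeq (Nat.sub_le_sub_right (Nat.pow_le_pow_left hqeq 2) 1)
        have hb : 11 * 117 * 116 ≤ n₁ * (n₂ * n₃) * 2 ^ m := Nat.mul_le_mul (Nat.mul_le_mul h₁ hPbig) hm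
        omega
    obtain ⟨l, rfl⟩ := Nat.exists_eq_add_of_le hk0
    have hpk : 2 ^ (2 + l) = 4 * 2 ^ l := by rw [pow_add]; norm_num
    have hl1 : 1 ≤ 2 ^ l := Nat.one_le_two_pow
    have hqo : Odd q := by
      rcases hk with e | e
      · exact ⟨2 * 2 ^ l, by omega⟩
      · exact ⟨2 * 2 ^ l - 1, by omega⟩
    have h := hodd hqo
    have hnotq : n₂ * n₃ ≠ q := fun e =>
      Nat.not_prime_mul (by omega) (by omega) (e ▸ hqp)
    rcases hk with e | e
    · have hval : q ^ 2 - 1 = 2 ^ (2 + l) * (2 * (2 * 2 ^ l + 1)) := by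
        refine Nat.sub_eq_of_eq_add ?_
        rw [e, hpk]; ring
      have h' : n₁ * (n₂ * n₃) * 2 ^ m = q * (2 * 2 ^ l + 1) * 2 ^ (2 + l) := by
        rw [hval] at h
        refine Nat.eq_of_mul_eq_mul_left two_pos (h.trans ?_)
        ring
      obtain ⟨rfl, hN'⟩ := two_pow_eq hN (Nat.odd_mul.2 ⟨hqo, ⟨2 ^ l, rfl⟩⟩) h'
      rcases hP with e' | e'
      · exact hnotq (by omega)
      · have hcop : (n₂ * n₃).Coprime q :=
          ((Nat.Prime.coprime_iff_not_dvd hqp).2 fun hd => by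
            obtain ⟨c, hc⟩ := hd
            rcases c with _ | _ | c
            · omega
            · omega
            · nlinarith).symm
        have hd : n₂ * n₃ ∣ 2 * 2 ^ l + 1 := hcop.dvd_of_dvd_mul_left (hN' ▸ dvd_mul_left _ _)
        have := Nat.le_of_dvd (by omega) hd
        omega
    · have hq' : q = 4 * 2 ^ l - 1 := by omega
      have hval : q ^ 2 - 1 = 2 ^ (2 + l) * (2 * (2 * 2 ^ l - 1)) := by
        refine Nat.sub_eq_of_eq_add ?_
        obtain ⟨c, hc⟩ := Nat.exists_eq_add_of_le hl1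
        rw [hq', hpk, hc, show 4 * (1 + c) - 1 = 4 * c + 3 by omega, show 2 * (1 + c) - 1 = 2 * c + 1 by omega]
        ring
      have h' : n₁ * (n₂ * n₃) * 2 ^ m = q * (2 * 2 ^ l - 1) * 2 ^ (2 + l) := by
        rw [hval] at h
        refine Nat.eq_of_mul_eq_mul_left two_pos (h.trans ?_)
        ring
      obtain ⟨rfl, hN'⟩ := two_pow_eq hN (Nat.odd_mul.2 ⟨hqo, ⟨2 ^ l - 1, by omega⟩⟩) h'
      rcases hP with e' | e'
      · have hcop : (n₂ * n₃).Coprime q :=
          ((Nat.Prime.coprime_iff_not_dvd hqp).2 fun hd => by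
            obtain ⟨c, hc⟩ := hd
            rcases c with _ | _ | c
            · omega
            · omega
            · nlinarith).symm
        have hd : n₂ * n₃ ∣ 2 * 2 ^ l - 1 := hcop.dvd_of_dvd_mul_left (hN' ▸ dvd_mul_left _ _)
        have := Nat.le_of_dvd (by omega) hd
        omega
      · exact hnotq (by omega)

theorem psl_three_false {n₁ n₂ n₃ m : ℕ} (h₁ : 11 ≤ n₁) (h₂ : 9 ≤ n₂) (h₃ : 13 ≤ n₃)
    (ho₁ : Odd n₁) (ho₂ : Odd n₂) (ho₃ : Odd n₃) (h : n₁ * (n₂ * n₃) * 2 ^ m = 20160) : False := by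
  have hN : Odd (n₁ * (n₂ * n₃)) := Nat.odd_mul.2 ⟨ho₁, Nat.odd_mul.2 ⟨ho₂, ho₃⟩⟩
  obtain ⟨-, h'⟩ := two_pow_eq (b := 315) (k := 6) hN (by decide) (by rw [h]; norm_num)
  have : 11 * (9 * 13) ≤ n₁ * (n₂ * n₃) := Nat.mul_le_mul h₁ (Nat.mul_le_mul h₂ h₃)
  omega

theorem isoSuzuki_of_lt {G : Type*} [Group G] [Finite G] [IsSimpleGroup G] (hnc : ∃ a b : G, a * b ≠ b * a)
    {A₁ A₂ A₃ : Subgroup G} [Fintype G] (H : Ctx A₁ A₂ A₃) (h23 : Nat.card A₂ < Nat.card A₃)
    (hord : Nat.card G ≤ 3 * (Nat.card A₁ * (Nat.card A₂ * Nat.card A₃)) ^ 2)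
    (hab : ∀ r : ℕ, r.Prime → r ≠ 2 → ¬ r ∣ Nat.card A₁ * Nat.card A₂ * Nat.card A₃ →
      ∀ P : Sylow r G, IsMulCommutative ↥(P : Subgroup G)) : Lie.IsoSuzuki G := by
  classical
  haveI : Fintype (IrrCharacter G) := Fintype.ofFinite _
  haveI : Fintype (Irr₀ G) := Fintype.ofFinite _
  obtain ⟨u, hu1, hu2, -⟩ := H.h₁.exists_inv
  have hu : Inv' u := ⟨hu1, hu2⟩
  have hodd := H.odd_index hu
  obtain ⟨B, hBodd, hg, hP, hk, h11, -, hZ⟩ := H.arith h23 hord hu
  have hC := H.isPGroup_centralizer hu hk h11 hab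
  haveI : Fact (Nat.Prime 2) := ⟨Nat.prime_two⟩
  obtain ⟨m, hm⟩ := IsPGroup.iff_card.1 hC
  have hB1 : B = 1 := by
    by_contra hne
    obtain ⟨r, hr, hrB⟩ := Nat.exists_prime_and_dvd hne
    have hr2 : r ≠ 2 := by rintro rfl; exact hBodd.not_two_dvd_nat hrB
    have hrG : r ∣ Nat.card G := hg ▸ (hrB.mul_left _).mul_left _
    have hrA : r ∣ Nat.card A₁ * Nat.card A₂ * Nat.card A₃ := by
      by_contra hrN
      exact H.odd_part hu hk h11 h23 hC hab hr hr2 hrN hrG
    -- the index of each subgroup is prime to its order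
    have key : ∀ (A : Subgroup G) (w : ℕ), SSC A w → Nat.card A * r ∣ Nat.card G → ¬ r ∣ Nat.card A := by
      intro A w hA hd hrA
      rw [← A.card_mul_index] at hd
      exact hr.ne_one (Nat.eq_one_of_dvd_coprimes hA.coprime_index hrA
        ((Nat.mul_dvd_mul_iff_left Nat.card_pos).1 hd))
    have hdiv : ∀ c, c ∣ Nat.card A₁ * (Nat.card A₂ * Nat.card A₃) → c * r ∣ Nat.card G := fun c hc =>
      hg ▸ mul_dvd_mul hc (hrB.mul_left _)
    rcases (Nat.Prime.dvd_mul hr).1 hrA with h | h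
    rcases (Nat.Prime.dvd_mul hr).1 h with h | h
    · exact key _ _ H.h₁ (hdiv _ (dvd_mul_right _ _)) h
    · exact key _ _ H.h₂ (hdiv _ ((dvd_mul_right _ _).mul_left _)) h
    · exact key _ _ H.h₃ (hdiv _ ((dvd_mul_left _ _).mul_left _)) h
  rw [hB1, hm, mul_one] at hg hP
  have hcit : CIT.IsCIT G := fun t ht => by
    have hti : Inv' t := ⟨by rw [← pow_two, ← ht, pow_orderOf_eq_one],
      fun e => by rw [e, orderOf_one] at ht; omega⟩
    obtain ⟨g, hg'⟩ := isConj_iff.1 (H.isConj_inv hti hu)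
    refine IsPGroup.of_card (n := m) ?_
    rw [← hm]
    have h1 := H.card_inv_mul hti
    have h2 := H.card_inv_mul hu
    haveI : Nonempty {x : G // Inv' x} := ⟨⟨u, hu⟩⟩
    exact Nat.eq_of_mul_eq_mul_left Nat.card_pos (h1.trans h2.symm)
  have n2 := H.h₂.nine H.five₂
  have n3 : 13 ≤ Nat.card A₃ := by
    obtain ⟨k, hk'⟩ := H.h₃.dvd_pred
    omega
  rcases CITClass.classify hnc hcit with ⟨F, _, _, hF, ⟨e⟩⟩ | ⟨F, _, _, hF, ⟨e⟩⟩ | h
  · exfalso
    have hcard := Nat.card_congr e.toEquiv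
    have hq2 : 2 ≤ Nat.card F := by rw [Nat.card_eq_fintype_card]; exact Fintype.one_lt_card
    refine psl_two_false h11 n2 n3 H.h₁.odd H.h₂.odd H.h₃.odd hZ hP
      (by rw [Nat.card_eq_fintype_card]; exact hF) hq2 (fun ho => ?_) fun he => ?_
    · rw [← hg, hcard, GLOrder.card_PSL_two_of_odd ho]
    · rw [← hg, hcard, GLOrder.card_PSL_two_of_even he]
  · exfalso
    have hcard := Nat.card_congr e.toEquiv
    refine psl_three_false (m := m) h11 n2 n3 H.h₁.odd H.h₂.odd H.h₃.odd ?_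
    rw [← hg, hcard, GLOrder.card_PSL, GLOrder.card_SL, Nat.card_eq_fintype_card (α := F), hF]
    norm_num [Finset.prod_Ico_succ_top]
  · exact h

theorem isoSuzuki {G : Type*} [Group G] [Finite G] [IsSimpleGroup G] (hnc : ∃ a b : G, a * b ≠ b * a)
    {A₁ A₂ A₃ : Subgroup G} [Fintype G] (H : Ctx A₁ A₂ A₃)
    (hord : Nat.card G ≤ 3 * (Nat.card A₁ * (Nat.card A₂ * Nat.card A₃)) ^ 2)
    (hab : ∀ r : ℕ, r.Prime → r ≠ 2 → ¬ r ∣ Nat.card A₁ * Nat.card A₂ * Nat.card A₃ →
      ∀ P : Sylow r G, IsMulCommutative ↥(P : Subgroup G)) : Lie.IsoSuzuki G := by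
  classical
  haveI : Fintype (IrrCharacter G) := Fintype.ofFinite _
  haveI : Fintype (Irr₀ G) := Fintype.ofFinite _
  rcases lt_trichotomy (Nat.card A₂) (Nat.card A₃) with h | h | h
  · exact isoSuzuki_of_lt hnc H h hord hab
  · exfalso
    have hc := H.h₂.coprime_of_not_conj H.h₃ H.d₂₃
    rw [h, Nat.coprime_self] at hc
    have := H.five₃
    omega
  · refine isoSuzuki_of_lt hnc H.swap h (by rwa [mul_comm (Nat.card A₃)]) ?_
    intro r hr hr2 hrN
    exact hab r hr hr2 (by rwa [mul_right_comm] at hrN)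

end Cfsg.Agent.SelfCent
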